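import Groth.Agent.Morse46.Pn
import Groth.Agent.Hensel.Local
import Groth.Agent.Hensel.QuasiFiniteSplit
import Mathlib.RingTheory.DualNumber
import Mathlib.RingTheory.Nakayama

/-!
# First-order theory of `Pn A N`

The coordinates are independent modulo `𝔪_A + 𝔪²`, and every element of the maximal ideal is a linear
combination of them modulo this ideal.
-/

set_option linter.style.haveILetI false
set_option linter.unusedSectionVars false

noncomputable section

namespace Groth.Agent.Morse46

open IsLocalRing MvPolynomial VanCyc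

open scoped DualNumber

universe u

instance henselianLocalRing_dualNumber (K : Type u) [Field K] : HenselianLocalRing K[ε] :=
  haveI : Module.Finite K K[ε] := inferInstanceAs (Module.Finite K (K × K))
  Hensel.henselianLocalRing_of_finite K K[ε]

variable {A : Type u} [CommRing A] [IsLocalRing A] {N : ℕ}

instance isLocalHom_algebraMap_dualNumber : IsLocalHom (algebraMap A (ResidueField A)[ε]) :=
  ⟨fun a ha => by
    have := ha.map (TrivSqZeroExt.fstHom (ResidueField A) (ResidueField A) (ResidueField A))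
    exact isUnit_of_map_unit (residue A) a this⟩

variable (A N) in
/-- `𝔪_A + 𝔪²` in `Pn A N`. -/
def W : Ideal (Pn A N) :=
  (maximalIdeal A).map (algebraMap A (Pn A N)) ⊔ maximalIdeal (Pn A N) ^ 2

theorem W_le : W A N ≤ maximalIdeal (Pn A N) :=
  sup_le map_le_maximalIdeal (Ideal.pow_le_self two_ne_zero)

/-- The derivative along a coordinate at the closed point. -/
theorem exists_partial (j : Fin N) : ∃ φ : Pn A N →ₐ[A] (ResidueField A)[ε],
    (∀ i, φ (x i) = if i = j then ε else 0) ∧ ∀ z ∈ W A N, φ z = 0 := by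
  have hm : ∀ i, (if i = j then (ε : (ResidueField A)[ε]) else 0) ∈ maximalIdeal (ResidueField A)[ε] := fun i => by
    rw [DualNumber.maximalIdeal_eq_span_singleton_eps]
    split
    · exact Ideal.subset_span rfl
    · exact zero_mem _
  obtain ⟨φ, hφ⟩ := exists_algHom (A := A) (T := (ResidueField A)[ε]) _ hm
  refine ⟨φ, hφ, fun z hz => ?_⟩
  have hloc : IsLocalHom φ.toRingHom := isLocalHom_of_algHom fun i => (hφ i).symm ▸ hm i
  have hW : W A N ≤ RingHom.ker φ.toRingHom := by
    refine sup_le (Ideal.map_le_iff_le_comap.2 fun a ha => ?_) ?_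
    · show φ (algebraMap A (Pn A N) a) = 0
      rw [φ.commutes, IsScalarTower.algebraMap_apply A (ResidueField A) (ResidueField A)[ε],
        IsLocalRing.ResidueField.algebraMap_eq, (residue_eq_zero_iff a).2 ha, map_zero]
    · have hεε : Ideal.span {(ε : (ResidueField A)[ε])} ^ 2 = ⊥ := by
        rw [Ideal.span_singleton_pow, sq, DualNumber.eps_mul_eps, Ideal.span_singleton_eq_bot]
      refine fun y hy => (Submodule.mem_bot (R := (ResidueField A)[ε])).1 ?_
      rw [← hεε, ← DualNumber.maximalIdeal_eq_span_singleton_eps]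
      have := Ideal.mem_map_of_mem φ.toRingHom hy
      rw [Ideal.map_pow] at this
      have h1 : (maximalIdeal (Pn A N)).map φ.toRingHom ≤ maximalIdeal (ResidueField A)[ε] :=
        Ideal.map_le_iff_le_comap.2 fun a ha => Ideal.mem_comap.2 (map_nonunit φ.toRingHom a ha)
      exact Ideal.pow_right_mono h1 2 this
  exact hW hz

/-- The coordinates are independent modulo `𝔪_A + 𝔪²`. -/
theorem coeff_mem_of_sum_mem (c : Fin N → A) (h : ∑ j, algebraMap A (Pn A N) (c j) * x j ∈ W A N) (j : Fin N) :
    c j ∈ maximalIdeal A := by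
  obtain ⟨φ, hφ, hW⟩ := exists_partial (A := A) j
  have h1 := hW _ h
  simp only [map_sum, map_mul, AlgHom.commutes, hφ, mul_ite, mul_zero, Finset.sum_ite_eq',
    Finset.mem_univ, if_true] at h1
  have h2 := congrArg TrivSqZeroExt.snd h1
  rw [← residue_eq_zero_iff]
  simpa [TrivSqZeroExt.algebraMap_eq_inl', IsLocalRing.ResidueField.algebraMap_eq] using h2

/-- Elements of the maximal ideal are linear in the coordinates modulo `𝔪_A + 𝔪²`. -/
theorem exists_linear {z : Pn A N} (hz : z ∈ maximalIdeal (Pn A N)) :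
    ∃ c : Fin N → A, z - ∑ j, algebraMap A (Pn A N) (c j) * x j ∈ W A N := by
  rw [maximalIdeal_eq] at hz
  obtain ⟨a, ha, b, hb, rfl⟩ := Submodule.mem_sup.1 hz
  obtain ⟨g, hg⟩ := Submodule.mem_span_range_iff_exists_fun (Pn A N) |>.1 hb
  choose c hc using fun j => exists_sub_mem (g j)
  refine ⟨c, ?_⟩
  rw [← hg, add_sub_assoc, ← Finset.sum_sub_distrib]
  refine add_mem (Ideal.mem_sup_left ha) (Ideal.mem_sup_right (Submodule.sum_mem _ fun j _ => ?_))
  rw [smul_eq_mul, ← sub_mul, sq]
  exact Ideal.mul_mem_mul (hc j) (x_mem j)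

theorem sum_mem_W {g : Fin N → A} (hg : ∀ j, g j ∈ maximalIdeal A) (v : Fin N → Pn A N) :
    ∑ j, algebraMap A (Pn A N) (g j) * v j ∈ W A N :=
  Submodule.sum_mem _ fun j _ =>
    Ideal.mem_sup_left (Ideal.mul_mem_right _ _ (Ideal.mem_map_of_mem _ (hg j)))

/-- Nakayama: generators modulo `𝔪_A + 𝔪²` generate modulo `𝔪_A`. -/
theorem maximalIdeal_le_of_le {N' : Ideal (Pn A N)}
    (hA : (maximalIdeal A).map (algebraMap A (Pn A N)) ≤ N')
    (h : ∀ j, (x j : Pn A N) ∈ N' ⊔ W A N) : maximalIdeal (Pn A N) ≤ N' := by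
  rw [maximalIdeal_eq]
  refine sup_le hA ?_
  refine Submodule.le_of_le_smul_of_le_jacobson_bot (Submodule.fg_span (Set.finite_range _))
    (IsLocalRing.jacobson_eq_maximalIdeal (⊥ : Ideal (Pn A N)) bot_ne_top).ge ?_
  rw [Ideal.span_le]
  rintro _ ⟨j, rfl⟩
  refine (sup_le le_sup_left ?_ : N' ⊔ W A N ≤ N' ⊔ maximalIdeal (Pn A N) • Ideal.span (Set.range x)) (h j)
  refine sup_le (hA.trans le_sup_left) ?_
  rw [sq, maximalIdeal_eq, Ideal.sup_mul, Ideal.mul_sup, Ideal.mul_sup, smul_eq_mul, Ideal.sup_mul]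
  refine sup_le (sup_le ?_ ?_) (sup_le ?_ ?_)
  · exact (Ideal.mul_le_right.trans hA).trans le_sup_left
  · exact le_sup_of_le_right le_sup_left
  · exact (Ideal.mul_le_right.trans hA).trans le_sup_left
  · exact le_sup_of_le_right le_sup_right

end Groth.Agent.Morse46
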