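import Groth.Agent.Morse46.Surj
import Groth.Agent.Morse46.Linear

/-!
# Inverse function theorem in the henselization of affine space
-/

set_option linter.style.haveILetI false
set_option linter.unusedSectionVars false

noncomputable section

namespace Groth.Agent.Morse46

open IsLocalRing MvPolynomial VanCyc

universe u

variable {A : Type u} [CommRing A] [IsLocalRing A] {N : ℕ}

/-- An endomorphism whose images of the coordinates generate the maximal ideal modulo `𝔪_A` is
surjective. -/
theorem surjective_of_generates (σ : Pn A N →ₐ[A] Pn A N)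
    (hm : ∀ i, σ (x i) ∈ maximalIdeal (Pn A N))
    (hgen : maximalIdeal (Pn A N) ≤
      (maximalIdeal A).map (algebraMap A (Pn A N)) ⊔ Ideal.span (Set.range fun i => σ (x i))) :
    Function.Surjective σ := by
  classical
  set o : Ideal (MvPolynomial (Fin N) A) := originIdeal A with ho
  letI : Algebra (MvPolynomial (Fin N) A) (Pn A N) := (ι (A := A) (N := N)).toAlgebra
  -- `Pn A N` is a quotient of the henselization of the pair `(A[X], o)`
  have hfrac : ∀ (s : Finset (Pn A N)), ∃ (B₀ : Type u) (_ : CommRing B₀) (_ : Algebra (MvPolynomial (Fin N) A) B₀)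
      (_ : Algebra.Etale (MvPolynomial (Fin N) A) B₀) (β : B₀ →ₐ[MvPolynomial (Fin N) A] Pn A N),
      ∀ z ∈ s, z ∈ Set.range β := by
    intro s
    let H := Hensel.Henz (MvPolynomial (Fin N) A) (MvPolynomial (Fin N) A ⧸ o)
    have hHens : HenselianRing H (o.map (algebraMap (MvPolynomial (Fin N) A) H)) :=
      (Hensel.isPairHenselization_pairHenz (MvPolynomial (Fin N) A) o).1
    have hmap : o.map (algebraMap (MvPolynomial (Fin N) A) (Pn A N)) ≤ maximalIdeal (Pn A N) :=
      Ideal.map_le_iff_le_comap.2 fun p hp => ι_mem_maximalIdeal hp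
    obtain ⟨g, hg, -⟩ := (Hensel.isPairHenselization_pairHenz (MvPolynomial (Fin N) A) o).2 (Pn A N)
      (maximalIdeal (Pn A N)) (algebraMap (MvPolynomial (Fin N) A) (Pn A N)) inferInstance hmap
    let gₐ : H →ₐ[MvPolynomial (Fin N) A] Pn A N := { g with commutes' := fun p => RingHom.congr_fun hg p }
    -- `H` maps onto `Pn A N`
    haveI : IsLocalRing H := by
      have hne : Nontrivial H := g.domain_nontrivial
      refine IsLocalRing.of_nonunits_add fun a b ha hb hu => ?_
      have hk : ∀ c : H, ¬IsUnit c → Hensel.Henz.proj _ _ c = 0 := fun c hc => by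
        letI := Ideal.Quotient.field o
        by_contra h0
        exact hc (Hensel.Henz.isUnit_iff.2 (isUnit_iff_ne_zero.2 h0))
      have := hu.map (Hensel.Henz.proj (MvPolynomial (Fin N) A) (MvPolynomial (Fin N) A ⧸ o))
      rw [map_add, hk a ha, hk b hb, add_zero] at this
      exact not_isUnit_zero this
    have hmaxH : maximalIdeal H = o.map (algebraMap (MvPolynomial (Fin N) A) H) := by
      rw [← Hensel.ker_proj_pairHenz]
      refine le_antisymm (fun c hc => ?_) (IsLocalRing.le_maximalIdeal (RingHom.ker_ne_top _))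
      letI := Ideal.Quotient.field o
      by_contra h0
      exact (IsLocalRing.mem_maximalIdeal c).1 hc (Hensel.Henz.isUnit_iff.2 (isUnit_iff_ne_zero.2 h0))
    haveI : HenselianRing H (maximalIdeal H) := hmaxH ▸ hHens
    haveI : HenselianLocalRing H := Hensel.henselianLocalRing_of_henselianRing H
    have hu : ∀ p : o.primeCompl, IsUnit (algebraMap (MvPolynomial (Fin N) A) H p) := fun p => by
      rw [← IsLocalRing.notMem_maximalIdeal]
      intro h
      refine p.2 ?_
      rw [hmaxH, ← Hensel.ker_proj_pairHenz, RingHom.mem_ker, AlgHom.commutes] at h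
      exact Ideal.Quotient.eq_zero_iff_mem.1 h
    let L : Loc A N →+* H := IsLocalization.lift hu
    haveI : IsLocalHom L := ((local_hom_TFAE L).out 2 0).1 (by
      rw [← Localization.AtPrime.map_eq_maximalIdeal, Ideal.map_map, IsLocalization.lift_comp, hmaxH])
    obtain ⟨g', hg', -⟩ := (Hensel.isHenselization_localHenz (Loc A N)).universal H L inferInstance
    have hgg : g.comp g' = RingHom.id (Pn A N) :=
      ((Hensel.isHenselization_localHenz (Loc A N)).universal (Pn A N) (algebraMap (Loc A N) (Pn A N))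
        inferInstance).unique (by
          rw [RingHom.comp_assoc, hg']
          refine IsLocalization.ringHom_ext o.primeCompl ?_
          rw [RingHom.comp_assoc, IsLocalization.lift_comp, hg]
          rfl) (RingHom.id_comp _)
    -- a common stage
    obtain ⟨M, -, hM⟩ := Hensel.Henz.exists_of_finset (R := MvPolynomial (Fin N) A)
      (K := MvPolynomial (Fin N) A ⧸ o) (Classical.arbitrary _) (s.image g')
    choose w hw using fun z : s => hM (g' z) (Finset.mem_image_of_mem _ z.2)
    obtain ⟨D, hD⟩ := IsLocalization.exist_integer_multiples M.S (Finset.univ : Finset s) w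
    let b' : M.B →ₐ[MvPolynomial (Fin N) A] Pn A N :=
      (gₐ.comp (Hensel.Henz.of M)).comp (IsScalarTower.toAlgHom _ M.B M.Stage)
    have hDu : IsUnit (b' D) :=
      ((IsLocalization.map_units M.Stage D).map (Hensel.Henz.of M)).map gₐ
    haveI : Algebra.Etale (MvPolynomial (Fin N) A) (Localization.Away (D : M.B)) :=
      Algebra.Etale.comp _ M.B _
    let L₁ : Localization.Away (D : M.B) →ₐ[MvPolynomial (Fin N) A] Pn A N :=
      IsLocalization.Away.liftAlgHom (D : M.B) (f := b') hDu
    have hL₁ : ∀ b, L₁ (algebraMap M.B (Localization.Away (D : M.B)) b) = b' b := fun b => by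
      simp [L₁]
    refine ⟨Localization.Away (D : M.B), inferInstance, inferInstance, inferInstance, L₁, fun z hz => ?_⟩
    obtain ⟨c, hc⟩ := hD ⟨z, hz⟩ (Finset.mem_univ _)
    refine ⟨algebraMap M.B _ c * IsLocalization.Away.invSelf (D : M.B), ?_⟩
    have hinv : b' D * L₁ (IsLocalization.Away.invSelf (D : M.B)) = 1 := by
      rw [← hL₁, ← map_mul, IsLocalization.Away.mul_invSelf, map_one]
    have hzc : b' c = z * b' D := by
      show gₐ (Hensel.Henz.of M (algebraMap M.B M.Stage c)) = _
      rw [hc, Algebra.smul_def, map_mul, map_mul, hw, mul_comm]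
      exact congrArg (· * _) (RingHom.congr_fun hgg z)
    rw [map_mul, hL₁, hzc, mul_assoc, hinv, mul_one]
  obtain ⟨B₀, _, _, _, β, hβ⟩ := hfrac (Finset.univ.image fun i => σ (x i))
  choose y hy using fun i => hβ _ (Finset.mem_image_of_mem (fun i => σ (x i)) (Finset.mem_univ i))
  letI : Algebra A B₀ := Algebra.compHom B₀ (algebraMap A (MvPolynomial (Fin N) A))
  haveI : IsScalarTower A (MvPolynomial (Fin N) A) B₀ := .of_algebraMap_eq' rfl
  haveI : Algebra.FiniteType A B₀ :=
    Algebra.FiniteType.trans (S := MvPolynomial (Fin N) A) inferInstance inferInstance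
  have hβA : ∀ a, β (algebraMap A B₀ a) = algebraMap A (Pn A N) a := fun a => by
    rw [IsScalarTower.algebraMap_apply A (MvPolynomial (Fin N) A) B₀, AlgHom.commutes]
    rfl
  let Q : Ideal B₀ := (maximalIdeal (Pn A N)).comap β.toRingHom
  haveI : Q.IsPrime := Ideal.IsPrime.comap _
  have hQu : ∀ b : Q.primeCompl, IsUnit (β.toRingHom b) := fun b => by
    rw [← IsLocalRing.notMem_maximalIdeal]; exact b.2
  letI : Algebra (Localization.AtPrime Q) (Pn A N) :=
    (IsLocalization.lift hQu : Localization.AtPrime Q →+* Pn A N).toAlgebra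
  have halg : ∀ b, algebraMap (Localization.AtPrime Q) (Pn A N) (algebraMap B₀ _ b) = β b :=
    fun b => IsLocalization.lift_eq hQu b
  haveI : IsScalarTower A (Localization.AtPrime Q) (Pn A N) := .of_algebraMap_eq fun a => by
    rw [IsScalarTower.algebraMap_apply A B₀ (Localization.AtPrime Q), halg, hβA]
  haveI : IsLocalHom (algebraMap (Localization.AtPrime Q) (Pn A N)) := ((local_hom_TFAE _).out 2 0).1 (by
    rw [← Localization.AtPrime.map_eq_maximalIdeal, Ideal.map_map, Ideal.map_le_iff_le_comap]
    intro b hb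
    rw [Ideal.mem_comap, RingHom.comp_apply, halg]
    exact hb)
  have hQA : (maximalIdeal A).map (algebraMap A B₀) ≤ Q := Ideal.map_le_iff_le_comap.2 fun a ha => by
    show β (algebraMap A B₀ a) ∈ maximalIdeal (Pn A N)
    rw [hβA]
    exact map_nonunit _ a ha
  have hres : ∀ b : B₀, ∃ c : A, b - algebraMap A B₀ c ∈ Q := fun b => by
    obtain ⟨c, hc⟩ := exists_sub_mem (β b)
    refine ⟨c, ?_⟩
    show β (b - algebraMap A B₀ c) ∈ maximalIdeal (Pn A N)
    rwa [map_sub, hβA]
  have hQo : ∀ p, algebraMap (MvPolynomial (Fin N) A) B₀ p ∈ Q ↔ p ∈ o := fun p => by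
    show β (algebraMap _ B₀ p) ∈ maximalIdeal (Pn A N) ↔ _
    rw [AlgHom.commutes]
    exact ⟨fun h => by_contra fun hp => (IsLocalRing.mem_maximalIdeal _).1 h (isUnit_ι hp),
      fun hp => ι_mem_maximalIdeal hp⟩
  haveI : Hensel.IsHenselization (Localization.AtPrime Q) (Pn A N) := by
    refine ⟨inferInstance, fun T _ _ f hf => ?_⟩
    let f₀ : MvPolynomial (Fin N) A →+* T :=
      (f.comp (algebraMap B₀ _)).comp (algebraMap (MvPolynomial (Fin N) A) B₀)
    have hfQ : ∀ b ∈ Q, f (algebraMap B₀ _ b) ∈ maximalIdeal T := fun b hb => map_nonunit f _ (by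
      rw [← Localization.AtPrime.map_eq_maximalIdeal]; exact Ideal.mem_map_of_mem _ hb)
    have hu : ∀ p : o.primeCompl, IsUnit (f₀ p) := fun p =>
      (IsLocalization.map_units (Localization.AtPrime Q)
        (⟨algebraMap _ B₀ (p : MvPolynomial (Fin N) A), fun h => p.2 ((hQo p).1 h)⟩ : Q.primeCompl)).map f
    let fL : Loc A N →+* T := IsLocalization.lift hu
    haveI : IsLocalHom fL := ((local_hom_TFAE fL).out 2 0).1 (by
      rw [← Localization.AtPrime.map_eq_maximalIdeal, Ideal.map_map, IsLocalization.lift_comp,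
        Ideal.map_le_iff_le_comap]
      exact fun p hp => hfQ _ ((hQo p).2 hp))
    obtain ⟨g, hg, huniq⟩ := (Hensel.isHenselization_localHenz (Loc A N)).universal T fL inferInstance
    have hgι : ∀ p, g (ι p) = f₀ p := fun p =>
      (congrArg (fun h => h (algebraMap _ (Loc A N) p)) (congrArg DFunLike.coe hg)).trans
        (IsLocalization.lift_eq hu p)
    letI : Algebra (MvPolynomial (Fin N) A) T := f₀.toAlgebra
    haveI hgloc : IsLocalHom g := by
      refine ((local_hom_TFAE g).out 2 0).1 ?_
      rw [← Hensel.map_maximalIdeal_of_isHenselization (Loc A N) (Pn A N), Ideal.map_map, hg]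
      exact Ideal.map_le_iff_le_comap.2 fun l hl => map_nonunit fL l hl
    let g₁ : B₀ →ₐ[MvPolynomial (Fin N) A] T :=
      { g.comp β.toRingHom with
        commutes' := fun p => (congrArg g (β.commutes p)).trans (hgι p) }
    let g₂ : B₀ →ₐ[MvPolynomial (Fin N) A] T :=
      { f.comp (algebraMap B₀ _) with
        commutes' := fun p => rfl }
    have h12 : g₁ = g₂ := Hensel.algHom_ext_of_le_jacobson
      (IsLocalRing.jacobson_eq_maximalIdeal (⊥ : Ideal T) bot_ne_top).ge g₁ g₂ fun b => by
        obtain ⟨c, hc⟩ := hres b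
        have h0 : g₁ (algebraMap A B₀ c) = g₂ (algebraMap A B₀ c) := by
          rw [IsScalarTower.algebraMap_apply A (MvPolynomial (Fin N) A) B₀, AlgHom.commutes, AlgHom.commutes]
        rw [show g₁ b - g₂ b = g₁ (b - algebraMap A B₀ c) - g₂ (b - algebraMap A B₀ c) by
          rw [map_sub, map_sub, h0]; ring]
        exact sub_mem (map_nonunit g _ hc) (hfQ _ hc)
    refine ⟨g, IsLocalization.ringHom_ext Q.primeCompl (RingHom.ext fun b => ?_), fun g' hg' => ?_⟩
    · show g (algebraMap _ (Pn A N) (algebraMap B₀ _ b)) = _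
      rw [halg]
      exact congr($h12 b)
    · refine huniq g' (IsLocalization.ringHom_ext o.primeCompl (RingHom.ext fun p => ?_))
      show g' (ι p) = fL (algebraMap _ (Loc A N) p)
      rw [IsLocalization.lift_eq, show (ι p : Pn A N) =
        algebraMap (Localization.AtPrime Q) (Pn A N) (algebraMap B₀ _ (algebraMap _ B₀ p)) by
          rw [halg, AlgHom.commutes]; rfl,
        ← RingHom.comp_apply g', hg']
      rfl
  have hgen' : maximalIdeal (Localization.AtPrime Q) ≤
      (maximalIdeal A).map (algebraMap A (Localization.AtPrime Q)) ⊔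
        Ideal.span (Set.range fun i => algebraMap B₀ (Localization.AtPrime Q) (y i)) := by
    haveI := Hensel.faithfullyFlat_of_isHenselization (Localization.AtPrime Q) (Pn A N)
    set I := (maximalIdeal A).map (algebraMap A (Localization.AtPrime Q)) ⊔
      Ideal.span (Set.range fun i => algebraMap B₀ (Localization.AtPrime Q) (y i))
    rw [← Ideal.comap_map_eq_self_of_faithfullyFlat (B := Pn A N) I, ← Ideal.map_le_iff_le_comap,
      Hensel.map_maximalIdeal_of_isHenselization]
    refine hgen.trans ?_
    rw [Ideal.map_sup, Ideal.map_map, ← IsScalarTower.algebraMap_eq, Ideal.map_span, ← Set.range_comp]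
    refine sup_le_sup le_rfl (Ideal.span_mono ?_)
    rintro _ ⟨i, rfl⟩
    exact ⟨i, (halg _).trans (hy i)⟩
  obtain ⟨Φ, hΦ, hΦx, -⟩ := exists_surjective Q hQA hres y
    (fun i => by show β (y i) ∈ maximalIdeal (Pn A N); rw [hy]; exact hm i) hgen' (Pn A N)
  have : Φ = σ := algHom_ext (fun i => (hΦx i).trans ((halg _).trans (hy i))) fun i => by
    rw [hΦx, halg, hy]; exact hm i
  exact this ▸ hΦ

/-- Images of the coordinates with invertible linear part generate the maximal ideal modulo `𝔪_A`. -/
theorem generates_of_linear (h : Fin N → Pn A N) (J : Matrix (Fin N) (Fin N) A) (hJ : IsUnit J.det)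
    (hlin : ∀ i, h i - ∑ j, algebraMap A (Pn A N) (J i j) * x j ∈ W A N) :
    maximalIdeal (Pn A N) ≤
      (maximalIdeal A).map (algebraMap A (Pn A N)) ⊔ Ideal.span (Set.range h) := by
  refine maximalIdeal_le_of_le le_sup_left fun j => ?_
  set N' := (maximalIdeal A).map (algebraMap A (Pn A N)) ⊔ Ideal.span (Set.range h)
  have h1 : ∀ i, ∑ l, algebraMap A (Pn A N) (J i l) * x l ∈ N' ⊔ W A N := fun i => by
    rw [show ∑ l, algebraMap A (Pn A N) (J i l) * x l =
      h i - (h i - ∑ l, algebraMap A (Pn A N) (J i l) * x l) by ring]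
    exact sub_mem (Ideal.mem_sup_left (Ideal.mem_sup_right (Ideal.subset_span ⟨i, rfl⟩)))
      (Ideal.mem_sup_right (hlin i))
  have h2 : x j = ∑ i, algebraMap A (Pn A N) (J⁻¹ j i) * ∑ l, algebraMap A (Pn A N) (J i l) * x l := by
    simp only [Finset.mul_sum, ← mul_assoc, ← map_mul]
    rw [Finset.sum_comm]
    simp only [← Finset.sum_mul, ← map_sum, ← Matrix.mul_apply, Matrix.nonsing_inv_mul J hJ,
      Matrix.one_apply, apply_ite (algebraMap A (Pn A N)), map_one, map_zero, ite_mul, one_mul, zero_mul,
      Finset.sum_ite_eq, Finset.mem_univ, if_true]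
  rw [h2]
  exact Submodule.sum_mem _ fun i _ => Ideal.mul_mem_left _ _ (h1 i)

/-- Modulo `𝔪_A + 𝔪²`, an endomorphism acts linearly. -/
theorem map_mem_W (σ : Pn A N →ₐ[A] Pn A N) (hm : ∀ i, σ (x i) ∈ maximalIdeal (Pn A N))
    {z : Pn A N} (hz : z ∈ W A N) : σ z ∈ W A N := by
  haveI := isLocalHom_of_algHom hm
  have h1 : (maximalIdeal (Pn A N)).map σ.toRingHom ≤ maximalIdeal (Pn A N) :=
    Ideal.map_le_iff_le_comap.2 fun a ha => Ideal.mem_comap.2 (map_nonunit σ.toRingHom a ha)
  refine (?_ : (W A N).map σ.toRingHom ≤ W A N) (Ideal.mem_map_of_mem _ hz)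
  rw [W, Ideal.map_sup, Ideal.map_pow, Ideal.map_map, AlgHom.toRingHom_eq_coe, AlgHom.comp_algebraMap]
  exact sup_le_sup le_rfl (Ideal.pow_right_mono h1 2)

theorem mem_maximalIdeal_of_linear (h : Fin N → Pn A N) (J : Matrix (Fin N) (Fin N) A)
    (hlin : ∀ i, h i - ∑ j, algebraMap A (Pn A N) (J i j) * x j ∈ W A N) (i : Fin N) :
    h i ∈ maximalIdeal (Pn A N) := by
  rw [show h i = (h i - ∑ j, algebraMap A (Pn A N) (J i j) * x j) +
    ∑ j, algebraMap A (Pn A N) (J i j) * x j by ring]
  exact add_mem (W_le (hlin i)) (Submodule.sum_mem _ fun j _ => Ideal.mul_mem_left _ _ (x_mem j))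

/-- **Inverse function theorem**. -/
theorem bijective_of_linear (σ : Pn A N →ₐ[A] Pn A N) (J : Matrix (Fin N) (Fin N) A) (hJ : IsUnit J.det)
    (hlin : ∀ i, σ (x i) - ∑ j, algebraMap A (Pn A N) (J i j) * x j ∈ W A N) :
    Function.Bijective σ := by
  have hm := mem_maximalIdeal_of_linear _ J hlin
  have hs : ∀ (σ : Pn A N →ₐ[A] Pn A N) (J : Matrix (Fin N) (Fin N) A), IsUnit J.det →
      (∀ i, σ (x i) - ∑ j, algebraMap A (Pn A N) (J i j) * x j ∈ W A N) → Function.Surjective σ :=
    fun σ J hJ hlin => surjective_of_generates σ (mem_maximalIdeal_of_linear _ J hlin)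
      (generates_of_linear _ J hJ hlin)
  refine ⟨?_, hs σ J hJ hlin⟩
  -- a right inverse, again with invertible linear part
  haveI := isLocalHom_of_algHom hm
  choose t ht using fun i => hs σ J hJ hlin (x i)
  have htm : ∀ i, t i ∈ maximalIdeal (Pn A N) := fun i => by
    rw [mem_maximalIdeal, mem_nonunits_iff]
    intro hu
    have h1 : IsUnit (σ (t i)) := hu.map σ
    rw [ht] at h1
    exact (mem_maximalIdeal _).1 (x_mem i) h1
  choose L hL using fun i => exists_linear (htm i)
  obtain ⟨τ, hτ⟩ := exists_algHom (A := A) t htm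
  let L' : Matrix (Fin N) (Fin N) A := Matrix.of L
  have hLJ : ∀ i l, (L' * J) i l - (1 : Matrix (Fin N) (Fin N) A) i l ∈ maximalIdeal A := by
    intro i
    refine coeff_mem_of_sum_mem (fun l => (L' * J) i l - (1 : Matrix (Fin N) (Fin N) A) i l) ?_
    have h1 := map_mem_W σ hm (hL i)
    simp only [map_sub, map_sum, map_mul, AlgHom.commutes, ht] at h1
    have h2 : ∑ j, algebraMap A (Pn A N) (L i j) *
        (σ (x j) - ∑ l, algebraMap A (Pn A N) (J j l) * x l) ∈ W A N :=
      Submodule.sum_mem _ fun j _ => Ideal.mul_mem_left _ _ (hlin j)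
    have h3 := neg_mem (add_mem h1 h2)
    convert h3 using 1
    simp only [map_sub, Matrix.mul_apply, map_sum, map_mul, sub_mul, mul_sub, Finset.sum_sub_distrib,
      Finset.sum_mul, Matrix.one_apply, apply_ite (algebraMap A (Pn A N)), map_one, map_zero, ite_mul,
      one_mul, zero_mul, Finset.sum_ite_eq, Finset.mem_univ, if_true, Finset.mul_sum, mul_assoc, L',
      Matrix.of_apply]
    rw [Finset.sum_comm]
    ring
  have hL' : IsUnit L'.det := by
    have hu : IsUnit (L' * J).det := by
      refine isUnit_of_map_unit (residue A) _ ?_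
      rw [RingHom.map_det, show (residue A).mapMatrix (L' * J) = 1 from Matrix.ext fun i l => by
        have h1 := (residue_eq_zero_iff _).2 (hLJ i l)
        rw [map_sub, sub_eq_zero] at h1
        rw [RingHom.mapMatrix_apply, Matrix.map_apply, h1, Matrix.one_apply, Matrix.one_apply]
        split <;> simp, Matrix.det_one]
      exact isUnit_one
    rw [Matrix.det_mul] at hu
    exact isUnit_of_mul_isUnit_left hu
  have hτs : Function.Surjective τ := hs τ L' hL' fun i => by rw [hτ]; exact hL i
  have hid : σ.comp τ = AlgHom.id A (Pn A N) :=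
    algHom_ext (fun i => by rw [AlgHom.comp_apply, hτ, ht]; rfl) fun i => by
      rw [AlgHom.comp_apply, hτ, ht]; exact x_mem i
  intro z w hzw
  obtain ⟨z', rfl⟩ := hτs z
  obtain ⟨w', rfl⟩ := hτs w
  rw [← AlgHom.comp_apply, ← AlgHom.comp_apply, hid] at hzw
  exact congrArg τ hzw

end Groth.Agent.Morse46
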