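import Groth.Agent.PSQuad.Coeff
import Groth.Agent.PSLib.Basic
import Groth.Prelude.Def_QuadSing

/-!
# Quadratic forms given by tables

Upper-triangularisation of square tables, polarisation, changes of variables.
-/

set_option linter.style.haveILetI false
set_option linter.unusedSectionVars false

noncomputable section

namespace Groth.Agent.Morse46

open VanCyc Matrix

universe u

variable {R : Type u} [CommRing R] {N : ℕ}

/-- The matrix of the entries `i ≤ j` of a table. -/
def tri (q : Fin N → Fin N → R) : Matrix (Fin N) (Fin N) R :=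
  Matrix.of fun i j => if i ≤ j then q i j else 0

/-- The upper triangular table with the same quadratic form as a square table. -/
def upper (a : Matrix (Fin N) (Fin N) R) : Fin N → Fin N → R :=
  fun i j => if i < j then a i j + a j i else if i = j then a i i else 0

theorem sum_sum_eq_upper {M : Type*} [AddCommMonoid M] (f : Fin N → Fin N → M) :
    ∑ i, ∑ j, f i j = ∑ i, ∑ j, (if i < j then f i j + f j i else if i = j then f i i else 0) := by
  have h1 : ∀ i j, f i j = (if i < j then f i j else 0) + (if i = j then f i i else 0) +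
      (if j < i then f i j else 0) := fun i j => by
    rcases lt_trichotomy i j with h | h | h
    · simp [h, h.ne, not_lt.2 h.le]
    · subst h; simp
    · simp [h, h.ne', not_lt.2 h.le]
  have h2 : ∀ i j, (if i < j then f i j + f j i else if i = j then f i i else 0) =
      (if i < j then f i j else 0) + (if i = j then f i i else 0) + (if i < j then f j i else 0) := fun i j => by
    rcases lt_trichotomy i j with h | h | h
    · simp [h, h.ne]
    · subst h; simp
    · simp [h.ne', not_lt.2 h.le]
  simp only [h2]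
  rw [Finset.sum_congr rfl fun i _ => Finset.sum_congr rfl fun j _ => h1 i j]
  simp only [Finset.sum_add_distrib]
  congr 1
  exact Finset.sum_comm

theorem quadPoly_eq_sum (q : Fin N → Fin N → R) :
    quadPoly q = ∑ i, ∑ j, MvPolynomial.C (tri q i j) * MvPolynomial.X i * MvPolynomial.X j := by
  simp only [quadPoly, tri, Matrix.of_apply, apply_ite MvPolynomial.C, map_zero, ite_mul, zero_mul]

theorem quadEval_eq_dotProduct (q : Fin N → Fin N → R) (v : Fin N → R) :
    quadEval q v = v ⬝ᵥ (tri q *ᵥ v) := by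
  simp only [quadEval, dotProduct, Matrix.mulVec, tri, Matrix.of_apply, Finset.mul_sum]
  refine Finset.sum_congr rfl fun i _ => Finset.sum_congr rfl fun j _ => ?_
  split <;> ring

theorem polarMatrix_eq (q : Fin N → Fin N → R) : polarMatrix q = tri q + (tri q)ᵀ := by
  ext i j
  simp only [polarMatrix, tri, Matrix.add_apply, Matrix.transpose_apply, Matrix.of_apply]
  rcases lt_trichotomy i j with h | h | h
  · simp [h, h.ne, h.le, not_le.2 h]
  · subst h; simp [two_mul]
  · simp [h.ne', not_lt.2 h.le, h.le, not_le.2 h]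

theorem quadPoly_upper (a : Matrix (Fin N) (Fin N) R) :
    quadPoly (upper a) = ∑ i, ∑ j, MvPolynomial.C (a i j) * MvPolynomial.X i * MvPolynomial.X j := by
  conv_rhs => rw [sum_sum_eq_upper]
  simp only [quadPoly, upper]
  refine Finset.sum_congr rfl fun i _ => Finset.sum_congr rfl fun j _ => ?_
  rcases lt_trichotomy i j with h | h | h
  · simp only [h, h.le, if_true, map_add]; ring
  · subst h; simp
  · simp [h.ne', not_lt.2 h.le, not_le.2 h]

theorem quadEval_upper (a : Matrix (Fin N) (Fin N) R) (v : Fin N → R) :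
    quadEval (upper a) v = v ⬝ᵥ (a *ᵥ v) := by
  have h := congrArg (MvPolynomial.eval v) (quadPoly_upper a)
  simp only [quadPoly, map_sum, apply_ite (MvPolynomial.eval v), map_mul, MvPolynomial.eval_C,
    MvPolynomial.eval_X, map_zero] at h
  simp only [quadEval, dotProduct, Matrix.mulVec, Finset.mul_sum]
  rw [h]
  exact Finset.sum_congr rfl fun i _ => Finset.sum_congr rfl fun j _ => by ring

theorem polarMatrix_upper (a : Matrix (Fin N) (Fin N) R) : polarMatrix (upper a) = a + aᵀ := by
  ext i j
  simp only [polarMatrix, upper, Matrix.add_apply, Matrix.transpose_apply]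
  rcases lt_trichotomy i j with h | h | h
  · simp [h, h.ne]
  · subst h; simp [two_mul]
  · simp [h, h.ne', not_lt.2 h.le, add_comm]

theorem quadEval_congr {q q' : Fin N → Fin N → R} (h : ∀ i j, i ≤ j → q i j = q' i j) (v : Fin N → R) :
    quadEval q v = quadEval q' v :=
  Finset.sum_congr rfl fun i _ => Finset.sum_congr rfl fun j _ => by
    split
    next hij => rw [h i j hij]
    next => rfl

theorem quadEval_add (q : Fin N → Fin N → R) (v w : Fin N → R) :
    quadEval q (v + w) = quadEval q v + quadEval q w + v ⬝ᵥ (polarMatrix q *ᵥ w) := by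
  simp only [quadEval_eq_dotProduct, polarMatrix_eq, Matrix.mulVec_add, Matrix.add_mulVec, dotProduct_add,
    add_dotProduct]
  rw [show v ⬝ᵥ ((tri q)ᵀ *ᵥ w) = w ⬝ᵥ (tri q *ᵥ v) by
    rw [Matrix.mulVec_transpose, dotProduct_comm, ← Matrix.dotProduct_mulVec]]
  ring

theorem polarMatrix_of_comp {N' : ℕ} {q : Fin N' → Fin N' → R} {q' : Fin N → Fin N → R} (c : R)
    (L : Matrix (Fin N) (Fin N') R)
    (h : ∀ v, quadEval q v = c * quadEval q' (L *ᵥ v)) :
    polarMatrix q = c • (Lᵀ * polarMatrix q' * L) := by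
  have hb : ∀ v w, v ⬝ᵥ (polarMatrix q *ᵥ w) = c * ((L *ᵥ v) ⬝ᵥ (polarMatrix q' *ᵥ (L *ᵥ w))) := by
    intro v w
    have h1 := quadEval_add q v w
    rw [h, h, h, Matrix.mulVec_add, quadEval_add q' (L *ᵥ v) (L *ᵥ w)] at h1
    linear_combination -h1
  ext i j
  have h1 := hb (Pi.single i 1) (Pi.single j 1)
  rw [single_one_dotProduct, Matrix.mulVec_single_one, Matrix.col_apply] at h1
  rw [h1, Matrix.smul_apply, smul_eq_mul]
  congr 1
  simp only [dotProduct, Matrix.mulVec, Matrix.mul_apply, Matrix.transpose_apply, Pi.single_apply,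
    mul_ite, mul_one, mul_zero, Finset.sum_ite_eq', Finset.mem_univ, if_true, Finset.mul_sum, Finset.sum_mul]
  rw [Finset.sum_comm]
  exact Finset.sum_congr rfl fun a _ => Finset.sum_congr rfl fun b _ => by ring

theorem quadNondeg_of_comp {q q' : Fin N → Fin N → R} (c : R) (L : Matrix (Fin N) (Fin N) R)
    (h : ∀ v, quadEval q v = c * quadEval q' (L *ᵥ v)) (hq : QuadNondeg q) : QuadNondeg q' := by
  unfold QuadNondeg at *
  rw [polarMatrix_of_comp c L h, Matrix.det_smul, Matrix.det_mul, Matrix.det_mul] at hq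
  exact isUnit_of_mul_isUnit_right (isUnit_of_mul_isUnit_left (isUnit_of_mul_isUnit_right hq))

theorem quadOrd_of_comp {K : Type u} [Field K] {q q' : Fin N → Fin N → K} (c : K)
    (L : Matrix (Fin N) (Fin N) K) (hL : IsUnit L.det)
    (h : ∀ v, quadEval q v = c * quadEval q' (L *ᵥ v)) (hq : QuadOrd q) : QuadOrd q' := by
  intro w hw0 hw1
  have hLw : L *ᵥ (L⁻¹ *ᵥ w) = w := by
    rw [Matrix.mulVec_mulVec, Matrix.mul_nonsing_inv L hL, Matrix.one_mulVec]
  have hv := hq (L⁻¹ *ᵥ w) (by rw [h, hLw, hw0, mul_zero]) (by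
    rw [polarMatrix_of_comp c L h, Matrix.smul_mulVec, ← Matrix.mulVec_mulVec, hLw,
      ← Matrix.mulVec_mulVec, hw1, Matrix.mulVec_zero, smul_zero])
  rw [← hLw, hv, Matrix.mulVec_zero]

section series

open Finsupp

theorem quadPart_of_sub_mem {h : MvPowerSeries (Fin N) R} {q : Fin N → Fin N → R} {p : MvPolynomial (Fin N) R}
    (hp : p.totalDegree ≤ 1)
    (hh : h - ((quadPoly q + p : MvPolynomial (Fin N) R) : MvPowerSeries (Fin N) R) ∈ PSLib.vars N R ^ 3)
    {i j : Fin N} (hij : i ≤ j) : quadPart h i j = q i j := by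
  have h1 := PSLib.coeff_eq_zero_of_mem_pow 3 _ hh (single i 1 + single j 1) (by simp [map_add, degree_single])
  rw [map_sub, sub_eq_zero, MvPolynomial.coeff_coe, MvPolynomial.coeff_add,
    PSQuad.coeff_quadPoly_pair q hij] at h1
  rw [PSQuad.quadPart_apply hij, h1, MvPolynomial.coeff_eq_zero_of_totalDegree_lt, add_zero]
  refine hp.trans_lt ?_
  rw [← Finsupp.degree_apply, map_add, degree_single, degree_single]
  norm_num

theorem sub_quadPoly_quadPart_mem {h : MvPowerSeries (Fin N) R} (hh : NoLowTerms h) :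
    h - (quadPoly (quadPart h) : MvPolynomial (Fin N) R) ∈ PSLib.vars N R ^ 3 := by
  refine PSLib.mem_pow_iff.2 fun d hd => ?_
  rw [map_sub, MvPolynomial.coeff_coe]
  rcases PSQuad.degree_le_two_cases (show degree d ≤ 2 by omega) with rfl | ⟨i, rfl⟩ | ⟨i, j, hij, rfl⟩
  · rw [PSQuad.coeff_quadPoly_eq_zero _ (by simp), sub_zero,
      MvPowerSeries.coeff_zero_eq_constantCoeff_apply, hh.1]
  · rw [PSQuad.coeff_quadPoly_eq_zero _ (by simp [degree_single]), hh.2, sub_zero]
  · rw [PSQuad.coeff_quadPoly_pair _ hij, PSQuad.quadPart_apply hij, sub_self]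

theorem noLowTerms_iff {h : MvPowerSeries (Fin N) R} :
    NoLowTerms h ↔ h ∈ PSLib.vars N R ^ 2 := by
  rw [show PSLib.vars N R = PSQuad.vars (Fin N) R from rfl, PSQuad.mem_sq_iff,
    MvPowerSeries.coeff_zero_eq_constantCoeff_apply]
  rfl

/-- The quadratic part of the image of a series under a change of variables. -/
theorem quadEval_quadPart_map {N' : ℕ} {h : MvPowerSeries (Fin N) R} (hh : NoLowTerms h)
    (φ : MvPowerSeries (Fin N) R →ₐ[R] MvPowerSeries (Fin N') R) (c : MvPowerSeries (Fin N') R)
    (hφ : ∀ i, φ (MvPowerSeries.X i) ∈ PSLib.vars N' R) (L : Matrix (Fin N) (Fin N') R)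
    (hL : ∀ i j, MvPowerSeries.coeff (single j 1) (φ (MvPowerSeries.X i)) = L i j) (v : Fin N' → R) :
    quadEval (quadPart (c * φ h)) v =
      MvPowerSeries.constantCoeff c * quadEval (quadPart h) (L *ᵥ v) := by
  classical
  set q := quadPart h
  let lin : Fin N → MvPolynomial (Fin N') R := fun i => ∑ j, MvPolynomial.C (L i j) * MvPolynomial.X j
  let M : Matrix (Fin N') (Fin N') R := MvPowerSeries.constantCoeff c • (Lᵀ * tri q * L)
  have hlin : ∀ i, φ (MvPowerSeries.X i) - (lin i : MvPowerSeries (Fin N') R) ∈ PSLib.vars N' R ^ 2 := fun i => by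
    rw [show PSLib.vars N' R = PSQuad.vars (Fin N') R from rfl, PSQuad.mem_sq_iff]
    refine ⟨?_, fun j => ?_⟩
    · rw [map_sub, MvPowerSeries.coeff_zero_eq_constantCoeff_apply, PSLib.mem_vars_iff.1 (hφ i)]
      simp [lin, MvPolynomial.coeff_sum]
    · rw [map_sub, hL, MvPolynomial.coeff_coe, MvPolynomial.coeff_sum]
      simp [MvPolynomial.coeff_C_mul, MvPolynomial.coeff_X, Finsupp.single_left_inj one_ne_zero, eq_comm]
  have hlm : ∀ i, (lin i : MvPowerSeries (Fin N') R) ∈ PSLib.vars N' R := fun i => by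
    rw [show (lin i : MvPowerSeries (Fin N') R) =
      φ (MvPowerSeries.X i) - (φ (MvPowerSeries.X i) - (lin i : MvPowerSeries (Fin N') R)) by ring]
    exact sub_mem (hφ i) (Ideal.pow_le_self two_ne_zero (hlin i))
  have hM : quadPoly (upper M) = MvPolynomial.C (MvPowerSeries.constantCoeff c) *
      ∑ i, ∑ j, MvPolynomial.C (tri q i j) * lin i * lin j := by
    simp only [quadPoly_upper, M, lin, Matrix.smul_apply, Matrix.mul_apply, Matrix.transpose_apply,
      smul_eq_mul, map_mul, map_sum, Finset.sum_mul, Finset.mul_sum]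
    conv_lhs => arg 2; ext a; arg 2; ext b; rw [Finset.sum_comm]
    conv_lhs => arg 2; ext a; rw [Finset.sum_comm]
    rw [Finset.sum_comm]
    refine Finset.sum_congr rfl fun i _ => ?_
    conv_lhs => arg 2; ext a; rw [Finset.sum_comm]
    rw [Finset.sum_comm]
    refine Finset.sum_congr rfl fun j _ => ?_
    rw [Finset.sum_comm]
    refine Finset.sum_congr rfl fun a _ => Finset.sum_congr rfl fun b _ => ?_
    ring
  have hφq : φ (quadPoly q : MvPolynomial (Fin N) R) =
      ∑ i, ∑ j, MvPowerSeries.C (tri q i j) * φ (MvPowerSeries.X i) * φ (MvPowerSeries.X j) := by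
    simp only [quadPoly_eq_sum, ← MvPolynomial.coeToMvPowerSeries.ringHom_apply, map_sum, map_mul]
    simp only [MvPolynomial.coeToMvPowerSeries.ringHom_apply, MvPolynomial.coe_C, MvPolynomial.coe_X]
    refine Finset.sum_congr rfl fun i _ => Finset.sum_congr rfl fun j _ => ?_
    rw [show φ (MvPowerSeries.C (tri q i j)) = MvPowerSeries.C (tri q i j) from φ.commutes _]
  have key : c * φ h - (quadPoly (upper M) : MvPolynomial (Fin N') R) ∈ PSLib.vars N' R ^ 3 := by
    rw [show c * φ h - (quadPoly (upper M) : MvPolynomial (Fin N') R) =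
      c * φ (h - (quadPoly q : MvPolynomial (Fin N) R)) +
        (c * φ (quadPoly q : MvPolynomial (Fin N) R) - (quadPoly (upper M) : MvPolynomial (Fin N') R)) by
      rw [map_sub]; ring]
    refine add_mem (Ideal.mul_mem_left _ _ (PSLib.map_pow_le φ hφ 3
      (Ideal.mem_map_of_mem _ (sub_quadPoly_quadPart_mem hh)))) ?_
    rw [hφq, hM]
    simp only [← MvPolynomial.coeToMvPowerSeries.ringHom_apply, map_mul, map_sum]
    simp only [MvPolynomial.coeToMvPowerSeries.ringHom_apply, MvPolynomial.coe_C]
    rw [Finset.mul_sum, Finset.mul_sum, ← Finset.sum_sub_distrib]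
    refine Submodule.sum_mem _ fun i _ => ?_
    rw [Finset.mul_sum, Finset.mul_sum, ← Finset.sum_sub_distrib]
    refine Submodule.sum_mem _ fun j _ => ?_
    set P := φ (MvPowerSeries.X i) with hP
    set P' := φ (MvPowerSeries.X j) with hP'
    rw [show c * (MvPowerSeries.C (tri q i j) * P * P') - MvPowerSeries.C (MvPowerSeries.constantCoeff c) *
        (MvPowerSeries.C (tri q i j) * (lin i : MvPowerSeries (Fin N') R) * (lin j : MvPowerSeries (Fin N') R)) =
      MvPowerSeries.C (tri q i j) * ((c - MvPowerSeries.C (MvPowerSeries.constantCoeff c)) * (P * P')) +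
      MvPowerSeries.C (MvPowerSeries.constantCoeff c) * MvPowerSeries.C (tri q i j) *
        ((P - (lin i : MvPowerSeries (Fin N') R)) * P' +
          (lin i : MvPowerSeries (Fin N') R) * (P' - (lin j : MvPowerSeries (Fin N') R))) by ring]
    refine add_mem (Ideal.mul_mem_left _ _ ?_) (Ideal.mul_mem_left _ _ (add_mem ?_ ?_))
    · rw [pow_succ']
      refine Ideal.mul_mem_mul (by rw [PSLib.mem_vars_iff]; simp) ?_
      rw [sq]; exact Ideal.mul_mem_mul (hφ i) (hφ j)
    · rw [pow_succ]; exact Ideal.mul_mem_mul (hlin i) (hφ j)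
    · rw [pow_succ']; exact Ideal.mul_mem_mul (hlm i) (hlin j)
  rw [quadEval_congr (q' := upper M) (fun i j hij => quadPart_of_sub_mem (p := 0) (by simp)
    (by simpa using key) hij), quadEval_upper, quadEval_eq_dotProduct]
  simp only [M, Matrix.smul_mulVec, dotProduct_smul, smul_eq_mul, ← Matrix.mulVec_mulVec]
  rw [Matrix.dotProduct_mulVec v Lᵀ, Matrix.vecMul_transpose]

end series

end Groth.Agent.Morse46
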