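import Groth.Agent.Morse46.Expand
import Groth.Agent.Morse46.IFT
import Groth.Agent.Morse46.Quad
import Groth.Agent.Hensel.Newton

/-!
# The henselian Morse lemma

In the henselization of affine space over a henselian local ring, an element with non-degenerate
Hessian at the origin becomes a constant plus a quadratic form after a change of coordinates.
-/

set_option linter.style.haveILetI false
set_option linter.unusedSectionVars false

noncomputable section

namespace Groth.Agent.Morse46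

open IsLocalRing MvPolynomial VanCyc Matrix

universe u

variable {A : Type u} [CommRing A] [HenselianLocalRing A] {N : ℕ}

/-- Universal property for a given local map on coefficients. -/
theorem exists_ringHom {R T : Type u} [CommRing R] [IsLocalRing R] [CommRing T] [HenselianLocalRing T]
    (f : R →+* T) (hf : IsLocalHom f) {M : ℕ} (t : Fin M → T) (ht : ∀ i, t i ∈ maximalIdeal T) :
    ∃ φ : Pn R M →+* T, (∀ r, φ (algebraMap R (Pn R M) r) = f r) ∧ ∀ i, φ (x i) = t i := by
  letI : Algebra R T := f.toAlgebra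
  haveI : IsLocalHom (algebraMap R T) := hf
  obtain ⟨φ, hφ⟩ := exists_algHom (A := R) t ht
  exact ⟨φ.toRingHom, φ.commutes, hφ⟩

local notation "𝔛" => (Ideal.span (Set.range x) : Ideal (Pn _ _))

theorem span_x_le : (Ideal.span (Set.range x) : Ideal (Pn A N)) ≤ maximalIdeal (Pn A N) := by
  rw [Ideal.span_le]; rintro _ ⟨j, rfl⟩; exact x_mem j

theorem exists_sum_sq {z : Pn A N} (hz : z ∈ (Ideal.span (Set.range x) : Ideal (Pn A N)) ^ 2) :
    ∃ w : Matrix (Fin N) (Fin N) (Pn A N), z = x ⬝ᵥ (w *ᵥ x) := by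
  rw [sq] at hz
  refine Submodule.mul_induction_on hz (fun a ha b hb => ?_) fun a b ha hb => ?_
  · obtain ⟨p, rfl⟩ := Ideal.mem_span_range_iff_exists_fun.1 ha
    obtain ⟨q, rfl⟩ := Ideal.mem_span_range_iff_exists_fun.1 hb
    refine ⟨Matrix.of fun i j => p i * q j, ?_⟩
    simp only [dotProduct, Matrix.mulVec, Matrix.of_apply, Finset.sum_mul, Finset.mul_sum]
    rw [Finset.sum_comm]
    exact Finset.sum_congr rfl fun i _ => Finset.sum_congr rfl fun j _ => by ring
  · obtain ⟨w, rfl⟩ := ha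
    obtain ⟨w', rfl⟩ := hb
    exact ⟨w + w', by rw [Matrix.add_mulVec, dotProduct_add]⟩

/-- The second order expansion at the origin. -/
theorem exists_decomp (z : Pn A N) : ∃ (l : Fin N → A) (a : Matrix (Fin N) (Fin N) A),
    z - (algebraMap A (Pn A N) (eval0 A N z) + ∑ i, algebraMap A (Pn A N) (l i) * x i +
      x ⬝ᵥ (a.map (algebraMap A (Pn A N)) *ᵥ x)) ∈ (Ideal.span (Set.range x) : Ideal (Pn A N)) ^ 3 := by
  obtain ⟨w, hw⟩ := exists_coeff z
  choose v hv using fun i => exists_coeff (w i)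
  refine ⟨fun i => eval0 A N (w i), Matrix.of fun i j => eval0 A N (v i j), ?_⟩
  have h1 : z - (algebraMap A (Pn A N) (eval0 A N z) + ∑ i, algebraMap A (Pn A N) (eval0 A N (w i)) * x i +
      x ⬝ᵥ ((Matrix.of fun i j => eval0 A N (v i j)).map (algebraMap A (Pn A N)) *ᵥ x)) =
      ∑ i, ∑ j, (v i j - algebraMap A (Pn A N) (eval0 A N (v i j))) * (x i * x j) := by
    conv_lhs => arg 1; rw [hw]
    rw [show (∑ i, w i * x i : Pn A N) = ∑ i, algebraMap A (Pn A N) (eval0 A N (w i)) * x i +
        ∑ i, ∑ j, v i j * (x i * x j) by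
      rw [← Finset.sum_add_distrib]
      refine Finset.sum_congr rfl fun i _ => ?_
      conv_lhs => rw [hv i]
      rw [add_mul, Finset.sum_mul]
      exact congrArg _ (Finset.sum_congr rfl fun j _ => by ring)]
    simp only [dotProduct, Matrix.mulVec, Matrix.map_apply, Matrix.of_apply, Finset.mul_sum, sub_mul,
      Finset.sum_sub_distrib]
    rw [show ∑ i, ∑ j, x i * (algebraMap A (Pn A N) (eval0 A N (v i j)) * x j) =
      ∑ i, ∑ j, algebraMap A (Pn A N) (eval0 A N (v i j)) * (x i * x j) from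
        Finset.sum_congr rfl fun i _ => Finset.sum_congr rfl fun j _ => by ring]
    ring
  rw [h1]
  refine Submodule.sum_mem _ fun i _ => Submodule.sum_mem _ fun j _ => ?_
  rw [pow_succ']
  exact Ideal.mul_mem_mul (sub_eval0_mem _)
    (sq (Ideal.span (Set.range (x : Fin N → Pn A N))) ▸ Ideal.mul_mem_mul (Ideal.subset_span ⟨i, rfl⟩)
      (Ideal.subset_span ⟨j, rfl⟩))

theorem sub_mem_sq_mul {S : Type*} [CommRing S] {I : Ideal S} {a b a' b' su sv : S}
    (ha : a - a' - su ∈ I ^ 2) (hb : b - b' - sv ∈ I ^ 2) (hsu : su ∈ I) (hsv : sv ∈ I) :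
    a * b - a' * b' - (a' * sv + b' * su) ∈ I ^ 2 := by
  rw [show a * b - a' * b' - (a' * sv + b' * su) =
    (a - a' - su) * b + (a' + su) * (b - b' - sv) + su * sv by ring]
  exact add_mem (add_mem (Ideal.mul_mem_right _ _ ha) (Ideal.mul_mem_left _ _ hb))
    (sq I ▸ Ideal.mul_mem_mul hsu hsv)

set_option maxHeartbeats 800000 in
/-- **Critical point**: translating to it removes the linear terms. -/
theorem exists_translation (z : Pn A N) (l : Fin N → A) (hl : ∀ i, l i ∈ maximalIdeal A)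
    (a : Matrix (Fin N) (Fin N) A) (ha : IsUnit (a + aᵀ).det)
    (hz : z - (algebraMap A (Pn A N) (eval0 A N z) + ∑ i, algebraMap A (Pn A N) (l i) * x i +
      x ⬝ᵥ (a.map (algebraMap A (Pn A N)) *ᵥ x)) ∈ (Ideal.span (Set.range x) : Ideal (Pn A N)) ^ 3) :
    ∃ tr : Pn A N →ₐ[A] Pn A N, Function.Bijective tr ∧
      (∀ i, ∃ t ∈ maximalIdeal A, tr (x i) = x i + algebraMap A (Pn A N) t) ∧
      ∃ (c : A) (w : Matrix (Fin N) (Fin N) (Pn A N)),
        tr z = algebraMap A (Pn A N) c + x ⬝ᵥ (w *ᵥ x) := by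
  letI : Algebra A (Pn (Pn A N) N) :=
    ((algebraMap (Pn A N) (Pn (Pn A N) N)).comp (algebraMap A (Pn A N))).toAlgebra
  haveI : IsScalarTower A (Pn A N) (Pn (Pn A N) N) := .of_algebraMap_eq fun _ => rfl
  haveI : IsLocalHom (algebraMap A (Pn (Pn A N) N)) :=
    RingHom.isLocalHom_comp (algebraMap (Pn A N) (Pn (Pn A N) N)) (algebraMap A (Pn A N))
  let cst : Pn A N →+* Pn (Pn A N) N := algebraMap (Pn A N) (Pn (Pn A N) N)
  let Y : Ideal (Pn (Pn A N) N) := Ideal.span (Set.range x)
  obtain ⟨τ, hτ⟩ := exists_algHom (A := A) (T := Pn (Pn A N) N) (fun i => cst (x i) + x i)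
    fun i => add_mem (map_nonunit cst _ (x_mem i)) (x_mem i)
  have hτC : ∀ b, τ (algebraMap A (Pn A N) b) = cst (algebraMap A (Pn A N) b) := fun b => τ.commutes b
  let D : Pn A N → Pn A N → (Fin N → Pn A N) → Prop := fun z z₀ u =>
    τ z - cst z₀ - ∑ i, cst (u i) * x i ∈ Y ^ 2
  have hYsum : ∀ u : Fin N → Pn A N, ∑ i, cst (u i) * x i ∈ Y := fun u =>
    Submodule.sum_mem _ fun i _ => Ideal.mul_mem_left _ _ (Ideal.subset_span ⟨i, rfl⟩)
  have Dadd : ∀ {z z₀ u w w₀ v}, D z z₀ u → D w w₀ v → D (z + w) (z₀ + w₀) (u + v) := by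
    intro z z₀ u w w₀ v h h'
    show _ ∈ Y ^ 2
    convert add_mem h h' using 1
    simp only [map_add, Pi.add_apply, add_mul, Finset.sum_add_distrib]
    ring
  have Dmul : ∀ {z z₀ u w w₀ v}, D z z₀ u → D w w₀ v →
      D (z * w) (z₀ * w₀) (fun i => z₀ * v i + w₀ * u i) := by
    intro z z₀ u w w₀ v h h'
    have hsum : ∑ i, cst (z₀ * v i + w₀ * u i) * x i =
        cst z₀ * (∑ i, cst (v i) * x i) + cst w₀ * (∑ i, cst (u i) * x i) := by
      simp only [map_add, map_mul, add_mul, Finset.sum_add_distrib, Finset.mul_sum, mul_assoc]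
    show τ (z * w) - cst (z₀ * w₀) - ∑ i, cst (z₀ * v i + w₀ * u i) * x i ∈ Y ^ 2
    rw [hsum, show τ (z * w) = τ z * τ w from map_mul τ z w,
      show cst (z₀ * w₀) = cst z₀ * cst w₀ from RingHom.map_mul cst z₀ w₀]
    exact sub_mem_sq_mul (I := Y) h h' (hYsum u) (hYsum v)
  have Dx : ∀ j, D (x j) (x j) (Pi.single j 1) := fun j => by
    show _ ∈ Y ^ 2
    rw [hτ, Finset.sum_eq_single j (fun i _ hi => by simp [Pi.single_apply, hi]) (by simp)]
    simp
  have DC : ∀ b : A, D (algebraMap A (Pn A N) b) (algebraMap A (Pn A N) b) 0 := fun b => by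
    show _ ∈ Y ^ 2
    rw [hτC]
    simp
  have Dall : ∀ w, ∃ w₀ u, D w w₀ u := fun w => by
    obtain ⟨w₁, hw₁⟩ := exists_coeff (τ w)
    refine ⟨eval0 (Pn A N) N (τ w), fun i => eval0 (Pn A N) N (w₁ i), ?_⟩
    show _ ∈ Y ^ 2
    rw [show τ w - cst (eval0 (Pn A N) N (τ w)) - ∑ i, cst (eval0 (Pn A N) N (w₁ i)) * x i =
        ∑ i, (w₁ i - cst (eval0 (Pn A N) N (w₁ i))) * x i by
      simp only [sub_mul, Finset.sum_sub_distrib]
      conv_lhs => arg 1; arg 1; rw [hw₁]
      ring]
    refine Submodule.sum_mem _ fun i _ => ?_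
    rw [sq]
    exact Ideal.mul_mem_mul (sub_eval0_mem _) (Ideal.subset_span ⟨i, rfl⟩)
  set X' : Ideal (Pn A N) := Ideal.span (Set.range x) with hX'
  have Dpow : ∀ k : ℕ, ∀ w ∈ X' ^ (k + 1), ∃ w₀ u, D w w₀ u ∧ w₀ ∈ X' ^ (k + 1) ∧ ∀ i, u i ∈ X' ^ k := by
    intro k
    induction k with
    | zero =>
      intro w hw
      rw [zero_add, pow_one] at hw ⊢
      obtain ⟨g, rfl⟩ := Ideal.mem_span_range_iff_exists_fun.1 hw
      refine Finset.sum_induction _ (fun w => ∃ w₀ u, D w w₀ u ∧ w₀ ∈ X' ∧ ∀ i, u i ∈ X' ^ 0) ?_ ?_ ?_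
      · rintro a b ⟨a₀, u, h, ha₀, -⟩ ⟨b₀, v, h', hb₀, -⟩
        exact ⟨_, _, Dadd h h', add_mem ha₀ hb₀, fun i => by simp⟩
      · exact ⟨0, 0, by show _ ∈ Y ^ 2; simp, zero_mem _, fun i => by simp⟩
      · intro j _
        obtain ⟨g₀, u, hg⟩ := Dall (g j)
        exact ⟨_, _, Dmul hg (Dx j), Ideal.mul_mem_left _ _ (Ideal.subset_span ⟨j, rfl⟩), fun i => by simp⟩
    | succ k ih =>
      intro w hw
      rw [pow_succ'] at hw
      refine Submodule.mul_induction_on hw (fun a ha b hb => ?_) ?_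
      · obtain ⟨g, rfl⟩ := Ideal.mem_span_range_iff_exists_fun.1 ha
        obtain ⟨b₀, v, hbD, hb₀, hv⟩ := ih b hb
        rw [Finset.sum_mul]
        refine Finset.sum_induction _
          (fun w => ∃ w₀ u, D w w₀ u ∧ w₀ ∈ X' ^ (k + 1 + 1) ∧ ∀ i, u i ∈ X' ^ (k + 1)) ?_ ?_ ?_
        · rintro c d ⟨c₀, u, h, hc₀, hu⟩ ⟨d₀, u', h', hd₀, hu'⟩
          exact ⟨_, _, Dadd h h', add_mem hc₀ hd₀, fun i => add_mem (hu i) (hu' i)⟩
        · exact ⟨0, 0, by show _ ∈ Y ^ 2; simp, zero_mem _, fun i => zero_mem _⟩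
        · intro j _
          obtain ⟨g₀, u, hg⟩ := Dall (g j)
          have hgx : g₀ * x j ∈ X' := Ideal.mul_mem_left _ _ (Ideal.subset_span ⟨j, rfl⟩)
          refine ⟨_, _, Dmul (Dmul hg (Dx j)) hbD, ?_, fun i => add_mem ?_ (Ideal.mul_mem_right _ _ hb₀)⟩
          · rw [pow_succ']; exact Ideal.mul_mem_mul hgx hb₀
          · rw [pow_succ']; exact Ideal.mul_mem_mul hgx (hv i)
      · rintro c d ⟨c₀, u, h, hc₀, hu⟩ ⟨d₀, u', h', hd₀, hu'⟩
        exact ⟨_, _, Dadd h h', add_mem hc₀ hd₀, fun i => add_mem (hu i) (hu' i)⟩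
  -- the derivatives
  obtain ⟨r₀, ur, hr, -, hur⟩ := Dpow 2 _ hz
  set α : A →+* Pn A N := algebraMap A (Pn A N)
  let h : Fin N → Pn A N := fun i => α (l i) + (((a + aᵀ).map α) *ᵥ x) i + ur i
  have hDz : ∃ z₀, D z z₀ h := by
    have hlin : D (∑ i, α (l i) * x i) (∑ i, α (l i) * x i) (fun i => α (l i)) := by
      show _ ∈ Y ^ 2
      have : τ (∑ i, α (l i) * x i) = cst (∑ i, α (l i) * x i) + ∑ i, cst (α (l i)) * x i := by
        simp only [map_sum, map_mul, hτC, hτ, mul_add, Finset.sum_add_distrib]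
      rw [this]
      simp
    have hquad : D (x ⬝ᵥ (a.map α *ᵥ x)) (x ⬝ᵥ (a.map α *ᵥ x)) (((a + aᵀ).map α) *ᵥ x) := by
      show _ ∈ Y ^ 2
      have : τ (x ⬝ᵥ (a.map α *ᵥ x)) = cst (x ⬝ᵥ (a.map α *ᵥ x)) +
          ∑ i, cst ((((a + aᵀ).map α) *ᵥ x) i) * x i +
          ∑ i, ∑ j, cst (α (a i j)) * (x i * x j) := by
        simp only [dotProduct, Matrix.mulVec, Matrix.map_apply, Matrix.add_apply, Matrix.transpose_apply,
          map_sum, map_mul, map_add, hτC, hτ, Finset.mul_sum, Finset.sum_mul, add_mul, mul_add,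
          Finset.sum_add_distrib]
        rw [Finset.sum_comm (f := fun i j => cst (α (a j i)) * cst (x j) * x i)]
        simp only [← Finset.sum_add_distrib]
        exact Finset.sum_congr rfl fun i _ => Finset.sum_congr rfl fun j _ => by ring
      rw [this, show ∀ a b c : Pn (Pn A N) N, a + b + c - a - b = c from fun a b c => by ring]
      refine Submodule.sum_mem _ fun i _ => Submodule.sum_mem _ fun j _ => Ideal.mul_mem_left _ _ ?_
      rw [sq]
      exact Ideal.mul_mem_mul (Ideal.subset_span ⟨i, rfl⟩) (Ideal.subset_span ⟨j, rfl⟩)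
    refine ⟨α (eval0 A N z) + ∑ i, α (l i) * x i + x ⬝ᵥ (a.map α *ᵥ x) + r₀, ?_⟩
    have h4 := Dadd (Dadd (Dadd (DC (eval0 A N z)) hlin) hquad) hr
    rw [add_sub_cancel] at h4
    rwa [zero_add] at h4
  obtain ⟨z₀, hz₀⟩ := hDz
  -- the critical point
  have hW : ∀ i, h i - ∑ j, α ((a + aᵀ) i j) * x j ∈ W A N := fun i => by
    rw [show h i - ∑ j, α ((a + aᵀ) i j) * x j = α (l i) + ur i by
      simp only [h, Matrix.mulVec, dotProduct, Matrix.map_apply]; ring]
    exact add_mem (Ideal.mem_sup_left (Ideal.mem_map_of_mem _ (hl i)))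
      (Ideal.mem_sup_right (Ideal.pow_right_mono span_x_le 2 (hur i)))
  obtain ⟨σ, hσ⟩ := exists_algHom (A := A) h (mem_maximalIdeal_of_linear h (a + aᵀ) hW)
  let σe := AlgEquiv.ofBijective σ (bijective_of_linear σ (a + aᵀ) ha (by simpa [hσ] using hW))
  let e : Pn A N →ₐ[A] A := (eval0 A N).comp σe.symm.toAlgHom
  have heh : ∀ i, e (h i) = 0 := fun i => by
    show eval0 A N (σe.symm (h i)) = 0
    rw [show σe.symm (h i) = x i by rw [AlgEquiv.symm_apply_eq]; exact (hσ i).symm, eval0_x]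
  haveI : IsLocalHom e.toRingHom := by
    haveI h1 : IsLocalHom (eval0 A N).toRingHom := isLocalHom_of_algHom fun i => by simp
    exact ⟨fun b hb => by
      have h2 : IsUnit (σe.symm b) := isUnit_of_map_unit (eval0 A N).toRingHom _ hb
      simpa using h2.map σe.toAlgHom⟩
  let t : Fin N → A := fun i => e (x i)
  have ht : ∀ i, t i ∈ maximalIdeal A := fun i => map_nonunit e.toRingHom _ (x_mem i)
  obtain ⟨κ, hκC, hκx⟩ := exists_ringHom ((algebraMap A (Pn A N)).comp e.toRingHom)
    (RingHom.isLocalHom_comp _ _) (fun i => (x i : Pn A N)) x_mem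
  let tr : Pn A N →ₐ[A] Pn A N :=
    { κ.comp τ.toRingHom with
      commutes' := fun b => by
        show κ (τ (algebraMap A (Pn A N) b)) = _
        rw [hτC]
        show κ (algebraMap (Pn A N) _ _) = _
        rw [hκC]
        exact congrArg (algebraMap A (Pn A N)) (e.commutes b) }
  have htrx : ∀ i, tr (x i) = x i + α (t i) := fun i => by
    show κ (τ (x i)) = _
    rw [hτ, map_add, hκx, add_comm]
    exact congrArg _ (hκC (x i))
  refine ⟨tr, bijective_of_linear tr 1 (by simp) fun i => ?_, fun i => ⟨t i, ht i, htrx i⟩, e z₀, ?_⟩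
  · rw [htrx, Finset.sum_eq_single i (fun j _ hj => by simp [Matrix.one_apply, hj.symm]) (by simp)]
    simp only [Matrix.one_apply_eq, map_one, one_mul, add_sub_cancel_left]
    exact Ideal.mem_sup_left (Ideal.mem_map_of_mem _ (ht i))
  · have h2 : tr z - α (e z₀) ∈ X' ^ 2 := by
      have h3 := Ideal.mem_map_of_mem κ hz₀
      rw [Ideal.map_pow, Ideal.map_span, ← Set.range_comp,
        show (κ ∘ (x : Fin N → Pn (Pn A N) N)) = x from funext hκx] at h3
      convert h3 using 1
      rw [map_sub, map_sub, map_sum]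
      simp only [map_mul, show ∀ w, κ (cst w) = α (e w) from hκC, heh, map_zero, zero_mul,
        Finset.sum_const_zero, sub_zero]
      rfl
    obtain ⟨w, hw⟩ := exists_sum_sq h2
    exact ⟨w, by rw [← hw]; ring⟩

theorem upper_transpose {R : Type*} [CommRing R] (b : Matrix (Fin N) (Fin N) R) : upper bᵀ = upper b := by
  ext i j
  simp only [upper, Matrix.transpose_apply]
  split <;> [exact add_comm _ _; rfl]

theorem upper_add {R : Type*} [CommRing R] (b b' : Matrix (Fin N) (Fin N) R) :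
    upper (b + b') = upper b + upper b' := by
  ext i j
  simp only [upper, Matrix.add_apply, Pi.add_apply]
  split_ifs <;> simp [add_add_add_comm]

theorem upper_tri {R : Type*} [CommRing R] (q : Fin N → Fin N → R) {i j : Fin N} (hij : i ≤ j) :
    upper (tri q) i j = q i j := by
  simp only [upper, tri, Matrix.of_apply]
  rcases hij.lt_or_eq with h | h
  · simp [h, hij, not_le.2 h]
  · subst h; simp

theorem upper_map {R S : Type*} [CommRing R] [CommRing S] (f : R →+* S) (b : Matrix (Fin N) (Fin N) R)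
    (i j : Fin N) : upper (b.map f) i j = f (upper b i j) := by
  simp only [upper, Matrix.map_apply]
  split_ifs <;> simp

theorem polarMatrix_map {R S : Type*} [CommRing R] [CommRing S] (f : R →+* S) (q : Fin N → Fin N → R) :
    polarMatrix (fun i j => f (q i j)) = (polarMatrix q).map f := by
  ext i j
  simp only [polarMatrix, Matrix.map_apply]
  split_ifs <;> simp [map_ofNat]

/-- A constant plus a quadratic expression with non-degenerate value at the origin is, after a change
of coordinates, a constant plus a quadratic form. -/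
theorem exists_table_normal (c : A) (w : Matrix (Fin N) (Fin N) (Pn A N)) (q : Fin N → Fin N → A)
    (hq : ∀ i j, i ≤ j → upper w i j - algebraMap A (Pn A N) (q i j) ∈ maximalIdeal (Pn A N))
    (hnd : QuadNondeg q) :
    ∃ φ : Pn A N →ₐ[A] Pn A N, Function.Bijective φ ∧
      φ (ι (quadPoly q + C c)) = algebraMap A (Pn A N) c + x ⬝ᵥ (w *ᵥ x) := by
  classical
  set α : A →+* Pn A N := algebraMap A (Pn A N)
  let Idx : Type := {p : Fin N × Fin N // p.1 ≤ p.2}
  let Um : Matrix (Fin N) (Fin N) (MvPolynomial Idx (Pn A N)) :=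
    Matrix.of fun i j => if h : i ≤ j then MvPolynomial.X ⟨(i, j), h⟩ else 0
  let C' : Pn A N →+* MvPolynomial Idx (Pn A N) := MvPolynomial.C
  let U0 : Matrix (Fin N) (Fin N) (MvPolynomial Idx (Pn A N)) := (tri q).map (C'.comp α)
  let B : Matrix (Fin N) (Fin N) (MvPolynomial Idx (Pn A N)) := (polarMatrix q).map (C'.comp α)
  have hBdet : IsUnit B.det := by
    show IsUnit (((C'.comp α).mapMatrix (polarMatrix q)).det)
    rw [← RingHom.map_det]
    exact hnd.map _
  let G := B⁻¹ * Um
  let T := (1 + G)ᵀ * U0 * (1 + G) - w.map C'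
  have hBU : B = U0 + U0ᵀ := by
    simp only [B, U0, polarMatrix_eq, Matrix.map_add _ (map_add (C'.comp α)), Matrix.transpose_map]
  have hT : ∀ i j : Fin N, i ≤ j → upper T i j =
      Um i j + upper (Gᵀ * U0 * G) i j + C' (α (q i j) - upper w i j) := by
    intro i j hij
    have h1 : T = (U0 * G + (Gᵀ * U0)) + (Gᵀ * U0 * G) + (U0 - w.map C') := by
      simp only [T, Matrix.transpose_add, Matrix.transpose_one, Matrix.add_mul, Matrix.one_mul,
        Matrix.mul_add, Matrix.mul_one]
      abel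
    have h2 : upper (U0 * G + Gᵀ * U0) = upper Um := by
      rw [upper_add, ← upper_transpose (Gᵀ * U0), Matrix.transpose_mul, Matrix.transpose_transpose,
        ← upper_add, ← Matrix.add_mul, ← hBU, Matrix.mul_nonsing_inv_cancel_left _ _ hBdet]
    have h3 : upper Um i j = Um i j := by
      simp only [upper]
      rcases hij.lt_or_eq with h | h
      · simp [Um, h, hij, not_le.2 h]
      · subst h; simp
    have h4 : upper (U0 - w.map C') i j = C' (α (q i j) - upper w i j) := by
      rw [show U0 - w.map C' = ((tri q).map α - w).map C' by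
        ext i j; simp [U0], upper_map]
      congr 1
      rw [sub_eq_add_neg, upper_add, Pi.add_apply, Pi.add_apply, upper_map, upper_tri q hij,
        sub_eq_add_neg]
      congr 1
      simp only [upper, Matrix.neg_apply]
      split_ifs <;> ring
    rw [h1, upper_add, upper_add, Pi.add_apply, Pi.add_apply, Pi.add_apply, Pi.add_apply, h2, h3, h4]
  let v : Idx → MvPolynomial Idx (Pn A N) := fun p => upper T p.1.1 p.1.2
  let ev : MvPolynomial Idx (Pn A N) →+* Pn A N := MvPolynomial.eval fun _ => 0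
  have hG0 : ∀ i j, ev (G i j) = 0 := fun i j => by
    have : ev.mapMatrix Um = 0 := by
      ext i j
      simp only [Um, ev, RingHom.mapMatrix_apply, Matrix.map_apply, Matrix.of_apply, Matrix.zero_apply]
      split <;> simp
    have h2 : ev.mapMatrix G = 0 := by rw [map_mul, this, Matrix.mul_zero]
    exact congrFun (congrFun h2 i) j
  have hquad : ∀ i j (k : Idx), ev (upper (Gᵀ * U0 * G) i j) = 0 ∧
      ev (pderiv k (upper (Gᵀ * U0 * G) i j)) = 0 := by
    intro i j k
    have h1 : ∀ i j, ev ((Gᵀ * U0 * G) i j) = 0 ∧ ev (pderiv k ((Gᵀ * U0 * G) i j)) = 0 := by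
      intro i j
      simp only [Matrix.mul_apply, Matrix.transpose_apply, map_sum, Finset.sum_mul, MvPolynomial.pderiv_mul,
        map_add, map_mul, hG0, mul_zero, zero_mul, add_zero, Finset.sum_const_zero, and_self]
    simp only [upper]
    split_ifs
    · simp [(h1 i j).1, (h1 i j).2, (h1 j i).1, (h1 j i).2]
    · exact h1 i i
    · simp
  have hev0 : ∀ p : Idx, ev (v p) = α (q p.1.1 p.1.2) - upper w p.1.1 p.1.2 := fun p => by
    show ev (upper T _ _) = _
    rw [hT _ _ p.2, map_add, map_add, (hquad _ _ p).1]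
    simp [ev, C', Um, p.2]
  have hJ : ∀ p k : Idx, ev (pderiv k (v p)) = if p = k then 1 else 0 := fun p k => by
    show ev (pderiv k (upper T _ _)) = _
    rw [hT _ _ p.2, map_add, map_add, map_add, map_add, (hquad _ _ k).2]
    simp only [C', Um, Matrix.of_apply, dif_pos p.2, MvPolynomial.pderiv_C, map_zero, add_zero,
      MvPolynomial.pderiv_X]
    rw [show (⟨(p.1.1, p.1.2), p.2⟩ : Idx) = p from rfl]
    by_cases h : p = k
    · subst h; simp [ev]
    · rw [if_neg h, Pi.single_eq_of_ne h]; simp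
  obtain ⟨u, hu, hu0⟩ := Hensel.exists_root_of_isUnit_jacobian (maximalIdeal (Pn A N)) v (fun _ => 0)
    (fun p => by
      show ev (v p) ∈ _
      rw [hev0, ← neg_sub]
      exact neg_mem (hq _ _ p.2))
    (by
      rw [show (Matrix.of fun p k : Idx => MvPolynomial.eval (fun _ => (0 : Pn A N)) (pderiv k (v p))) = 1 from
        Matrix.ext fun p k => by rw [Matrix.of_apply, Matrix.one_apply]; exact hJ p k]
      simp)
  let evu : MvPolynomial Idx (Pn A N) →+* Pn A N := MvPolynomial.eval u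
  let M' : Matrix (Fin N) (Fin N) (Pn A N) := evu.mapMatrix (1 + G)
  have hGmem : ∀ i j, evu (G i j) ∈ maximalIdeal (Pn A N) := fun i j => by
    have h0 : ∀ a b, evu (Um a b) ∈ maximalIdeal (Pn A N) := fun a b => by
      simp only [Um, evu, Matrix.of_apply]
      split
      · simpa using hu0 _
      · simp
    rw [show G i j = ∑ b, B⁻¹ i b * Um b j from Matrix.mul_apply, map_sum]
    exact Submodule.sum_mem _ fun b _ => (map_mul evu (B⁻¹ i b) (Um b j)).symm ▸ Ideal.mul_mem_left _ _ (h0 b j)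
  let Z : Fin N → Pn A N := M' *ᵥ x
  have hZ : ∀ i, Z i = x i + ∑ j, evu (G i j) * x j := fun i => by
    simp only [Z, M', Matrix.mulVec, dotProduct, RingHom.mapMatrix_apply, Matrix.map_apply,
      Matrix.add_apply, map_add, add_mul, Finset.sum_add_distrib, Matrix.one_apply, apply_ite evu, map_one,
      map_zero, ite_mul, one_mul, zero_mul, Finset.sum_ite_eq, Finset.mem_univ, if_true]
  have hlin : ∀ i, Z i - ∑ j, algebraMap A (Pn A N) ((1 : Matrix (Fin N) (Fin N) A) i j) * x j ∈ W A N :=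
    fun i => by
    rw [hZ, show ∑ j, algebraMap A (Pn A N) ((1 : Matrix (Fin N) (Fin N) A) i j) * x j = x i by
      rw [Finset.sum_eq_single i
        (fun j _ hj => by rw [Matrix.one_apply_ne (Ne.symm hj), map_zero, zero_mul]) (by simp),
        Matrix.one_apply_eq, map_one, one_mul],
      add_sub_cancel_left]
    exact Submodule.sum_mem _ fun j _ => Ideal.mem_sup_right (sq (maximalIdeal (Pn A N)) ▸
      Ideal.mul_mem_mul (hGmem i j) (x_mem j))
  obtain ⟨φ, hφ⟩ := exists_algHom (A := A) Z (mem_maximalIdeal_of_linear Z 1 hlin)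
  refine ⟨φ, bijective_of_linear φ 1 (by simp) (by simpa [hφ] using hlin), ?_⟩
  have hroot : ∀ i j, i ≤ j →
      upper (M'ᵀ * (tri q).map α * M') i j = upper w i j := fun i j hij => by
    have hC : ∀ r, evu (C' r) = r := fun r => MvPolynomial.eval_C r
    have h0 : evu (upper T i j) = 0 := hu ⟨(i, j), hij⟩
    have hTu : evu.mapMatrix T = M'ᵀ * (tri q).map α * M' - w := by
      show evu.mapMatrix ((1 + G)ᵀ * U0 * (1 + G) - w.map C') = _
      have e1 : evu.mapMatrix U0 = (tri q).map α := Matrix.ext fun a b => hC _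
      have e2 : evu.mapMatrix (w.map C') = w := Matrix.ext fun a b => hC _
      have e3 : evu.mapMatrix (1 + G)ᵀ = M'ᵀ := Matrix.ext fun a b => rfl
      rw [map_sub, map_mul, map_mul, e1, e2, e3]
    rw [← upper_map, show T.map evu = evu.mapMatrix T from rfl, hTu, sub_eq_add_neg, upper_add,
      Pi.add_apply, Pi.add_apply] at h0
    rw [← sub_eq_zero, ← h0, sub_eq_add_neg]
    congr 1
    simp only [upper, Matrix.neg_apply]
    split_ifs <;> ring
  rw [map_add, show (ι (C c) : Pn A N) = α c from rfl, map_add, φ.commutes, add_comm]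
  congr 1
  calc φ (ι (quadPoly q)) = quadEval (fun i j => α (q i j)) Z := by
        rw [ι_eq_aeval, ← AlgHom.comp_apply, comp_aeval, show (fun i => φ (x i)) = Z from funext hφ]
        simp only [quadPoly, quadEval, map_sum, apply_ite (aeval Z), map_mul, aeval_C, aeval_X, map_zero]
        rfl
    _ = Z ⬝ᵥ ((tri q).map α *ᵥ Z) := by
        rw [quadEval_eq_dotProduct]
        congr 2
        ext i j
        simp only [tri, Matrix.map_apply, Matrix.of_apply]
        split <;> simp
    _ = x ⬝ᵥ ((M'ᵀ * (tri q).map α * M') *ᵥ x) := by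
        rw [← Matrix.mulVec_mulVec, ← Matrix.mulVec_mulVec, Matrix.dotProduct_mulVec x M'ᵀ,
          Matrix.vecMul_transpose]
    _ = x ⬝ᵥ (w *ᵥ x) := by
        rw [← quadEval_upper, ← quadEval_upper]
        exact quadEval_congr hroot _

end Groth.Agent.Morse46
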