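import Groth.Agent.Morse46.Weierstrass
import Mathlib.LinearAlgebra.Matrix.ToLinearEquiv

/-!
# The normal form of a degenerate ordinary equation

An equation whose quadratic part is ordinary with degenerate polar form becomes, after a change of
coordinates and up to a unit, `x₀² + b x₀ + c + Q'(x₁, …, x_M)` with `Q'` non-degenerate.
-/

set_option linter.style.haveILetI false
set_option linter.unusedSectionVars false

noncomputable section

namespace Groth.Agent.Morse46

open IsLocalRing VanCyc Matrix Finsupp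

universe u

/-- The degenerate model equation. -/
def degPoly {A : Type u} [CommRing A] {M : ℕ} (a' : Fin M → Fin M → A) (b c : A) :
    MvPolynomial (Fin (M + 1)) A :=
  MvPolynomial.X 0 ^ 2 + MvPolynomial.C b * MvPolynomial.X 0 + MvPolynomial.C c +
    MvPolynomial.rename Fin.succ (quadPoly a')

section Transform

variable {A : Type u} [CommRing A] [HenselianLocalRing A] {N N' : ℕ}
  {K : Type u} [Field K] [Algebra A K] [IsLocalHom (algebraMap A K)]
  {R : Type u} [CommRing R] [HenselianLocalRing R] [Algebra R K] [IsLocalHom (algebraMap R K)]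
  [Algebra A (Pn R N')]

/-- The expansion of the image under a change of coordinates. -/
theorem transform (Ψ : Pn A N →ₐ[A] Pn R N')
    (hcomp : ∀ a, E R K N' (algebraMap A (Pn R N') a) = algebraMap A (MvPowerSeries (Fin N') K) a)
    (hm : ∀ i, Ψ (x i) ∈ maximalIdeal (Pn R N')) (z : Pn A N) (hlow : NoLowTerms (E A K N z)) :
    NoLowTerms (E R K N' (Ψ z)) ∧ ∀ w, quadEval (quadPart (E R K N' (Ψ z))) w =
      quadEval (quadPart (E A K N z))
        ((Matrix.of fun i j => MvPowerSeries.coeff (single j 1) (E R K N' (Ψ (x i)))) *ᵥ w) := by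
  haveI := isLocalHom_of_algHom (φ := E R K N') E_x_mem
  have hv : ∀ i, E R K N' (Ψ (x i)) ∈ PSLib.vars N' K := fun i => by
    rw [← PSLib.maximalIdeal_eq_vars]
    exact map_nonunit (E R K N').toRingHom _ (hm i)
  obtain ⟨ψ, hψ⟩ := PSLib.exists_algHom (R := K) (PSLib.vars N' K) _ hv
  let EΨ : Pn A N →ₐ[A] MvPowerSeries (Fin N') K :=
    { (E R K N').toRingHom.comp Ψ.toRingHom with
      commutes' := fun a => by
        show E R K N' (Ψ (algebraMap A (Pn A N) a)) = _
        rw [Ψ.commutes, hcomp] }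
  have h1 : EΨ = (ψ.restrictScalars A).comp (E A K N) := by
    refine algHom_ext (fun i => ?_) fun i => ?_
    · show E R K N' (Ψ (x i)) = ψ (E A K N (x i))
      rw [E_x, hψ]
    · show E R K N' (Ψ (x i)) ∈ _
      rw [PSLib.maximalIdeal_eq_vars]
      exact hv i
  have h2 : E R K N' (Ψ z) = ψ (E A K N z) := congr($h1 z)
  refine ⟨?_, fun w => ?_⟩
  · rw [noLowTerms_iff, h2]
    exact PSLib.map_pow_le ψ (fun i => (hψ i).symm ▸ hv i) 2 (Ideal.mem_map_of_mem _ (noLowTerms_iff.1 hlow))
  · rw [h2, ← one_mul (ψ _), quadEval_quadPart_map hlow ψ 1 (fun i => (hψ i).symm ▸ hv i)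
      (Matrix.of fun i j => MvPowerSeries.coeff (single j 1) (E R K N' (Ψ (x i))))
      (fun i j => by rw [hψ]; rfl), map_one, one_mul]

end Transform

variable {A : Type u} [CommRing A] [HenselianLocalRing A] {M : ℕ}
  {K : Type u} [Field K] [Algebra A K] [IsLocalHom (algebraMap A K)]

theorem quadEval_smul {R : Type*} [CommRing R] {N : ℕ} (q : Fin N → Fin N → R) (s : R) (v : Fin N → R) :
    quadEval q (s • v) = s ^ 2 * quadEval q v := by
  simp only [quadEval_eq_dotProduct, Matrix.mulVec_smul, dotProduct_smul, smul_dotProduct, smul_eq_mul]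
  ring

theorem dotProduct_polar {R : Type*} [CommRing R] {N : ℕ} (q : Fin N → Fin N → R) (v : Fin N → R) :
    v ⬝ᵥ (polarMatrix q *ᵥ v) = 2 * quadEval q v := by
  have h := quadEval_add q v v
  rw [← two_smul R v, quadEval_smul] at h
  linear_combination -h

theorem polarMatrix_transpose {R : Type*} [CommRing R] {N : ℕ} (q : Fin N → Fin N → R) :
    (polarMatrix q)ᵀ = polarMatrix q := by
  rw [polarMatrix_eq, Matrix.transpose_add, Matrix.transpose_transpose, add_comm]

/-- The basis change putting a vector with a unit entry `j₀` first. -/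
def pivot {R : Type*} [CommRing R] (v : Fin (M + 1) → R) (j₀ : Fin (M + 1)) :
    Matrix (Fin (M + 1)) (Fin (M + 1)) R :=
  Matrix.of fun i j =>
    (Fin.cases (v i) (fun l => if i = j₀.succAbove l then 1 else 0) j : R)

theorem pivot_mulVec {R : Type*} [CommRing R] (v : Fin (M + 1) → R) (j₀ : Fin (M + 1)) (w : Fin (M + 1) → R) :
    (pivot v j₀ *ᵥ w) j₀ = v j₀ * w 0 ∧
      ∀ l, (pivot v j₀ *ᵥ w) (j₀.succAbove l) = v (j₀.succAbove l) * w 0 + w l.succ := by
  refine ⟨?_, fun l => ?_⟩
  · simp [pivot, Matrix.mulVec, dotProduct, Fin.sum_univ_succ, (Fin.succAbove_ne j₀ _).symm]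
  · simp [pivot, Matrix.mulVec, dotProduct, Fin.sum_univ_succ, Fin.succAbove_right_inj]

theorem isUnit_det_pivot {k : Type*} [Field k] (v : Fin (M + 1) → k) (j₀ : Fin (M + 1)) (hv : v j₀ ≠ 0) :
    IsUnit (pivot v j₀).det := by
  rw [isUnit_iff_ne_zero]
  intro h
  obtain ⟨w, hw, hw'⟩ := Matrix.exists_mulVec_eq_zero_iff.2 h
  obtain ⟨h1, h2⟩ := pivot_mulVec v j₀ w
  have h0 : w 0 = 0 := by
    have := congrFun hw' j₀
    rw [h1] at this
    exact (mul_eq_zero.1 this).resolve_left hv
  refine hw (funext fun i => ?_)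
  induction i using Fin.cases with
  | zero => exact h0
  | succ l =>
    have := congrFun hw' (j₀.succAbove l)
    rwa [h2, h0, mul_zero, zero_add] at this

set_option maxHeartbeats 4000000 in
/-- **The normal form of a degenerate ordinary equation.** -/
theorem exists_normalForm_deg [IsAlgClosed K] (z : Pn A (M + 1)) (hlow : NoLowTerms (E A K (M + 1) z))
    (hord : QuadOrd (quadPart (E A K (M + 1) z)))
    (hdet : (polarMatrix (quadPart (E A K (M + 1) z))).det = 0) :
    ∃ (a' : Fin M → Fin M → A) (b c : A), QuadNondeg a' ∧ b ∈ maximalIdeal A ∧ c ∈ maximalIdeal A ∧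
      Nonempty ((Pn A (M + 1) ⧸ Ideal.span {z}) ≃ₐ[A] PQ (Ideal.span {degPoly a' b c})) := by
  classical
  set q := quadPart (E A K (M + 1) z) with hqdef
  set H := polarMatrix q with hHdef
  -- the radical line, defined over the residue field
  obtain ⟨l₀, a, hz⟩ := exists_decomp z
  obtain ⟨-, -, hqa⟩ := E_expansion (K := K) _ l₀ a hz
  have hHa : H = ((a + aᵀ).map (algebraMap A K)) := by
    rw [hHdef, PSQuad.polarMatrix_congr (q' := fun i j => algebraMap A K (upper a i j)) hqa, polarMatrix_map,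
      polarMatrix_upper]
  obtain ⟨vt, j₀, hvj, hHv⟩ : ∃ (vt : Fin (M + 1) → A) (j₀ : Fin (M + 1)), IsUnit (vt j₀) ∧
      H *ᵥ (fun i => algebraMap A K (vt i)) = 0 := by
    have hd : ((residue A).mapMatrix (a + aᵀ)).det = 0 := by
      rw [← RingHom.map_det, residue_eq_zero_iff]
      refine mem_of_algebraMap_eq_zero (K := K) ?_
      rw [RingHom.map_det, RingHom.mapMatrix_apply, ← hHa]
      exact hdet
    obtain ⟨v, hv0, hv⟩ := Matrix.exists_mulVec_eq_zero_iff.2 hd
    choose vt hvt using fun i => residue_surjective (v i)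
    obtain ⟨j₀, hj₀⟩ := Function.ne_iff.1 hv0
    refine ⟨vt, j₀, ?_, funext fun i => ?_⟩
    · rw [← IsLocalRing.notMem_maximalIdeal, ← residue_eq_zero_iff, hvt]
      exact hj₀
    · rw [hHa, ← RingHom.mapMatrix_apply, RingHom.mapMatrix_apply]
      show (((a + aᵀ).map (algebraMap A K)) *ᵥ ((algebraMap A K) ∘ vt)) i = 0
      rw [← RingHom.map_mulVec]
      refine algebraMap_eq_zero_of_mem ?_
      rw [← residue_eq_zero_iff, RingHom.map_mulVec, show (residue A) ∘ vt = v from funext hvt]
      exact congrFun hv i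
  set V : Fin (M + 1) → K := fun i => algebraMap A K (vt i) with hV
  have hV0 : V j₀ ≠ 0 := (hvj.map (algebraMap A K)).ne_zero
  have hqV : quadEval q V ≠ 0 := fun h => hV0 (congrFun (hord V h hHv) j₀)
  have h2K : (2 : K) = 0 := by
    have h := dotProduct_polar q V
    rw [← hHdef, hHv, dotProduct_zero] at h
    exact (mul_eq_zero.1 h.symm).resolve_right hqV
  -- the linear change of coordinates
  set P : Matrix (Fin (M + 1)) (Fin (M + 1)) A := pivot vt j₀ with hPdef
  have hPmap : P.map (algebraMap A K) = pivot V j₀ := by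
    ext i j
    induction j using Fin.cases with
    | zero => rfl
    | succ l =>
      simp only [hPdef, pivot, Matrix.map_apply, Matrix.of_apply, Fin.cases_succ]
      split <;> simp
  have hPdet : IsUnit P.det := by
    refine isUnit_of_algebraMap_ne_zero (K := K) ?_
    rw [RingHom.map_det, RingHom.mapMatrix_apply, hPmap]
    exact (isUnit_det_pivot V j₀ hV0).ne_zero
  have hlinP : ∀ i, (∑ j, algebraMap A (Pn A (M + 1)) (P i j) * x j) -
      ∑ j, algebraMap A (Pn A (M + 1)) (P i j) * x j ∈ W A (M + 1) := fun i => by simp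
  obtain ⟨σ, hσ⟩ := exists_algHom (A := A) (fun i => ∑ j, algebraMap A (Pn A (M + 1)) (P i j) * x j)
    (mem_maximalIdeal_of_linear _ P hlinP)
  have hσb : Function.Bijective σ := bijective_of_linear σ P hPdet (by simpa [hσ] using hlinP)
  have hσm : ∀ i, σ (x i) ∈ maximalIdeal (Pn A (M + 1)) := fun i => by
    rw [hσ]; exact mem_maximalIdeal_of_linear _ P hlinP i
  obtain ⟨hlow1, hq1⟩ := transform (K := K) σ (fun a => (E A K (M + 1)).commutes a) hσm z hlow
  have hL1 : (Matrix.of fun i j => MvPowerSeries.coeff (single j 1) (E A K (M + 1) (σ (x i)))) =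
      P.map (algebraMap A K) := by
    ext i j
    simp [hσ, map_sum, MvPowerSeries.algebraMap_apply, MvPowerSeries.coeff_C_mul, MvPowerSeries.coeff_X,
      Finsupp.single_left_inj one_ne_zero, eq_comm]
  rw [hL1, hPmap] at hq1
  set g₁ := σ z
  -- `Pn A (M + 1)` as an affine space over the henselized line
  let R := Pn A 1
  letI : Algebra R K := ((MvPowerSeries.constantCoeff (σ := Fin 1) (R := K)).comp (E A K 1).toRingHom).toAlgebra
  haveI : IsScalarTower A R K := .of_algebraMap_eq fun a => by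
    show algebraMap A K a = MvPowerSeries.constantCoeff (E A K 1 (algebraMap A R a))
    rw [AlgHom.commutes, MvPowerSeries.algebraMap_apply, MvPowerSeries.constantCoeff_C]
  haveI hRK : IsLocalHom (algebraMap R K) := ⟨fun r hr => by
    haveI := isLocalHom_of_algHom (φ := E A K 1) E_x_mem
    exact isUnit_of_map_unit (E A K 1).toRingHom r (MvPowerSeries.isUnit_iff_constantCoeff.2 hr)⟩
  let t : R := x 0
  have htK : algebraMap R K t = 0 := by
    show MvPowerSeries.constantCoeff (E A K 1 (x 0)) = 0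
    rw [E_x, MvPowerSeries.constantCoeff_X]
  letI : Algebra A (Pn R M) := ((algebraMap R (Pn R M)).comp (algebraMap A R)).toAlgebra
  haveI : IsScalarTower A R (Pn R M) := .of_algebraMap_eq fun _ => rfl
  haveI : IsLocalHom (algebraMap A (Pn R M)) :=
    RingHom.isLocalHom_comp (algebraMap R (Pn R M)) (algebraMap A R)
  have htm : algebraMap R (Pn R M) t ∈ maximalIdeal (Pn R M) := map_nonunit _ t (x_mem 0)
  let θv : Fin (M + 1) → Pn R M := Fin.cases (algebraMap R (Pn R M) t) fun l => x l
  have hθvm : ∀ i, θv i ∈ maximalIdeal (Pn R M) := fun i => by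
    induction i using Fin.cases with
    | zero => exact htm
    | succ l => exact x_mem l
  obtain ⟨θ, hθ⟩ := exists_algHom (A := A) θv hθvm
  obtain ⟨f₁, hf₁⟩ := exists_algHom (A := A) (T := Pn A (M + 1)) (fun _ : Fin 1 => x 0) fun _ => x_mem 0
  obtain ⟨θ', hθ'R, hθ'x⟩ := exists_ringHom f₁.toRingHom
    (isLocalHom_of_algHom fun i => (hf₁ i).symm ▸ x_mem 0) (fun l : Fin M => (x l.succ : Pn A (M + 1)))
    fun l => x_mem _
  let θ'ₐ : Pn R M →ₐ[A] Pn A (M + 1) :=
    { θ' with
      commutes' := fun a => (hθ'R (algebraMap A R a)).trans (f₁.commutes a) }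
  have hθ'θ : ∀ w, θ' (θ w) = w := by
    have : θ'ₐ.comp θ = AlgHom.id A (Pn A (M + 1)) := algHom_ext (fun i => by
      show θ' (θ (x i)) = x i
      rw [hθ]
      induction i using Fin.cases with
      | zero => exact (hθ'R t).trans (hf₁ 0)
      | succ l => exact hθ'x l) fun i => by
      show θ' (θ (x i)) ∈ _
      rw [hθ]
      induction i using Fin.cases with
      | zero => exact ((hθ'R t).trans (hf₁ 0)).symm ▸ x_mem 0
      | succ l => exact (hθ'x l).symm ▸ x_mem _
    exact fun w => congr($this w)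
  have hθf : ∀ r : R, θ (f₁ r) = algebraMap R (Pn R M) r := by
    have : θ.comp f₁ = IsScalarTower.toAlgHom A R (Pn R M) := algHom_ext (fun i => by
      obtain rfl : i = 0 := Subsingleton.elim _ _
      show θ (f₁ (x 0)) = _
      rw [hf₁, hθ]; rfl) fun i => by
      obtain rfl : i = 0 := Subsingleton.elim _ _
      show θ (f₁ (x 0)) ∈ _
      rw [hf₁, hθ]; exact htm
    exact fun r => congr($this r)
  have hθθ' : ∀ w, θ (θ' w) = w := by
    let comp : Pn R M →ₐ[R] Pn R M :=
      { θ.toRingHom.comp θ' with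
        commutes' := fun r => by
          show θ (θ' (algebraMap R _ r)) = _
          rw [hθ'R]
          exact hθf r }
    have : comp = AlgHom.id R (Pn R M) := algHom_ext (fun l => by
      show θ (θ' (x l)) = x l
      rw [hθ'x, hθ]; rfl) fun l => by
      show θ (θ' (x l)) ∈ _
      rw [hθ'x, hθ]; exact x_mem l
    exact fun w => congr($this w)
  -- the quadratic part in the transversal coordinates
  have hcompR : ∀ a, E R K M (algebraMap A (Pn R M) a) = algebraMap A (MvPowerSeries (Fin M) K) a := fun a => by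
    rw [IsScalarTower.algebraMap_apply A R (Pn R M), AlgHom.commutes, MvPowerSeries.algebraMap_apply,
      MvPowerSeries.algebraMap_apply, ← IsScalarTower.algebraMap_apply]
  obtain ⟨hlow2, hq2⟩ := transform (K := K) θ hcompR (fun i => (hθ i).symm ▸ hθvm i) g₁ hlow1
  let L2 : Matrix (Fin (M + 1)) (Fin M) K := Matrix.of fun i j =>
    (Fin.cases 0 (fun l => if l = j then 1 else 0) i : K)
  have hL2 : (Matrix.of fun i j => MvPowerSeries.coeff (single j 1) (E R K M (θ (x i)))) = L2 := by
    ext i j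
    rw [Matrix.of_apply, hθ]
    induction i using Fin.cases with
    | zero => simp [θv, L2, htK, MvPowerSeries.algebraMap_apply]
    | succ l => simp [θv, L2, MvPowerSeries.coeff_X, Finsupp.single_left_inj one_ne_zero, eq_comm]
  rw [hL2] at hq2
  set g₂ := θ g₁
  have hq2' : ∀ w, quadEval (quadPart (E R K M g₂)) w = 1 * quadEval q ((pivot V j₀ * L2) *ᵥ w) := fun w => by
    rw [one_mul, hq2, hq1, Matrix.mulVec_mulVec]
  have hH2 := polarMatrix_of_comp 1 _ hq2'
  rw [one_smul, ← hHdef] at hH2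
  have hnd2 : (polarMatrix (quadPart (E R K M g₂))).det ≠ 0 := by
    intro h0
    obtain ⟨w, hw, hw'⟩ := Matrix.exists_mulVec_eq_zero_iff.2 h0
    set u := (pivot V j₀ * L2) *ᵥ w with hu
    have hLw : ∀ l, (L2 *ᵥ w) l.succ = w l := fun l => by simp [L2, Matrix.mulVec, dotProduct]
    have hLw0 : (L2 *ᵥ w) 0 = 0 := by simp [L2, Matrix.mulVec, dotProduct]
    have hu0 : u j₀ = 0 := by
      rw [hu, ← Matrix.mulVec_mulVec, (pivot_mulVec V j₀ _).1, hLw0, mul_zero]
    have hul : ∀ l, u (j₀.succAbove l) = w l := fun l => by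
      rw [hu, ← Matrix.mulVec_mulVec, (pivot_mulVec V j₀ _).2, hLw0, mul_zero, zero_add, hLw]
    have hHu : H *ᵥ u = 0 := by
      have h1 : (pivot V j₀ * L2)ᵀ *ᵥ (H *ᵥ u) = 0 := by
        rw [hu, Matrix.mulVec_mulVec, Matrix.mulVec_mulVec, Matrix.mul_assoc, ← Matrix.mul_assoc, ← hH2]
        exact hw'
      have hl : ∀ l, (H *ᵥ u) (j₀.succAbove l) = 0 := fun l => by
        have := congrFun h1 l
        simpa [Matrix.mulVec, dotProduct, Matrix.mul_apply, L2, pivot, Fin.sum_univ_succ] using this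
      have hVd : V ⬝ᵥ (H *ᵥ u) = 0 := by
        rw [Matrix.dotProduct_mulVec, ← Matrix.mulVec_transpose, hHdef, polarMatrix_transpose, ← hHdef, hHv,
          zero_dotProduct]
      rw [dotProduct, Fin.sum_univ_succAbove _ j₀] at hVd
      simp only [hl, mul_zero, Finset.sum_const_zero, add_zero] at hVd
      funext i
      rcases eq_or_ne i j₀ with rfl | hi
      · exact (mul_eq_zero.1 hVd).resolve_left hV0
      · obtain ⟨l, rfl⟩ := Fin.exists_succAbove_eq hi
        exact hl l
    obtain ⟨s, hs⟩ := IsAlgClosed.exists_pow_nat_eq (-(quadEval q u) / quadEval q V) two_pos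
    have hHuV : H *ᵥ (u + s • V) = 0 := by rw [Matrix.mulVec_add, Matrix.mulVec_smul, hHu, hHv, smul_zero, add_zero]
    have hq0 : quadEval q (u + s • V) = 0 := by
      rw [quadEval_add, quadEval_smul, ← hHdef, Matrix.mulVec_smul, hHv, smul_zero, dotProduct_zero, add_zero, hs,
        div_mul_cancel₀ _ hqV, add_neg_cancel]
    have hz0 := hord _ hq0 hHuV
    have hs0 : s = 0 := by
      have := congrFun hz0 j₀
      rw [Pi.add_apply, hu0, zero_add, Pi.smul_apply, smul_eq_mul, Pi.zero_apply] at this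
      exact (mul_eq_zero.1 this).resolve_right hV0
    refine hw (funext fun l => ?_)
    have := congrFun hz0 (j₀.succAbove l)
    simpa [hs0, hul] using this
  -- the critical point over the line
  obtain ⟨l₂, a₂, hz₂⟩ := exists_decomp g₂
  obtain ⟨-, hl₂, hq₂a⟩ := E_expansion (K := K) _ l₂ a₂ hz₂
  have ha₂ : IsUnit (a₂ + a₂ᵀ).det := by
    refine isUnit_of_algebraMap_ne_zero (K := K) ?_
    rw [RingHom.map_det, RingHom.mapMatrix_apply, ← polarMatrix_upper, ← polarMatrix_map,
      ← PSQuad.polarMatrix_congr (q := quadPart (E R K M g₂)) hq₂a]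
    exact hnd2
  obtain ⟨tr, htr, htrx, g₀, w₂, hw₂⟩ := exists_translation g₂ l₂
    (fun i => mem_of_algebraMap_eq_zero (K := K) ((hl₂ i).symm.trans (hlow2.2 i))) a₂ ha₂ hz₂
  obtain ⟨-, -, hqw⟩ := E_expansion' (K := K) hw₂
  rw [E_comp_eq htrx] at hqw
  -- `g₀` has order two
  obtain ⟨w₀, hw₀⟩ := exists_coeff g₀
  obtain ⟨w₀', hw₀'⟩ := exists_coeff (w₀ 0)
  set c₀ := eval0 A 1 g₀
  set e₀ := eval0 A 1 (w₀ 0)
  set h := w₀' 0 with hh
  have hg₀ : g₀ = algebraMap A R c₀ + algebraMap A R e₀ * x 0 + h * x 0 ^ 2 := by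
    conv_lhs => rw [hw₀, Fin.sum_univ_one, hw₀', Fin.sum_univ_one]
    ring
  let Ψ : Pn A (M + 1) →ₐ[A] Pn A (M + 1) := θ'ₐ.comp ((tr.restrictScalars A).comp θ)
  have hΨx0 : Ψ (x 0) = x 0 := by
    show θ' (tr (θ (x 0))) = x 0
    rw [hθ]
    show θ' (tr (algebraMap R (Pn R M) t)) = x 0
    rw [tr.commutes, hθ'R]
    exact hf₁ 0
  have hf₁m : ∀ r ∈ maximalIdeal R, ∃ (a : A) (p : Pn A (M + 1)),
      a ∈ maximalIdeal A ∧ f₁ r = algebraMap A _ a + p * x 0 := by
    intro r hr
    obtain ⟨p, hp⟩ := exists_coeff r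
    haveI : IsLocalHom (eval0 A 1).toRingHom := isLocalHom_of_algHom fun i => by simp
    refine ⟨eval0 A 1 r, f₁ (p 0), map_nonunit (eval0 A 1).toRingHom r hr, ?_⟩
    conv_lhs => rw [hp, Fin.sum_univ_one, map_add, map_mul, f₁.commutes, hf₁]
  choose tt htt htrx' using htrx
  have hΨxl : ∀ l : Fin M, Ψ (x l.succ) = x l.succ + f₁ (tt l) := fun l => by
    show θ' (tr (θ (x l.succ))) = _
    rw [hθ]
    show θ' (tr (x l)) = _
    rw [htrx', map_add, hθ'x, hθ'R]
    rfl
  have hΨm : ∀ i, Ψ (x i) ∈ maximalIdeal (Pn A (M + 1)) := fun i => by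
    induction i using Fin.cases with
    | zero => rw [hΨx0]; exact x_mem 0
    | succ l =>
      rw [hΨxl]
      obtain ⟨a', p, ha', hp⟩ := hf₁m _ (htt l)
      rw [hp]
      exact add_mem (x_mem _) (add_mem (map_nonunit _ _ ha') (Ideal.mul_mem_left _ _ (x_mem 0)))
  obtain ⟨hlow3, hq3⟩ := transform (K := K) Ψ (fun a => (E A K (M + 1)).commutes a) hΨm g₁ hlow1
  set L3 : Matrix (Fin (M + 1)) (Fin (M + 1)) K :=
    Matrix.of fun i j => MvPowerSeries.coeff (single j 1) (E A K (M + 1) (Ψ (x i)))
  have hL30 : ∀ j, L3 0 j = if j = 0 then 1 else 0 := fun j => by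
    simp [L3, hΨx0, MvPowerSeries.coeff_X, Finsupp.single_left_inj one_ne_zero]
  have hL3s : ∀ l j : Fin M, L3 l.succ j.succ = if j = l then 1 else 0 := fun l j => by
    obtain ⟨a', p, ha', hp⟩ := hf₁m _ (htt l)
    show MvPowerSeries.coeff (single j.succ 1) (E A K (M + 1) (Ψ (x l.succ))) = _
    rw [hΨxl, hp, show E A K (M + 1) (x l.succ + (algebraMap A _ a' + p * x 0)) =
        MvPowerSeries.X l.succ + E A K (M + 1) p * MvPowerSeries.monomial (single 0 1) 1 by
      simp [MvPowerSeries.algebraMap_apply, algebraMap_eq_zero_of_mem ha', MvPowerSeries.X_def],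
      map_add, MvPowerSeries.coeff_mul_monomial, if_neg, add_zero, MvPowerSeries.coeff_X]
    · simp [Finsupp.single_left_inj one_ne_zero, Fin.succ_inj]
    · intro hle
      have := hle 0
      simp [Finsupp.single_apply, Fin.succ_ne_zero] at this
  have hL3det : L3.det ≠ 0 := fun h0 => by
    obtain ⟨w, hw, hw'⟩ := Matrix.exists_mulVec_eq_zero_iff.2 h0
    have hw0 : w 0 = 0 := by
      have := congrFun hw' 0
      simpa [Matrix.mulVec, dotProduct, hL30] using this
    refine hw (funext fun i => ?_)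
    induction i using Fin.cases with
    | zero => exact hw0
    | succ l =>
      have := congrFun hw' l.succ
      simpa [Matrix.mulVec, dotProduct, Fin.sum_univ_succ, hw0, hL3s] using this
  have hord3 : quadEval (quadPart (E A K (M + 1) (Ψ g₁))) (Pi.single 0 1) ≠ 0 ∨
      polarMatrix (quadPart (E A K (M + 1) (Ψ g₁))) *ᵥ (Pi.single 0 1) ≠ 0 := by
    by_contra hcon
    push Not at hcon
    obtain ⟨hc1, hc2⟩ := hcon
    set u := (pivot V j₀ * L3) *ᵥ (Pi.single 0 1)
    have hq3' : ∀ w, quadEval (quadPart (E A K (M + 1) (Ψ g₁))) w =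
        1 * quadEval q ((pivot V j₀ * L3) *ᵥ w) := fun w => by rw [one_mul, hq3, hq1, Matrix.mulVec_mulVec]
    have hdetPL : IsUnit (pivot V j₀ * L3).det := by
      rw [Matrix.det_mul]; exact (isUnit_det_pivot V j₀ hV0).mul (isUnit_iff_ne_zero.2 hL3det)
    rw [polarMatrix_of_comp 1 _ hq3', one_smul, ← hHdef, Matrix.mul_assoc, ← Matrix.mulVec_mulVec] at hc2
    have hHu : H *ᵥ u = 0 := by
      rw [Matrix.mulVec_mulVec]
      exact Matrix.eq_zero_of_mulVec_eq_zero (by rw [Matrix.det_transpose]; exact hdetPL.ne_zero) hc2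
    have hu : u = 0 := hord u (by rw [hq3', one_mul] at hc1; exact hc1) hHu
    have := congrFun (Matrix.eq_zero_of_mulVec_eq_zero hdetPL.ne_zero hu) 0
    simp at this
  -- expansion of `Ψ g₁`
  let Wf : Matrix (Fin (M + 1)) (Fin (M + 1)) (Pn A (M + 1)) := Matrix.of fun i j =>
    (Fin.cases (Fin.cases (f₁ h) (fun _ => 0) j) (fun i' => Fin.cases 0 (fun j' => θ' (w₂ i' j')) j) i :
      Pn A (M + 1))
  let lf : Fin (M + 1) → A := Fin.cases e₀ fun _ => 0
  have hg₃ : Ψ g₁ = algebraMap A _ c₀ + ∑ i, algebraMap A (Pn A (M + 1)) (lf i) * x i + x ⬝ᵥ (Wf *ᵥ x) := by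
    show θ' (tr g₂) = _
    rw [hw₂, map_add, hθ'R, hg₀]
    simp only [lf, Wf, dotProduct, Matrix.mulVec, Matrix.of_apply, Fin.sum_univ_succ, Fin.cases_zero,
      Fin.cases_succ, map_zero, zero_mul, mul_zero, Finset.sum_const_zero, add_zero, zero_add, map_add, map_mul,
      map_sum, map_pow, hθ'x]
    rw [show f₁.toRingHom (algebraMap A R c₀) = algebraMap A _ c₀ from f₁.commutes c₀,
      show f₁.toRingHom (algebraMap A R e₀) = algebraMap A _ e₀ from f₁.commutes e₀,
      show f₁.toRingHom (x 0) = x 0 from hf₁ 0]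
    simp only [AlgHom.toRingHom_eq_coe, RingHom.coe_coe]
    ring
  obtain ⟨hc3, hl3, hq3a⟩ := E_expansion'' (K := K) hg₃
  have hc₀ : c₀ ∈ maximalIdeal A := mem_of_algebraMap_eq_zero (K := K) (hc3.symm.trans hlow3.1)
  have he₀ : e₀ ∈ maximalIdeal A :=
    mem_of_algebraMap_eq_zero (K := K) (a := lf 0) ((hl3 0).symm.trans (hlow3.2 0))
  have hhu : IsUnit h := by
    haveI := isLocalHom_of_algHom (φ := f₁) fun i => (hf₁ i).symm ▸ x_mem 0
    refine isUnit_of_map_unit f₁.toRingHom h ?_
    haveI : IsLocalHom (eval0 A (M + 1)).toRingHom := isLocalHom_of_algHom fun i => by simp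
    refine isUnit_of_map_unit (eval0 A (M + 1)).toRingHom _ ?_
    refine isUnit_of_algebraMap_ne_zero (K := K) fun h0 => ?_
    have hU : ∀ j : Fin (M + 1), algebraMap A K (upper (Wf.map (eval0 A (M + 1))) 0 j) = 0 := fun j => by
      induction j using Fin.cases with
      | zero => simpa [upper, Wf] using h0
      | succ l => simp [upper, Wf, Fin.succ_pos]
    have hcol : ∀ j : Fin (M + 1), quadPart (E A K (M + 1) (Ψ g₁)) 0 j = 0 := fun j =>
      (hq3a 0 j (Fin.zero_le j)).trans (hU j)
    rcases hord3 with hne | hne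
    · refine hne ?_
      simp only [quadEval, Pi.single_apply, mul_ite, mul_one, mul_zero]
      refine Finset.sum_eq_zero fun i _ => Finset.sum_eq_zero fun j _ => ?_
      split_ifs <;> simp_all
    · refine hne (funext fun i => ?_)
      rw [Matrix.mulVec_single_one, Matrix.col_apply, Pi.zero_apply]
      simp only [polarMatrix]
      split_ifs with h1 h2
      · subst h1; rw [hcol, mul_zero]
      · simp at h2
      · exact hcol i
  obtain ⟨b, c, w₁, hb, hc, hw₁, hW⟩ := exists_weierstrass hc₀ he₀ hhu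
  rw [← hg₀] at hW
  obtain ⟨d, hd⟩ := hw₁.exists_left_inv
  -- normalise the table
  set α := algebraMap R (Pn R M)
  let W' : Matrix (Fin M) (Fin M) (Pn R M) := α d • w₂
  let u₂ : Fin M → Fin M → R := upper (W'.map (eval0 R M))
  let q' : Fin M → Fin M → A := fun i j => eval0 A 1 (u₂ i j)
  have heK : ∀ r : R, algebraMap A K (eval0 A 1 r) = algebraMap R K r := by
    have : (Algebra.ofId A K).comp (eval0 A 1) = IsScalarTower.toAlgHom A R K :=
      algHom_ext (fun i => by
        obtain rfl : i = 0 := Subsingleton.elim _ _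
        show algebraMap A K (eval0 A 1 (x 0)) = algebraMap R K t
        rw [eval0_x, map_zero, htK]) fun i => by
        show algebraMap A K (eval0 A 1 (x i)) ∈ _
        rw [eval0_x, map_zero]; exact zero_mem _
    exact fun r => congr($this r)
  have hdK : algebraMap R K d ≠ 0 := by
    have := congrArg (algebraMap R K) hd
    rw [map_mul, map_one] at this
    exact left_ne_zero_of_mul_eq_one this
  have hu₂ : ∀ i j, u₂ i j = d * upper (w₂.map (eval0 R M)) i j := fun i j => by
    simp only [u₂, W', upper, Matrix.map_apply, Matrix.smul_apply, smul_eq_mul, map_mul, α,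
      AlgHom.commutes, Algebra.algebraMap_self, RingHom.id_apply, mul_add, mul_ite, mul_zero]
  have hqK : polarMatrix (fun i j => algebraMap A K (q' i j)) =
      algebraMap R K d • polarMatrix (quadPart (E R K M g₂)) := by
    rw [PSQuad.polarMatrix_congr (q := quadPart (E R K M g₂))
      (q' := fun i j => algebraMap R K (upper (w₂.map (eval0 R M)) i j)) hqw]
    ext i j
    simp only [polarMatrix, Matrix.smul_apply, smul_eq_mul, q', heK, hu₂, map_mul]
    split_ifs <;> ring
  have hq' : QuadNondeg q' := by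
    refine isUnit_of_algebraMap_ne_zero (K := K) ?_
    rw [RingHom.map_det, RingHom.mapMatrix_apply, ← polarMatrix_map, hqK, Matrix.det_smul]
    exact mul_ne_zero (pow_ne_zero _ hdK) hnd2
  have hq'nd : QuadNondeg (fun i j => algebraMap A R (q' i j)) := by
    unfold QuadNondeg at hq' ⊢
    rw [polarMatrix_map, ← RingHom.mapMatrix_apply, ← RingHom.map_det]
    exact hq'.map _
  obtain ⟨φ, hφ, hφz⟩ := exists_table_normal (ι (qF b c)) W' (fun i j => algebraMap A R (q' i j))
    (fun i j _ => by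
      rw [show upper W' i j - α (algebraMap A R (q' i j)) = (upper W' i j - α (u₂ i j)) +
        α (u₂ i j - algebraMap A R (q' i j)) by rw [map_sub]; ring]
      refine add_mem ?_ (map_nonunit α _ ((span_x_le (A := A)) (sub_eval0_mem (u₂ i j))))
      rw [show u₂ i j = eval0 R M (upper W' i j) from upper_map (eval0 R M).toRingHom W' i j]
      exact span_x_le (sub_eval0_mem _)) hq'nd
  refine ⟨q', b, c, hq', hb, hc, ?_⟩
  -- the composite change of coordinates
  set F := degPoly q' b c
  have hθF : θ (ι F) = ι (quadPoly (fun i j => algebraMap A R (q' i j)) + MvPolynomial.C (ι (qF b c))) := by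
    rw [map_add, ← algebraMap_eq, ι_eq_aeval, ι_eq_aeval, ← AlgHom.comp_apply, MvPolynomial.comp_aeval,
      show (fun i => θ (x i)) = θv from funext hθ, ι_qF]
    simp only [F, degPoly, map_add, map_mul, map_pow, MvPolynomial.aeval_C, MvPolynomial.aeval_X,
      MvPolynomial.aeval_rename]
    rw [add_comm]
    congr 1
    · simp only [quadPoly, map_sum, apply_ite (MvPolynomial.aeval _), map_zero, map_mul, MvPolynomial.aeval_C,
        MvPolynomial.aeval_X]
      rfl
  have hkey : φ (θ (ι F)) = α d * tr g₂ := by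
    rw [hθF, hφz, hw₂, mul_add]
    congr 1
    · rw [← map_mul]
      congr 1
      rw [hW]
      linear_combination (-ι (qF b c)) * hd
    · rw [Matrix.smul_mulVec, dotProduct_smul, smul_eq_mul]
  let θe : Pn A (M + 1) ≃ₐ[A] Pn R M := AlgEquiv.ofAlgHom θ θ'ₐ (AlgHom.ext hθθ') (AlgHom.ext hθ'θ)
  let τ : Pn A (M + 1) ≃ₐ[A] Pn A (M + 1) :=
    ((((AlgEquiv.ofBijective σ hσb).trans θe).trans ((AlgEquiv.ofBijective tr htr).restrictScalars A)).trans
      ((AlgEquiv.ofBijective φ hφ).symm.restrictScalars A)).trans θe.symm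
  have hdu : IsUnit d := IsUnit.of_mul_eq_one w₁ hd
  have hτ : ∃ v : Pn A (M + 1), IsUnit v ∧ ι F = v * τ z := by
    refine ⟨θe.symm ((AlgEquiv.ofBijective φ hφ).symm (α d)), ((hdu.map α).map _).map _, ?_⟩
    show ι F = θe.symm ((AlgEquiv.ofBijective φ hφ).symm (α d)) * θe.symm ((AlgEquiv.ofBijective φ hφ).symm (tr g₂))
    rw [← map_mul, ← map_mul, ← hkey, show φ (θ (ι F)) = AlgEquiv.ofBijective φ hφ (θe (ι F)) from rfl,
      AlgEquiv.symm_apply_apply, AlgEquiv.symm_apply_apply]
  obtain ⟨v, hv, hvF⟩ := hτ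
  refine ⟨Ideal.quotientEquivAlg (Ideal.span {z}) ((Ideal.span {F}).map ι) τ ?_⟩
  rw [Ideal.map_span, Ideal.map_span, Set.image_singleton, Set.image_singleton, hvF,
    Ideal.span_singleton_mul_left_unit hv]
  rfl

end Groth.Agent.Morse46
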