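import Groth.Agent.Morse46.Quot
import Groth.Agent.Morse46.Linear
import Groth.Agent.PSLib.Regular
import Groth.Agent.Hensel.Local
import Mathlib.RingTheory.Filtration
import Mathlib.RingTheory.Polynomial.Basic

/-!
# Expansions of elements of `Pn A N`

The power series expansion along the closed fibre, Hadamard's lemma at the origin, and the fibre
`Pn A N / 𝔪_A` as a Noetherian ring.
-/

set_option linter.style.haveILetI false
set_option linter.unusedSectionVars false

noncomputable section

namespace Groth.Agent.Morse46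

open IsLocalRing MvPolynomial VanCyc

universe u

instance henselianLocalRing_mvPowerSeries (K : Type u) [Field K] (N : ℕ) :
    HenselianLocalRing (MvPowerSeries (Fin N) K) :=
  haveI : IsAdicComplete (maximalIdeal (MvPowerSeries (Fin N) K)) (MvPowerSeries (Fin N) K) := by
    rw [PSLib.maximalIdeal_eq_vars]; infer_instance
  haveI : HenselianRing (MvPowerSeries (Fin N) K) (maximalIdeal (MvPowerSeries (Fin N) K)) :=
    IsAdicComplete.henselianRing _ _
  Hensel.henselianLocalRing_of_henselianRing _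

variable {A : Type u} [CommRing A] [IsLocalRing A] {K : Type u} [Field K] {N : ℕ}

theorem algebraMap_eq_zero_of_mem [Algebra A K] [IsLocalHom (algebraMap A K)] {a : A}
    (ha : a ∈ maximalIdeal A) : algebraMap A K a = 0 := by
  by_contra h
  exact (mem_maximalIdeal a).1 ha (isUnit_of_map_unit (algebraMap A K) a (isUnit_iff_ne_zero.2 h))

variable [Algebra A K] [IsLocalHom (algebraMap A K)]

instance isLocalHom_algebraMap_mvPowerSeries :
    IsLocalHom (algebraMap A (MvPowerSeries (Fin N) K)) :=
  ⟨fun a ha => by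
    have h1 := MvPowerSeries.isUnit_iff_constantCoeff.1 ha
    rw [MvPowerSeries.algebraMap_apply, MvPowerSeries.constantCoeff_C] at h1
    exact isUnit_of_map_unit (algebraMap A K) a h1⟩

theorem X_mem_maximalIdeal (i : Fin N) :
    (MvPowerSeries.X i : MvPowerSeries (Fin N) K) ∈ maximalIdeal (MvPowerSeries (Fin N) K) := by
  rw [PSLib.maximalIdeal_eq_vars]; exact Ideal.subset_span ⟨i, rfl⟩

variable (A K N) in
/-- The expansion in power series along the closed fibre. -/
def E : Pn A N →ₐ[A] MvPowerSeries (Fin N) K :=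
  (exists_algHom (A := A) (T := MvPowerSeries (Fin N) K) (fun i => MvPowerSeries.X i)
    X_mem_maximalIdeal).choose

@[simp] theorem E_x (i : Fin N) : E A K N (x i) = MvPowerSeries.X i :=
  (exists_algHom (A := A) (T := MvPowerSeries (Fin N) K) (fun i => MvPowerSeries.X i)
    X_mem_maximalIdeal).choose_spec i

theorem E_x_mem (i : Fin N) : E A K N (x i) ∈ maximalIdeal (MvPowerSeries (Fin N) K) := by
  rw [E_x]; exact X_mem_maximalIdeal i

theorem E_ι (p : MvPolynomial (Fin N) A) :
    E A K N (ι p) = ((MvPolynomial.map (algebraMap A K) p : MvPolynomial (Fin N) K) : MvPowerSeries (Fin N) K) := by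
  induction p using MvPolynomial.induction_on with
  | C a =>
    rw [← algebraMap_eq, AlgHom.commutes, MvPowerSeries.algebraMap_apply, MvPolynomial.map_C,
      MvPolynomial.coe_C]
  | add p q hp hq => simp [map_add, hp, hq]
  | mul_X p i hp =>
    rw [map_mul, map_mul, hp, show (ι (MvPolynomial.X i) : Pn A N) = x i from rfl, E_x]
    simp

theorem E_map_le : ((maximalIdeal A).map (algebraMap A (Pn A N))) ≤ RingHom.ker (E A K N).toRingHom :=
  Ideal.map_le_iff_le_comap.2 fun a ha => by
    show E A K N (algebraMap A _ a) = 0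
    rw [AlgHom.commutes, IsScalarTower.algebraMap_apply A K (MvPowerSeries (Fin N) K),
      algebraMap_eq_zero_of_mem ha, map_zero]

theorem E_map_pow_le (i : ℕ) :
    ((Ideal.span (Set.range x) : Ideal (Pn A N)) ^ i).map (E A K N).toRingHom ≤ PSLib.vars N K ^ i := by
  rw [Ideal.map_pow]
  refine Ideal.pow_right_mono ?_ i
  rw [Ideal.map_span, Ideal.span_le]
  rintro _ ⟨_, ⟨j, rfl⟩, rfl⟩
  exact Ideal.subset_span ⟨j, (E_x j).symm⟩

/-- Approximation by polynomials. -/
theorem exists_poly (i : ℕ) : ∀ z : Pn A N, ∃ p : MvPolynomial (Fin N) A,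
    z - ι p ∈ (maximalIdeal A).map (algebraMap A (Pn A N)) ⊔ Ideal.span (Set.range x) ^ i := by
  induction i with
  | zero => exact fun z => ⟨0, by simp⟩
  | succ i ih =>
    intro z
    obtain ⟨a, ha⟩ := exists_sub_mem z
    rw [maximalIdeal_eq] at ha
    obtain ⟨m, hm, b, hb, hmb⟩ := Submodule.mem_sup.1 ha
    obtain ⟨g, rfl⟩ := Ideal.mem_span_range_iff_exists_fun.1 hb
    choose p hp using fun j => ih (g j)
    refine ⟨C a + ∑ j, p j * X j, ?_⟩
    rw [map_add, ← algebraMap_eq, ← sub_sub, ← hmb, add_sub_assoc, map_sum, ← Finset.sum_sub_distrib]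
    refine add_mem (Ideal.mem_sup_left hm) (Submodule.sum_mem _ fun j _ => ?_)
    rw [map_mul, show g j * x j - ι (p j) * ι (MvPolynomial.X j) = (g j - ι (p j)) * x j by
      rw [sub_mul]; rfl]
    obtain ⟨u, hu, v, hv, huv⟩ := Submodule.mem_sup.1 (hp j)
    rw [← huv, add_mul, pow_succ]
    exact add_mem (Ideal.mem_sup_left (Ideal.mul_mem_right _ _ hu))
      (Ideal.mem_sup_right (Ideal.mul_mem_mul hv (Ideal.subset_span ⟨j, rfl⟩)))

/-- The expansion detects membership in `𝔪_A + (x)^i`. -/
theorem mem_sup_of_E_mem {z : Pn A N} {i : ℕ} (h : E A K N z ∈ PSLib.vars N K ^ i) :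
    z ∈ (maximalIdeal A).map (algebraMap A (Pn A N)) ⊔ Ideal.span (Set.range x) ^ i := by
  obtain ⟨p, hp⟩ := exists_poly i z
  set I := (maximalIdeal A).map (algebraMap A (Pn A N)) ⊔ Ideal.span (Set.range x) ^ i
  have hI : I.map (E A K N).toRingHom ≤ PSLib.vars N K ^ i := by
    rw [Ideal.map_sup]
    refine sup_le ?_ (E_map_pow_le i)
    refine Ideal.map_le_iff_le_comap.2 fun a ha => ?_
    rw [Ideal.mem_comap, show (E A K N).toRingHom a = 0 from E_map_le ha]
    exact zero_mem _
  have hEp : E A K N (ι p) ∈ PSLib.vars N K ^ i := by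
    rw [show ι p = z - (z - ι p) by ring, map_sub]
    exact sub_mem h (hI (Ideal.mem_map_of_mem _ hp))
  rw [show z = (z - ι p) + ι p by ring]
  refine add_mem hp ?_
  rw [p.as_sum, map_sum]
  refine Submodule.sum_mem _ fun d _ => ?_
  by_cases hd : Finsupp.degree d < i
  · have hc : coeff d p ∈ maximalIdeal A := by
      have h1 := PSLib.coeff_eq_zero_of_mem_pow i _ hEp d hd
      rw [E_ι, MvPolynomial.coeff_coe, MvPolynomial.coeff_map] at h1
      rw [mem_maximalIdeal, mem_nonunits_iff]
      exact fun hu => (hu.map (algebraMap A K)).ne_zero h1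
    rw [show monomial d (coeff d p) = C (coeff d p) * monomial d 1 by rw [C_mul_monomial, mul_one],
      map_mul, ← algebraMap_eq]
    exact Ideal.mem_sup_left (Ideal.mul_mem_right _ _ (Ideal.mem_map_of_mem _ hc))
  · refine Ideal.mem_sup_right ?_
    rw [show (Ideal.span (Set.range x) : Ideal (Pn A N)) = (idealOfVars (Fin N) A).map ι by
      rw [idealOfVars, Ideal.map_span, ← Set.range_comp]; rfl, ← Ideal.map_pow]
    refine Ideal.mem_map_of_mem _ ?_
    rw [mem_pow_idealOfVars_iff']
    intro e he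
    classical
    rw [coeff_monomial, if_neg]
    rintro rfl
    exact hd he

/-- The fibre of `Pn A N` is Noetherian. -/
theorem isNoetherianRing_fibre :
    IsNoetherianRing (Pn A N ⧸ (maximalIdeal A).map (algebraMap A (Pn A N))) := by
  set M := (maximalIdeal A).map (algebraMap A (Pn A N))
  have hM : M ≠ ⊤ := fun h =>
    (maximalIdeal.isMaximal (Pn A N)).ne_top (top_le_iff.1 (h ▸ map_le_maximalIdeal))
  haveI : HenselianLocalRing (Pn A N ⧸ M) := henselianLocalRing_quot hM
  haveI : IsLocalHom (algebraMap A (Pn A N ⧸ M)) := isLocalHom_algebraMap_quot hM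
  -- `Pn A N / M` is an algebra over the residue field
  let φ₀ : ResidueField A →+* Pn A N ⧸ M :=
    Ideal.Quotient.lift (maximalIdeal A) (algebraMap A (Pn A N ⧸ M)) fun a ha =>
      Ideal.Quotient.eq_zero_iff_mem.2 (Ideal.mem_map_of_mem _ ha)
  letI : Algebra (ResidueField A) (Pn A N ⧸ M) := φ₀.toAlgebra
  haveI : IsScalarTower A (ResidueField A) (Pn A N ⧸ M) := .of_algebraMap_eq fun a => rfl
  haveI : IsLocalHom (algebraMap (ResidueField A) (Pn A N ⧸ M)) := ⟨fun a ha => by
    rw [isUnit_iff_ne_zero]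
    rintro rfl
    rw [map_zero] at ha
    exact not_isUnit_zero ha⟩
  haveI : IsLocalHom (Ideal.Quotient.mk M) := Ideal.Quotient.mk_surjective.isLocalHom _
  letI : Algebra A (Pn (ResidueField A) N) := Algebra.compHom _ (residue A)
  haveI : IsScalarTower A (ResidueField A) (Pn (ResidueField A) N) := .of_algebraMap_eq fun a => rfl
  haveI : IsLocalHom (algebraMap A (Pn (ResidueField A) N)) := by
    haveI : IsLocalHom (residue A) := residue_surjective.isLocalHom _
    exact RingHom.isLocalHom_comp (algebraMap (ResidueField A) (Pn (ResidueField A) N)) (residue A)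
  obtain ⟨ζ, hζ⟩ := exists_algHom (A := ResidueField A) (T := Pn A N ⧸ M)
    (fun i => Ideal.Quotient.mk M (x i)) fun i => map_nonunit _ _ (x_mem i)
  obtain ⟨π, hπ⟩ := exists_algHom (A := A) (T := Pn (ResidueField A) N) (fun i => x i) x_mem
  have hcomp : (ζ.restrictScalars A).comp π = Ideal.Quotient.mkₐ A M :=
    algHom_ext (fun i => by rw [AlgHom.comp_apply, hπ]; exact hζ i) fun i => by
      rw [AlgHom.comp_apply, hπ]
      show ζ (x i) ∈ _
      rw [hζ]; exact map_nonunit _ _ (x_mem i)
  haveI : IsNoetherianRing (MvPolynomial (Fin N) (ResidueField A)) := inferInstance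
  haveI : IsNoetherianRing (Loc (ResidueField A) N) := IsLocalization.isNoetherianRing
    (originIdeal (ResidueField A) : Ideal (MvPolynomial (Fin N) (ResidueField A))).primeCompl _ inferInstance
  haveI : IsNoetherianRing (Pn (ResidueField A) N) := Hensel.isNoetherianRing_henz
  refine isNoetherianRing_of_surjective _ _ ζ.toRingHom fun w => ?_
  obtain ⟨z, rfl⟩ := Ideal.Quotient.mk_surjective w
  exact ⟨π z, congr($hcomp z)⟩

/-- Krull intersection in the fibre. -/
theorem mem_of_forall_mem_sup_pow {I : Ideal (Pn A N)}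
    (hI : (maximalIdeal A).map (algebraMap A (Pn A N)) ≤ I) {z : Pn A N}
    (h : ∀ i : ℕ, z ∈ I ⊔ Ideal.span (Set.range x) ^ i) : z ∈ I := by
  by_cases htop : I = ⊤
  · exact htop ▸ Submodule.mem_top
  haveI := isLocalRing_quot htop
  haveI : IsNoetherianRing (Pn A N ⧸ I) := by
    haveI := isNoetherianRing_fibre (A := A) (N := N)
    exact isNoetherianRing_of_surjective _ _ (Ideal.Quotient.factor hI) (Ideal.Quotient.factor_surjective hI)
  haveI : IsLocalHom (Ideal.Quotient.mk I) := Ideal.Quotient.mk_surjective.isLocalHom _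
  rw [← Ideal.Quotient.eq_zero_iff_mem, ← Submodule.mem_bot (Pn A N ⧸ I),
    ← Ideal.iInf_pow_eq_bot_of_isLocalRing (maximalIdeal (Pn A N ⧸ I)) (maximalIdeal.isMaximal _).ne_top,
    Submodule.mem_iInf]
  intro i
  obtain ⟨a, ha, b, hb, rfl⟩ := Submodule.mem_sup.1 (h i)
  rw [map_add, Ideal.Quotient.eq_zero_iff_mem.2 ha, zero_add]
  have h1 := Ideal.mem_map_of_mem (Ideal.Quotient.mk I) hb
  rw [Ideal.map_pow] at h1
  refine Ideal.pow_right_mono (Ideal.map_le_iff_le_comap.2 ?_) i h1
  rw [Ideal.span_le]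
  rintro _ ⟨j, rfl⟩
  exact map_nonunit (Ideal.Quotient.mk I) _ (x_mem j)

end Groth.Agent.Morse46

namespace Groth.Agent.Morse46

open IsLocalRing MvPolynomial VanCyc

section eval0

universe u

variable {R : Type u} [CommRing R] [HenselianLocalRing R] {N : ℕ}

instance isLocalHom_algebraMap_self : IsLocalHom (algebraMap R R) := by
  rw [Algebra.algebraMap_self]; infer_instance

variable (R) (N) in
/-- The value at the origin. -/
def eval0 : Pn R N →ₐ[R] R :=
  (exists_algHom (A := R) (T := R) (fun _ : Fin N => 0) fun _ => zero_mem _).choose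

@[simp] theorem eval0_x (i : Fin N) : eval0 R N (x i) = 0 :=
  (exists_algHom (A := R) (T := R) (fun _ : Fin N => 0) fun _ => zero_mem _).choose_spec i

/-- **Hadamard's lemma** at the origin. -/
theorem sub_eval0_mem (z : Pn R N) :
    z - algebraMap R (Pn R N) (eval0 R N z) ∈ Ideal.span (Set.range x) := by
  set X' : Ideal (Pn R N) := Ideal.span (Set.range x)
  have hX : X' ≠ ⊤ := fun h => (maximalIdeal.isMaximal (Pn R N)).ne_top (top_le_iff.1 (h ▸ by
    rw [Ideal.span_le]; rintro _ ⟨j, rfl⟩; exact x_mem j))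
  haveI : HenselianLocalRing (Pn R N ⧸ X') := henselianLocalRing_quot hX
  haveI : IsLocalHom (algebraMap R (Pn R N ⧸ X')) := isLocalHom_algebraMap_quot hX
  have h : (Algebra.ofId R (Pn R N ⧸ X')).comp (eval0 R N) = Ideal.Quotient.mkₐ R X' :=
    algHom_ext (fun i => by
      simp [show Ideal.Quotient.mk X' (x i) = 0 from
        Ideal.Quotient.eq_zero_iff_mem.2 (Ideal.subset_span ⟨i, rfl⟩)]) fun i => by simp
  rw [← Ideal.Quotient.eq_zero_iff_mem, map_sub, sub_eq_zero]
  exact (congr($h z)).symm

theorem mem_span_iff_eval0 (z : Pn R N) : z ∈ Ideal.span (Set.range x) ↔ eval0 R N z = 0 := by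
  refine ⟨fun h => ?_, fun h => by simpa [h] using sub_eval0_mem z⟩
  have : Ideal.span (Set.range x) ≤ RingHom.ker (eval0 R N).toRingHom := by
    rw [Ideal.span_le]; rintro _ ⟨j, rfl⟩; exact eval0_x j
  exact this h

/-- Hadamard's lemma with coefficients. -/
theorem exists_coeff (z : Pn R N) :
    ∃ w : Fin N → Pn R N, z = algebraMap R (Pn R N) (eval0 R N z) + ∑ j, w j * x j := by
  obtain ⟨w, hw⟩ := Ideal.mem_span_range_iff_exists_fun.1 (sub_eval0_mem z)
  exact ⟨w, by rw [hw]; ring⟩

end eval0

end Groth.Agent.Morse46
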