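import Groth.Agent.Morse46.Quot
import Groth.Agent.Hensel.Pair
import Mathlib.RingTheory.Unramified.LocalStructure
import Mathlib.RingTheory.Unramified.LocalRing
import Mathlib.RingTheory.Etale.StandardEtale
import Mathlib.RingTheory.FinitePresentation

/-!
# Henselizations as quotients of `Pn A N`

If `B` is the localization of a finite type `A`-algebra at a prime `Q` over `𝔪_A` with residue field
that of `A`, and `y₁, …, y_N ∈ Q` generate the maximal ideal of `B` together with `𝔪_A`, then
`x ↦ y` defines a surjection of `Pn A N` onto the henselization of `B`, with finitely generated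
kernel if `B` comes from a finitely presented algebra.
-/

set_option linter.style.haveILetI false
set_option linter.unusedSectionVars false

noncomputable section

namespace Groth.Agent.Morse46

open IsLocalRing MvPolynomial VanCyc

universe u

variable {A : Type u} [CommRing A] [IsLocalRing A] {N : ℕ}
  {B₀ : Type u} [CommRing B₀] [Algebra A B₀] [Algebra.FiniteType A B₀]
  (Q : Ideal B₀) [Q.IsPrime]

/-- The structure map of a henselization of a localization at a prime over `𝔪_A` is local. -/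
theorem isLocalHom_algebraMap_henz (hQA : (maximalIdeal A).map (algebraMap A B₀) ≤ Q)
    (Bh : Type u) [CommRing Bh] [IsLocalRing Bh] [Algebra (Localization.AtPrime Q) Bh]
    [IsLocalHom (algebraMap (Localization.AtPrime Q) Bh)]
    [Algebra A Bh] [IsScalarTower A (Localization.AtPrime Q) Bh] :
    IsLocalHom (algebraMap A Bh) := by
  refine ((local_hom_TFAE (algebraMap A Bh)).out 2 0).1 ?_
  rw [IsScalarTower.algebraMap_eq A (Localization.AtPrime Q) Bh,
    IsScalarTower.algebraMap_eq A B₀ (Localization.AtPrime Q), ← Ideal.map_map, ← Ideal.map_map]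
  refine (Ideal.map_mono (Ideal.map_mono hQA)).trans ?_
  rw [Localization.AtPrime.map_eq_maximalIdeal]
  exact Ideal.map_le_iff_le_comap.2 fun a ha => map_nonunit (algebraMap (Localization.AtPrime Q) Bh) a ha

theorem exists_surjective (hQA : (maximalIdeal A).map (algebraMap A B₀) ≤ Q)
    (hres : ∀ b : B₀, ∃ c : A, b - algebraMap A B₀ c ∈ Q)
    (y : Fin N → B₀) (hy : ∀ i, y i ∈ Q)
    (hgen : maximalIdeal (Localization.AtPrime Q) ≤
      (maximalIdeal A).map (algebraMap A (Localization.AtPrime Q)) ⊔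
        Ideal.span (Set.range fun i => algebraMap B₀ (Localization.AtPrime Q) (y i)))
    (Bh : Type u) [CommRing Bh] [IsLocalRing Bh] [Algebra (Localization.AtPrime Q) Bh]
    [IsLocalHom (algebraMap (Localization.AtPrime Q) Bh)]
    [Hensel.IsHenselization (Localization.AtPrime Q) Bh]
    [Algebra A Bh] [IsScalarTower A (Localization.AtPrime Q) Bh] :
    ∃ Φ : Pn A N →ₐ[A] Bh, Function.Surjective Φ ∧
      (∀ i, Φ (x i) = algebraMap (Localization.AtPrime Q) Bh (algebraMap B₀ _ (y i))) ∧
      (Algebra.FinitePresentation A B₀ → (RingHom.ker Φ).FG) := by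
  haveI hH : Hensel.IsHenselization (Localization.AtPrime Q) Bh := inferInstance
  haveI : HenselianLocalRing Bh := hH.henselian
  haveI := isLocalHom_algebraMap_henz Q hQA Bh
  set o : Ideal (MvPolynomial (Fin N) A) := originIdeal A with ho
  let e : MvPolynomial (Fin N) A →ₐ[A] B₀ := aeval y
  letI : Algebra (MvPolynomial (Fin N) A) B₀ := e.toRingHom.toAlgebra
  haveI : IsScalarTower A (MvPolynomial (Fin N) A) B₀ := .of_algebraMap_eq' e.comp_algebraMap.symm
  haveI : Algebra.FiniteType (MvPolynomial (Fin N) A) B₀ :=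
    Algebra.FiniteType.of_restrictScalars_finiteType A _ _
  have heX : ∀ i, algebraMap (MvPolynomial (Fin N) A) B₀ (X i) = y i := fun i => aeval_X y i
  have heC : ∀ a, algebraMap (MvPolynomial (Fin N) A) B₀ (C a) = algebraMap A B₀ a := fun a => aeval_C y a
  -- `Q` lies over the origin, and is unramified there
  have hle : o.map (algebraMap (MvPolynomial (Fin N) A) B₀) ≤ Q :=
    (origin_le_iff _ _).2 ⟨fun a ha => by rw [heC]; exact hQA (Ideal.mem_map_of_mem _ ha),
      fun i => by rw [heX]; exact hy i⟩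
  haveI hlies : Q.LiesOver o := ⟨(originIdeal_isMaximal A N).eq_of_le
    (Ideal.IsPrime.under _ Q).ne_top (Ideal.map_le_iff_le_comap.1 hle)⟩
  letI := Localization.AtPrime.algebraOfLiesOver o Q
  haveI : Algebra.IsUnramifiedAt (MvPolynomial (Fin N) A) Q := by
    rw [Algebra.isUnramifiedAt_iff_map_eq (MvPolynomial (Fin N) A) o Q]
    constructor
    · refine ⟨fun z => ?_⟩
      obtain ⟨⟨b, s⟩, hbs⟩ : ∃ bs : B₀ × Q.primeCompl, z * algebraMap B₀ Q.ResidueField bs.2 =
          algebraMap B₀ Q.ResidueField bs.1 := by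
        obtain ⟨w, rfl⟩ := residue_surjective z
        obtain ⟨bs, hbs⟩ := IsLocalization.surj Q.primeCompl w
        exact ⟨bs, (map_mul (residue _) _ _).symm.trans (congrArg _ hbs)⟩
      have key : ∀ b : B₀, ∃ a : A, algebraMap B₀ Q.ResidueField b =
          algebraMap o.ResidueField Q.ResidueField
            (algebraMap (MvPolynomial (Fin N) A) o.ResidueField (C a)) := fun b => by
        obtain ⟨a, ha⟩ := hres b
        refine ⟨a, ?_⟩
        rw [← IsScalarTower.algebraMap_apply,
          IsScalarTower.algebraMap_apply (MvPolynomial (Fin N) A) B₀ Q.ResidueField, heC, ← sub_eq_zero,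
          ← map_sub, Ideal.algebraMap_residueField_eq_zero]
        exact ha
      obtain ⟨b', hb'⟩ := key b
      obtain ⟨s', hs'⟩ := key s
      have hs0 : algebraMap B₀ Q.ResidueField s ≠ 0 := fun h =>
        s.2 (Ideal.algebraMap_residueField_eq_zero.1 h)
      rw [← eq_div_iff hs0, hb', hs', ← map_div₀] at hbs
      rw [hbs]
      exact isSeparable_algebraMap _
    · refine le_antisymm ?_ (hgen.trans (sup_le ?_ ?_))
      · rw [IsScalarTower.algebraMap_eq _ B₀ (Localization.AtPrime Q), ← Ideal.map_map,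
          ← Localization.AtPrime.map_eq_maximalIdeal]
        exact Ideal.map_mono hle
      · refine Ideal.map_le_iff_le_comap.2 fun a ha => ?_
        rw [Ideal.mem_comap, IsScalarTower.algebraMap_apply A (MvPolynomial (Fin N) A)]
        exact Ideal.mem_map_of_mem _ (Ideal.mem_sup_left (Ideal.mem_map_of_mem _ ha))
      · rw [Ideal.span_le]
        rintro _ ⟨i, rfl⟩
        show algebraMap B₀ _ (y i) ∈ _
        rw [← heX, ← IsScalarTower.algebraMap_apply]
        exact Ideal.mem_map_of_mem _ (Ideal.mem_sup_right (Ideal.subset_span ⟨i, rfl⟩))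
  -- a standard étale algebra surjecting onto a neighbourhood of `Q`
  obtain ⟨f, hfQ, P, π, hπ⟩ :=
    Algebra.IsUnramifiedAt.exists_hasStandardEtaleSurjectionOn (R := MvPolynomial (Fin N) A) Q
  -- its rational point over the origin
  letI : Algebra (MvPolynomial (Fin N) A) (Pn A N) := (ι (A := A) (N := N)).toAlgebra
  let j : A →+* B₀ ⧸ Q := (Ideal.Quotient.mk Q).comp (algebraMap A B₀)
  have hj : Function.Surjective j := fun z => by
    obtain ⟨b, rfl⟩ := Ideal.Quotient.mk_surjective z
    obtain ⟨c, hc⟩ := hres b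
    exact ⟨c, (Ideal.Quotient.eq.2 hc).symm⟩
  let g₀ : A →+* Pn A N ⧸ maximalIdeal (Pn A N) :=
    (Ideal.Quotient.mk _).comp (algebraMap A (Pn A N))
  have hg₀ : RingHom.ker j ≤ RingHom.ker g₀ := fun a ha => by
    rw [RingHom.mem_ker] at ha ⊢
    refine Ideal.Quotient.eq_zero_iff_mem.2 (map_nonunit _ a ?_)
    rw [mem_maximalIdeal, mem_nonunits_iff]
    intro hu
    exact ‹Q.IsPrime›.ne_top (Ideal.eq_top_of_isUnit_mem _ (Ideal.Quotient.eq_zero_iff_mem.1 ha) (hu.map _))
  let χ₀ : B₀ →+* Pn A N ⧸ maximalIdeal (Pn A N) :=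
    ((j.liftOfSurjective hj) ⟨g₀, hg₀⟩).comp (Ideal.Quotient.mk Q)
  have hχA : ∀ a, χ₀ (algebraMap A B₀ a) = g₀ a := fun a =>
    RingHom.liftOfSurjective_comp_apply j hj ⟨g₀, hg₀⟩ a
  have hχQ : ∀ b ∈ Q, χ₀ b = 0 := fun b hb => by
    show ((j.liftOfSurjective hj) ⟨g₀, hg₀⟩) (Ideal.Quotient.mk Q b) = 0
    rw [Ideal.Quotient.eq_zero_iff_mem.2 hb, map_zero]
  have hχo : ∀ p, χ₀ (algebraMap (MvPolynomial (Fin N) A) B₀ p) = Ideal.Quotient.mk _ (ι p) := by
    have : χ₀.comp (algebraMap (MvPolynomial (Fin N) A) B₀) = (Ideal.Quotient.mk _).comp ι := by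
      refine MvPolynomial.ringHom_ext (fun a => ?_) fun i => ?_
      · show χ₀ (algebraMap _ _ (C a)) = _
        rw [heC, hχA]; rfl
      · show χ₀ (algebraMap _ _ (X i)) = _
        rw [heX, hχQ _ (hy i)]
        exact (Ideal.Quotient.eq_zero_iff_mem.2 (x_mem i)).symm
    exact fun p => RingHom.congr_fun this p
  haveI : Nontrivial (Pn A N ⧸ maximalIdeal (Pn A N)) :=
    Ideal.Quotient.nontrivial_iff.2 (maximalIdeal.isMaximal _).ne_top
  have hfu : IsUnit (χ₀ f) := by
    obtain ⟨c, hc⟩ := hres f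
    have hcu : IsUnit c := by
      rw [← IsLocalRing.notMem_maximalIdeal]
      exact fun h => hfQ (by
        rw [show f = (f - algebraMap A B₀ c) + algebraMap A B₀ c by ring]
        exact add_mem hc (hQA (Ideal.mem_map_of_mem _ h)))
    rw [show f = (f - algebraMap A B₀ c) + algebraMap A B₀ c by ring, map_add, hχQ _ hc, zero_add, hχA]
    exact hcu.map _
  let χ : Localization.Away f →+* Pn A N ⧸ maximalIdeal (Pn A N) := IsLocalization.Away.lift f hfu
  have hχ : ∀ b, χ (algebraMap B₀ _ b) = χ₀ b := fun b => IsLocalization.Away.lift_eq f hfu b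
  let χₐ : Localization.Away f →ₐ[MvPolynomial (Fin N) A] Pn A N ⧸ maximalIdeal (Pn A N) :=
    { χ with
      commutes' := fun p => by
        show χ _ = _
        rw [IsScalarTower.algebraMap_apply (MvPolynomial (Fin N) A) B₀, hχ, hχo]
        rfl }
  obtain ⟨γ, hγ, -⟩ := Hensel.existsUnique_etale_lift_of_algebra (A := Pn A N)
    (maximalIdeal (Pn A N)) (χₐ.comp π)
  -- the map to `Bh`
  obtain ⟨Φ, hΦ⟩ := exists_algHom (A := A) (T := Bh)
    (fun i => algebraMap (Localization.AtPrime Q) Bh (algebraMap B₀ _ (y i)))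
    (fun i => map_nonunit (algebraMap (Localization.AtPrime Q) Bh) _ (by
      rw [← Localization.AtPrime.map_eq_maximalIdeal]
      exact Ideal.mem_map_of_mem _ (hy i)))
  let β : B₀ →+* Bh := (algebraMap (Localization.AtPrime Q) Bh).comp (algebraMap B₀ _)
  have hβA : ∀ a, β (algebraMap A B₀ a) = algebraMap A Bh a := fun a => by
    rw [IsScalarTower.algebraMap_apply A (Localization.AtPrime Q) Bh,
      IsScalarTower.algebraMap_apply A B₀ (Localization.AtPrime Q)]
    rfl
  letI : Algebra (MvPolynomial (Fin N) A) Bh := (β.comp e.toRingHom).toAlgebra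
  have hΦι : ∀ p, Φ (ι p) = β (algebraMap (MvPolynomial (Fin N) A) B₀ p) := by
    have : Φ.toRingHom.comp ι = β.comp (algebraMap (MvPolynomial (Fin N) A) B₀) := by
      refine MvPolynomial.ringHom_ext (fun a => ?_) fun i => ?_
      · show Φ (algebraMap A (Pn A N) a) = β (algebraMap (MvPolynomial (Fin N) A) B₀ (C a))
        rw [Φ.commutes, heC, hβA]
      · show Φ (x i) = β (algebraMap (MvPolynomial (Fin N) A) B₀ (X i))
        rw [hΦ, heX]; rfl
    exact fun p => RingHom.congr_fun this p
  have hΦloc : IsLocalHom Φ.toRingHom := isLocalHom_of_algHom fun i => by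
    rw [hΦ]
    exact map_nonunit (algebraMap (Localization.AtPrime Q) Bh) _ (by
      rw [← Localization.AtPrime.map_eq_maximalIdeal]
      exact Ideal.mem_map_of_mem _ (hy i))
  have hβu : ∀ b ∈ Q.primeCompl, IsUnit (β b) := fun b hb =>
    (IsLocalization.map_units (Localization.AtPrime Q) (⟨b, hb⟩ : Q.primeCompl)).map
      (algebraMap (Localization.AtPrime Q) Bh)
  let ρ : Localization.Away f →+* Bh := IsLocalization.Away.lift f (hβu f hfQ)
  have hρ : ∀ b, ρ (algebraMap B₀ _ b) = β b := fun b => IsLocalization.Away.lift_eq f _ b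
  let ρₐ : Localization.Away f →ₐ[MvPolynomial (Fin N) A] Bh :=
    { ρ with
      commutes' := fun p => by
        show ρ _ = _
        rw [IsScalarTower.algebraMap_apply (MvPolynomial (Fin N) A) B₀, hρ]
        rfl }
  let Φₐ : Pn A N →ₐ[MvPolynomial (Fin N) A] Bh :=
    { Φ.toRingHom with commutes' := hΦι }
  -- compatibility
  let Φbar : Pn A N ⧸ maximalIdeal (Pn A N) →+* Bh ⧸ maximalIdeal Bh :=
    Ideal.quotientMap _ Φ.toRingHom (fun a ha => map_nonunit Φ.toRingHom a ha)
  have hres' : Φbar.comp χ = (Ideal.Quotient.mk _).comp ρ := by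
    refine IsLocalization.ringHom_ext (Submonoid.powers f) (RingHom.ext fun b => ?_)
    show Φbar (χ (algebraMap B₀ _ b)) = Ideal.Quotient.mk _ (ρ (algebraMap B₀ _ b))
    rw [hχ, hρ]
    obtain ⟨c, hc⟩ := hres b
    rw [show b = (b - algebraMap A B₀ c) + algebraMap A B₀ c by ring, map_add χ₀, hχQ _ hc, zero_add,
      hχA, map_add β, map_add (Ideal.Quotient.mk _)]
    have hb0 : Ideal.Quotient.mk (maximalIdeal Bh) (β (b - algebraMap A B₀ c)) = 0 :=
      Ideal.Quotient.eq_zero_iff_mem.2 (map_nonunit (algebraMap (Localization.AtPrime Q) Bh) _ (by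
        rw [← Localization.AtPrime.map_eq_maximalIdeal]
        exact Ideal.mem_map_of_mem _ hc))
    rw [hb0, zero_add, hβA]
    show Φbar (Ideal.Quotient.mk _ (algebraMap A (Pn A N) c)) = _
    rw [Ideal.quotientMap_mk]
    exact congrArg _ (Φ.commutes c)
  have hΦγ : Φₐ.comp γ = ρₐ.comp π := by
    refine Hensel.algHom_ext_of_le_jacobson (IsLocalRing.jacobson_eq_maximalIdeal (⊥ : Ideal Bh) bot_ne_top).ge _ _
      fun s => ?_
    rw [← Ideal.Quotient.eq]
    have h1 : Ideal.Quotient.mk (maximalIdeal (Pn A N)) (γ s) = χ (π s) := congr($hγ s)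
    calc Ideal.Quotient.mk (maximalIdeal Bh) (Φ (γ s))
        = Φbar (Ideal.Quotient.mk _ (γ s)) := (Ideal.quotientMap_mk).symm
      _ = Φbar (χ (π s)) := by rw [h1]
      _ = Ideal.Quotient.mk _ (ρ (π s)) := RingHom.congr_fun hres' (π s)
  have hΦγ' : ∀ s, Φ (γ s) = ρ (π s) := fun s => congr($hΦγ s)
  -- `Bh` is the quotient of `Pn A N` by the image of the kernel of `π`
  let I : Ideal (Pn A N) := (RingHom.ker π).map γ.toRingHom
  have hIK : I ≤ RingHom.ker Φ := Ideal.map_le_iff_le_comap.2 fun s hs => by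
    show Φ (γ s) = 0
    rw [hΦγ', show π s = 0 from hs, map_zero]
  have hItop : I ≠ ⊤ := fun h => by
    have h1 : (1 : Pn A N) ∈ RingHom.ker Φ := hIK (h ▸ Submodule.mem_top)
    exact one_ne_zero ((map_one Φ).symm.trans (RingHom.mem_ker.1 h1))
  haveI : HenselianLocalRing (Pn A N ⧸ I) := henselianLocalRing_quot hItop
  let Φ' : Pn A N ⧸ I →ₐ[A] Bh := Ideal.Quotient.liftₐ I Φ fun z hz => hIK hz
  haveI : IsLocalHom Φ'.toRingHom := ⟨fun z hz => by
    obtain ⟨w, rfl⟩ := Ideal.Quotient.mk_surjective z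
    exact (isUnit_of_map_unit Φ.toRingHom w hz).map _⟩
  let γbar : Localization.Away f →+* Pn A N ⧸ I :=
    (π.toRingHom).liftOfSurjective hπ ⟨(Ideal.Quotient.mk I).comp γ.toRingHom, fun s hs =>
      Ideal.Quotient.eq_zero_iff_mem.2 (Ideal.mem_map_of_mem _ hs)⟩
  have hγbar : ∀ s, γbar (π s) = Ideal.Quotient.mk I (γ s) := fun s =>
    RingHom.liftOfSurjective_comp_apply π.toRingHom hπ _ s
  have hΦ'γ : ∀ t, Φ' (γbar t) = ρ t := fun t => by
    obtain ⟨s, rfl⟩ := hπ t
    rw [hγbar]
    exact hΦγ' s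
  have hu' : ∀ b : Q.primeCompl, IsUnit ((γbar.comp (algebraMap B₀ _)) b) := fun b => by
    refine isUnit_of_map_unit Φ'.toRingHom _ ?_
    show IsUnit (Φ' (γbar (algebraMap B₀ _ (b : B₀))))
    rw [hΦ'γ, hρ]
    exact hβu _ b.2
  let g : Localization.AtPrime Q →+* Pn A N ⧸ I := IsLocalization.lift hu'
  have hg : ∀ b, g (algebraMap B₀ _ b) = γbar (algebraMap B₀ _ b) := fun b => IsLocalization.lift_eq hu' b
  have hΦ'g : Φ'.toRingHom.comp g = algebraMap (Localization.AtPrime Q) Bh := by
    refine IsLocalization.ringHom_ext Q.primeCompl (RingHom.ext fun b => ?_)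
    show Φ' (g (algebraMap B₀ _ b)) = _
    rw [hg, hΦ'γ, hρ]
  haveI : IsLocalHom g := by
    haveI : IsLocalHom (Φ'.toRingHom.comp g) := hΦ'g ▸ inferInstance
    exact isLocalHom_of_comp g Φ'.toRingHom
  obtain ⟨h, hh, -⟩ := hH.universal _ g inferInstance
  have hho : ∀ p, h (Φ (ι p)) = Ideal.Quotient.mk I (ι p) := fun p => by
    rw [hΦι]
    show h (algebraMap _ Bh (algebraMap B₀ _ _)) = _
    rw [← RingHom.comp_apply h, hh, hg, ← IsScalarTower.algebraMap_apply, ← AlgHom.commutes π, hγbar,
      AlgHom.commutes]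
    rfl
  have hΦh : Φ'.toRingHom.comp h = RingHom.id Bh :=
    (hH.universal Bh (algebraMap _ Bh) inferInstance).unique (by rw [RingHom.comp_assoc, hh, hΦ'g])
      (RingHom.id_comp _)
  have hΦ'surj : Function.Surjective Φ' := fun z => ⟨h z, RingHom.congr_fun hΦh z⟩
  refine ⟨Φ, fun z => ?_, hΦ, fun hfp => ?_⟩
  · obtain ⟨w, hw⟩ := hΦ'surj z
    obtain ⟨v, rfl⟩ := Ideal.Quotient.mk_surjective w
    exact ⟨v, hw⟩
  haveI := hfp
  haveI : Algebra.FinitePresentation A (Localization.Away f) :=
    haveI : Algebra.FinitePresentation B₀ (Localization.Away f) := inferInstance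
    Algebra.FinitePresentation.trans A B₀ (Localization.Away f)
  haveI : Algebra.FinitePresentation (MvPolynomial (Fin N) A) (Localization.Away f) :=
    Algebra.FinitePresentation.of_restrict_scalars_finitePresentation A _ _
  suffices RingHom.ker Φ = I by
    rw [this]
    exact (Algebra.FinitePresentation.ker_fG_of_surjective π hπ).map _
  refine le_antisymm (fun z hz => ?_) hIK
  haveI : IsLocalHom (algebraMap A (Pn A N ⧸ I)) := isLocalHom_algebraMap_quot hItop
  let hₐ : Bh →ₐ[A] Pn A N ⧸ I := { h with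
    commutes' := fun a => by
      show h (algebraMap A Bh a) = _
      rw [← hβA, ← heC, ← hΦι, hho]
      rfl }
  have hid : hₐ.comp Φ = Ideal.Quotient.mkₐ A I := algHom_ext (fun i => hho (X i)) fun i => by
    show h (Φ (x i)) ∈ _
    rw [show h (Φ (x i)) = Ideal.Quotient.mk I (x i) from hho (X i)]
    haveI : IsLocalHom (Ideal.Quotient.mk I) := Ideal.Quotient.mk_surjective.isLocalHom _
    exact map_nonunit _ _ (x_mem i)
  rw [← Ideal.Quotient.eq_zero_iff_mem]
  have := congr($hid z)
  rw [AlgHom.comp_apply, show Φ z = 0 from hz, map_zero] at this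
  exact this.symm

end Groth.Agent.Morse46
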