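import Groth.Agent.Morse46.Expand
import Groth.Agent.Morse46.Surj
import Groth.Agent.Morse46.Quad
import Groth.Agent.PSQuad.Vars
import Groth.Agent.CILib.Basic
import Groth.Agent.CohenLib.PowerSeries
import Groth.Agent.ArtFunLib.Essential
import Mathlib.RingTheory.Flat.EquationalCriterion
import Mathlib.LinearAlgebra.Basis.VectorSpace

/-!
# The equation of a hypersurface singularity in `Pn A N`

If the completed geometric fibre of a flat local algebra is a power series ring modulo one equation,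
then the henselization of the algebra is `Pn A N` modulo one element with the same quadratic part.
-/

set_option linter.style.haveILetI false
set_option linter.unusedSectionVars false

noncomputable section

namespace Groth.Agent.Morse46

open IsLocalRing MvPolynomial VanCyc Matrix Finsupp

open scoped DualNumber

universe u

instance isAdicComplete_dualNumber (K : Type u) [Field K] : IsAdicComplete (maximalIdeal K[ε]) K[ε] :=
  ArtFunLib.isAdicComplete_of_isNilpotent ⟨2, by
    rw [DualNumber.maximalIdeal_eq_span_singleton_eps, Ideal.span_singleton_pow, sq, DualNumber.eps_mul_eps,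
      Ideal.span_singleton_eq_bot.2 rfl]
    rfl⟩

theorem isAdicComplete_ps_quot {K : Type u} [Field K] {N : ℕ} (I : Ideal (MvPowerSeries (Fin N) K))
    [IsLocalRing (MvPowerSeries (Fin N) K ⧸ I)] :
    IsAdicComplete (maximalIdeal (MvPowerSeries (Fin N) K ⧸ I)) (MvPowerSeries (Fin N) K ⧸ I) := by
  obtain ⟨hN, -, -⟩ := CohenLib.isRegular_complete_mvPowerSeries (Λ := K) (Or.inl (Field.toIsField K)) N
  have : IsAdicComplete (maximalIdeal (MvPowerSeries (Fin N) K)) (MvPowerSeries (Fin N) K) := by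
    rw [PSLib.maximalIdeal_eq_vars]; infer_instance
  exact CILib.isAdicComplete_quotient _

/-- The retraction trick: divisibility descends along field extensions. -/
theorem exists_mul_eq_of_map {k : Type u} [Field k] {K : Type u} [Field K] [Algebra k K] {N : ℕ} {g h : MvPowerSeries (Fin N) k}
    {u : MvPowerSeries (Fin N) K}
    (hu : MvPowerSeries.map (algebraMap k K) h = MvPowerSeries.map (algebraMap k K) g * u) :
    ∃ u' : MvPowerSeries (Fin N) k, h = g * u' := by
  classical
  obtain ⟨ρ, hρ⟩ := (Algebra.linearMap k K).exists_leftInverse_of_injective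
    (LinearMap.ker_eq_bot.2 (algebraMap k K).injective)
  let u' : MvPowerSeries (Fin N) k := fun d => ρ (MvPowerSeries.coeff d u)
  have hu' : ∀ d, MvPowerSeries.coeff d u' = ρ (MvPowerSeries.coeff d u) := fun d => rfl
  refine ⟨u', MvPowerSeries.ext fun d => ?_⟩
  have h1 := congrArg (fun w => ρ (MvPowerSeries.coeff d w)) hu
  simp only [MvPowerSeries.coeff_map, MvPowerSeries.coeff_mul, map_sum] at h1
  rw [MvPowerSeries.coeff_mul]
  rw [show ρ (algebraMap k K (MvPowerSeries.coeff d h)) = MvPowerSeries.coeff d h from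
    LinearMap.congr_fun hρ _] at h1
  rw [h1]
  refine Finset.sum_congr rfl fun p _ => ?_
  rw [← Algebra.smul_def, map_smul, smul_eq_mul, hu']

variable {A : Type u} [CommRing A] [HenselianLocalRing A] {N : ℕ}
  {B₀ : Type u} [CommRing B₀] [Algebra A B₀]

theorem isNoetherianRing_fibre_alg [Algebra.FiniteType A B₀] :
    IsNoetherianRing (B₀ ⧸ (maximalIdeal A).map (algebraMap A B₀)) := by
  obtain ⟨r, π, hπ⟩ := Algebra.FiniteType.iff_quotient_mvPolynomial''.1
    (inferInstance : Algebra.FiniteType A B₀)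
  set M := (maximalIdeal A).map (algebraMap A B₀)
  let ρ : MvPolynomial (Fin r) A →+* B₀ ⧸ M := (Ideal.Quotient.mk M).comp π.toRingHom
  have hρ : Function.Surjective ρ := Ideal.Quotient.mk_surjective.comp hπ
  have hmap : Function.Surjective (MvPolynomial.map (σ := Fin r) (residue A)) :=
    MvPolynomial.map_surjective _ residue_surjective
  have hker : RingHom.ker (MvPolynomial.map (σ := Fin r) (residue A)) ≤ RingHom.ker ρ := by
    rw [MvPolynomial.ker_map, Ideal.map_le_iff_le_comap]
    intro a ha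
    rw [show RingHom.ker (residue A) = maximalIdeal A from ker_residue] at ha
    show Ideal.Quotient.mk M (π (C a)) = 0
    rw [show π (C a) = algebraMap A B₀ a from π.commutes a, Ideal.Quotient.eq_zero_iff_mem]
    exact Ideal.mem_map_of_mem _ ha
  refine isNoetherianRing_of_surjective (MvPolynomial (Fin r) (ResidueField A)) _
    ((MvPolynomial.map (residue A)).liftOfSurjective hmap ⟨ρ, hker⟩) fun z => ?_
  obtain ⟨p, rfl⟩ := hρ z
  exact ⟨_, RingHom.liftOfSurjective_comp_apply _ hmap ⟨ρ, hker⟩ p⟩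

variable [Algebra.FiniteType A B₀] (Q : Ideal B₀) [Q.IsPrime]
  (hQA : (maximalIdeal A).map (algebraMap A B₀) ≤ Q) (hres : ∀ b : B₀, ∃ c : A, b - algebraMap A B₀ c ∈ Q)

local notation "Bloc" => Localization.AtPrime Q

include hQA hres

theorem isUnit_of_residue {Z : Type*} [CommRing Z] [IsLocalRing Z] [Algebra A Z] (χ : B₀ →ₐ[A] Z)
    (hχ : ∀ b ∈ Q, χ b ∈ maximalIdeal Z) {b : B₀} (hb : b ∉ Q) : IsUnit (χ b) := by
  obtain ⟨c, hc⟩ := hres b
  have hcu : IsUnit c := by
    rw [← IsLocalRing.notMem_maximalIdeal]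
    exact fun h => hb (by simpa using add_mem hc (hQA (Ideal.mem_map_of_mem _ h)))
  rw [show b = (b - algebraMap A B₀ c) + algebraMap A B₀ c by ring, map_add, χ.commutes,
    ← IsLocalRing.notMem_maximalIdeal]
  intro h
  refine (mem_maximalIdeal _).1 ((add_mem_cancel_left (hχ _ hc)).1 h) (hcu.map (algebraMap A Z))

variable {K : Type u} [Field K] [Algebra A K] [IsLocalHom (algebraMap A K)]

set_option maxHeartbeats 1000000 in
/-- Elements whose images generate the maximal ideal of the completed fibre generate that of the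
localization modulo `𝔪_A`. -/
theorem maximalIdeal_le_of_univ (f : MvPowerSeries (Fin N) K) (hf : f ∈ PSLib.vars N K)
    (η : B₀ →ₐ[A] MvPowerSeries (Fin N) K ⧸ Ideal.span {f})
    (hQη : Q.map η.toRingHom = (PSLib.vars N K).map (Ideal.Quotient.mk (Ideal.span {f})))
    (huniv : ∀ (Z : Type u) [CommRing Z] [IsLocalRing Z] [Algebra A Z] [Algebra K Z] [IsScalarTower A K Z]
      [IsAdicComplete (maximalIdeal Z) Z] (χ : B₀ →ₐ[A] Z), (∀ b ∈ Q, χ b ∈ maximalIdeal Z) →
      ∃ ξ : MvPowerSeries (Fin N) K →ₐ[K] Z, (∀ i, ξ (MvPowerSeries.X i) ∈ maximalIdeal Z) ∧ ξ f = 0 ∧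
        ∀ b p, η b = Ideal.Quotient.mk _ p → χ b = ξ p)
    (y : Fin N → B₀) (hy : ∀ i, y i ∈ Q) (v : Fin N → MvPowerSeries (Fin N) K)
    (hv : ∀ i, η (y i) = Ideal.Quotient.mk _ (v i))
    (hspan : Ideal.span (Set.range v) = PSLib.vars N K) :
    maximalIdeal Bloc ≤ (maximalIdeal A).map (algebraMap A Bloc) ⊔
      Ideal.span (Set.range fun i => algebraMap B₀ Bloc (y i)) := by
  set I := (maximalIdeal A).map (algebraMap A Bloc) ⊔ Ideal.span (Set.range fun i => algebraMap B₀ Bloc (y i))
  set m := maximalIdeal Bloc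
  have hIm : I ≤ m := by
    refine sup_le ?_ ?_
    · rw [IsScalarTower.algebraMap_eq A B₀ Bloc, ← Ideal.map_map]
      exact (Ideal.map_mono hQA).trans Localization.AtPrime.map_eq_maximalIdeal.le
    · rw [Ideal.span_le]
      rintro _ ⟨i, rfl⟩
      show algebraMap B₀ Bloc (y i) ∈ m
      rw [show m = maximalIdeal Bloc from rfl, ← Localization.AtPrime.map_eq_maximalIdeal]
      exact Ideal.mem_map_of_mem _ (hy i)
  -- finitely many generators modulo `𝔪_A`
  obtain ⟨S, hSQ, hS⟩ : ∃ S : Finset B₀, ↑S ⊆ (Q : Set B₀) ∧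
      Q ≤ (maximalIdeal A).map (algebraMap A B₀) ⊔ Ideal.span S := by
    classical
    set M := (maximalIdeal A).map (algebraMap A B₀)
    haveI := isNoetherianRing_fibre_alg (A := A) (B₀ := B₀)
    obtain ⟨T, hT⟩ := IsNoetherian.noetherian (Q.map (Ideal.Quotient.mk M))
    have hpre : ∀ t ∈ T, ∃ q ∈ Q, Ideal.Quotient.mk M q = t := fun t ht =>
      (Ideal.mem_map_iff_of_surjective _ Ideal.Quotient.mk_surjective).1 (hT ▸ Submodule.subset_span ht)
    choose q hq hqt using hpre
    refine ⟨T.attach.image fun t => q t.1 t.2, fun b hb => ?_, fun b hb => ?_⟩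
    · obtain ⟨t, -, rfl⟩ := Finset.mem_image.1 hb
      exact hq _ _
    · have h1 : Ideal.Quotient.mk M b ∈ (Ideal.span (↑(T.attach.image fun t => q t.1 t.2) : Set B₀)).map
          (Ideal.Quotient.mk M) := by
        have : Q.map (Ideal.Quotient.mk M) ≤ _ := le_of_eq hT.symm
        refine (this.trans (Submodule.span_le.2 fun t ht => ?_)) (Ideal.mem_map_of_mem _ hb)
        rw [← hqt t ht]
        exact Ideal.mem_map_of_mem _ (Ideal.subset_span (Finset.mem_image.2 ⟨⟨t, ht⟩, Finset.mem_attach _ _, rfl⟩))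
      rw [← Ideal.mem_comap, Ideal.comap_map_of_surjective' _ Ideal.Quotient.mk_surjective, Ideal.mk_ker,
        sup_comm] at h1
      exact h1
  set T : Ideal Bloc := (Ideal.span (S : Set B₀)).map (algebraMap B₀ Bloc)
  have hmT : m ≤ (maximalIdeal A).map (algebraMap A Bloc) ⊔ T := by
    rw [show m = maximalIdeal Bloc from rfl, ← Localization.AtPrime.map_eq_maximalIdeal,
      IsScalarTower.algebraMap_eq A B₀ Bloc, ← Ideal.map_map, ← Ideal.map_sup]
    exact Ideal.map_mono hS
  have hTm : T ≤ m := (Ideal.map_mono (Ideal.span_le.2 hSQ)).trans Localization.AtPrime.map_eq_maximalIdeal.le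
  suffices h2 : m ≤ I ⊔ m ^ 2 by
    refine hmT.trans (sup_le le_sup_left ?_)
    have hTfg : T.FG := Ideal.FG.map ⟨S, rfl⟩ _
    refine Submodule.le_of_le_smul_of_le_jacobson_bot hTfg
      (IsLocalRing.jacobson_eq_maximalIdeal (⊥ : Ideal Bloc) bot_ne_top).ge ?_
    have h3 : m ^ 2 ≤ I ⊔ m * T := by
      have h4 : m * m ≤ m * ((maximalIdeal A).map (algebraMap A Bloc) ⊔ T) := Ideal.mul_mono le_rfl hmT
      rw [Ideal.mul_sup] at h4
      rw [sq]
      have h5 : m * (maximalIdeal A).map (algebraMap A Bloc) ≤ (maximalIdeal A).map (algebraMap A Bloc) :=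
        Ideal.mul_le_right
      have h6 : (maximalIdeal A).map (algebraMap A Bloc) ≤ I := le_sup_left
      exact h4.trans (sup_le_sup (h5.trans h6) le_rfl)
    exact hTm.trans (h2.trans (sup_le le_sup_left h3))
  -- otherwise there is a derivation killing the `y i`
  by_contra h2
  obtain ⟨b₁, hb₁Q, hb₁⟩ : ∃ b ∈ Q, algebraMap B₀ Bloc b ∉ I ⊔ m ^ 2 := by
    by_contra h
    push Not at h
    refine h2 fun z hz => ?_
    have hle : Q.map (algebraMap B₀ Bloc) ≤ I ⊔ m ^ 2 :=
      Ideal.map_le_iff_le_comap.2 fun b hb => Ideal.mem_comap.2 (h b hb)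
    rw [show m = maximalIdeal Bloc from rfl, ← Localization.AtPrime.map_eq_maximalIdeal] at hz
    exact hle hz
  set I' := I ⊔ m ^ 2
  have hI' : I' ≠ ⊤ := fun h => hb₁ (h ▸ Submodule.mem_top)
  haveI : IsLocalRing (Bloc ⧸ I') := isLocalRing_quot hI'
  let R := Bloc ⧸ I'
  let κ : B₀ →ₐ[A] R := (Ideal.Quotient.mkₐ A I').comp (IsScalarTower.toAlgHom A B₀ Bloc)
  let σ : ResidueField A →+* R := Ideal.Quotient.lift (maximalIdeal A) (algebraMap A R) fun a ha =>
    Ideal.Quotient.eq_zero_iff_mem.2 (Ideal.mem_sup_left (Ideal.mem_sup_left (Ideal.mem_map_of_mem _ ha)))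
  have hκQ : ∀ b ∈ Q, κ b ∈ maximalIdeal R := fun b hb => by
    haveI : IsLocalHom (Ideal.Quotient.mk I') := Ideal.Quotient.mk_surjective.isLocalHom _
    exact map_nonunit (Ideal.Quotient.mk I') _ (Localization.AtPrime.map_eq_maximalIdeal.le (Ideal.mem_map_of_mem _ hb))
  have hσres : Function.Bijective ((residue R).comp σ) := by
    refine ⟨RingHom.injective _, fun z => ?_⟩
    obtain ⟨r, rfl⟩ := residue_surjective z
    obtain ⟨l, rfl⟩ := Ideal.Quotient.mk_surjective r
    obtain ⟨⟨b, s⟩, hbs⟩ := IsLocalization.surj Q.primeCompl l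
    obtain ⟨c, hc⟩ := hres b
    obtain ⟨d, hd⟩ := hres s
    have hkey : ∀ {b c}, b - algebraMap A B₀ c ∈ Q → residue R (κ b) = residue R (σ (residue A c)) :=
      fun {b c} h => by
      rw [← sub_eq_zero, ← map_sub, residue_eq_zero_iff,
        show σ (residue A c) = algebraMap A R c from rfl, ← κ.commutes, ← map_sub]
      exact hκQ _ h
    have hd0 : residue A d ≠ 0 := fun h => s.2 (by
      simpa using add_mem hd (hQA (Ideal.mem_map_of_mem _ ((residue_eq_zero_iff d).1 h))))
    refine ⟨residue A c / residue A d, mul_right_cancel₀ (b := ((residue R).comp σ) (residue A d))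
      ((map_ne_zero _).2 hd0) ?_⟩
    rw [← map_mul, div_mul_cancel₀ _ hd0, RingHom.comp_apply, RingHom.comp_apply, ← hkey hd, ← hkey hc,
      ← map_mul]
    exact congrArg (residue R) ((congrArg (Ideal.Quotient.mk I') hbs).symm.trans (map_mul _ _ _))
  let e := RingEquiv.ofBijective ((residue R).comp σ) hσres
  let π : R →+* ResidueField A := e.symm.toRingHom.comp (residue R)
  have hπσ : ∀ c, π (σ c) = c := fun c => e.symm_apply_apply c
  have hv' : ∀ r, r - σ (π r) ∈ maximalIdeal R := fun r => by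
    rw [← residue_eq_zero_iff, map_sub, sub_eq_zero]
    exact (e.apply_symm_apply (residue R r)).symm
  have hm2 : ∀ {r s : R}, r ∈ maximalIdeal R → s ∈ maximalIdeal R → r * s = 0 := fun {r s} hr hs => by
    obtain ⟨r', rfl⟩ := Ideal.Quotient.mk_surjective r
    obtain ⟨s', rfl⟩ := Ideal.Quotient.mk_surjective s
    rw [← map_mul, Ideal.Quotient.eq_zero_iff_mem]
    refine Ideal.mem_sup_right ?_
    rw [sq]
    refine Ideal.mul_mem_mul ?_ ?_
    · rw [mem_maximalIdeal, mem_nonunits_iff]; exact fun h => (mem_maximalIdeal _).1 hr (h.map _)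
    · rw [mem_maximalIdeal, mem_nonunits_iff]; exact fun h => (mem_maximalIdeal _).1 hs (h.map _)
  have hz : κ b₁ ≠ 0 := fun h => hb₁ (Ideal.Quotient.eq_zero_iff_mem.1 h)
  have hπm : ∀ {r}, r ∈ maximalIdeal R → π r = 0 := fun {r} hr => by
    show e.symm (residue R r) = 0
    rw [(residue_eq_zero_iff r).2 hr, map_zero]
  letI : Algebra (ResidueField A) R := σ.toAlgebra
  obtain ⟨lam, hlam⟩ : ∃ lam : R →ₗ[ResidueField A] ResidueField A, lam (κ b₁) ≠ 0 := by
    by_contra h
    push Not at h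
    exact hz ((Module.forall_dual_apply_eq_zero_iff (ResidueField A) _).1 h)
  letI : Algebra (ResidueField A) K := (IsLocalRing.ResidueField.lift (algebraMap A K)).toAlgebra
  let D : R →+* (ResidueField A)[ε] :=
    { toFun := fun r => (TrivSqZeroExt.inl (π r) + TrivSqZeroExt.inr (lam (r - σ (π r))))
      map_one' := by
        ext <;> simp
      map_mul' := fun r s => by
        ext
        · simp
        · simp only [TrivSqZeroExt.snd_add, TrivSqZeroExt.snd_inl, TrivSqZeroExt.snd_inr, zero_add,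
            TrivSqZeroExt.snd_mul, TrivSqZeroExt.fst_add, TrivSqZeroExt.fst_inl, TrivSqZeroExt.fst_inr, add_zero,
            smul_eq_mul, MulOpposite.smul_eq_mul_unop, MulOpposite.unop_op]
          rw [show r * s - σ (π (r * s)) = π r • (s - σ (π s)) + π s • (r - σ (π r)) by
            rw [Algebra.smul_def, Algebra.smul_def, RingHom.algebraMap_toAlgebra, map_mul, map_mul]
            linear_combination hm2 (hv' r) (hv' s), map_add, map_smul, map_smul]
          simp only [smul_eq_mul]
          ring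
      map_zero' := by ext <;> simp
      map_add' := fun r s => by
        ext
        · simp
        · simp only [TrivSqZeroExt.snd_add, TrivSqZeroExt.snd_inl, TrivSqZeroExt.snd_inr, zero_add]
          rw [← map_add]
          congr 1
          rw [map_add, map_add]; ring }
  let J : (ResidueField A)[ε] →ₐ[ResidueField A] K[ε] :=
    DualNumber.lift ⟨(Algebra.ofId _ _, ε), DualNumber.eps_mul_eps, fun _ => Commute.all _ _⟩
  have hJ : ∀ c w, J (TrivSqZeroExt.inl c + TrivSqZeroExt.inr w) =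
      TrivSqZeroExt.inl (algebraMap (ResidueField A) K c) + TrivSqZeroExt.inr (algebraMap (ResidueField A) K w) := by
    intro c w
    rw [DualNumber.lift_apply_apply]
    ext <;> simp [TrivSqZeroExt.algebraMap_eq_inl', Algebra.smul_def]
  let χ : B₀ →ₐ[A] K[ε] :=
    { (J.toRingHom.comp D).comp κ.toRingHom with
      commutes' := fun a => by
        show J (D (κ (algebraMap A B₀ a))) = algebraMap A K[ε] a
        rw [κ.commutes]
        show J (TrivSqZeroExt.inl (π (σ (residue A a))) +
          TrivSqZeroExt.inr (lam (σ (residue A a) - σ (π (σ (residue A a)))))) = _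
        rw [hπσ, sub_self, map_zero, hJ, map_zero, TrivSqZeroExt.inr_zero, add_zero,
          IsScalarTower.algebraMap_apply A K K[ε], TrivSqZeroExt.algebraMap_eq_inl']
        rfl }
  have hχ : ∀ b ∈ Q, χ b = TrivSqZeroExt.inr (algebraMap (ResidueField A) K (lam (κ b))) := fun b hb => by
    show J (D (κ b)) = _
    show J (TrivSqZeroExt.inl (π (κ b)) + TrivSqZeroExt.inr (lam (κ b - σ (π (κ b))))) = _
    rw [hπm (hκQ b hb), map_zero, sub_zero, hJ, map_zero, TrivSqZeroExt.inl_zero, zero_add]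
  obtain ⟨ξ, hξm, -, hξ⟩ := huniv K[ε] χ fun b hb => by
    rw [hχ b hb, mem_maximalIdeal, mem_nonunits_iff, TrivSqZeroExt.isUnit_iff_isUnit_fst, TrivSqZeroExt.fst_inr]
    exact not_isUnit_zero
  have hξv : PSLib.vars N K ≤ RingHom.ker ξ.toRingHom := by
    rw [← hspan, Ideal.span_le]
    rintro _ ⟨i, rfl⟩
    show ξ (v i) = 0
    have hmem : algebraMap B₀ Bloc (y i) ∈ I := Ideal.mem_sup_right (Ideal.subset_span ⟨i, rfl⟩)
    have hκy : κ (y i) = 0 :=
      (Ideal.Quotient.eq_zero_iff_mem (I := I')).2 (Ideal.mem_sup_left hmem)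
    rw [← hξ (y i) (v i) (hv i), hχ _ (hy i), hκy, map_zero, map_zero, TrivSqZeroExt.inr_zero]
  have h1 : η b₁ ∈ (PSLib.vars N K).map (Ideal.Quotient.mk (Ideal.span {f})) :=
    hQη ▸ Ideal.mem_map_of_mem _ hb₁Q
  obtain ⟨p, hp, hpb⟩ := (Ideal.mem_map_iff_of_surjective _ Ideal.Quotient.mk_surjective).1 h1
  have h3 := hξ b₁ p hpb.symm
  rw [show ξ p = 0 from hξv hp, hχ _ hb₁Q, ← TrivSqZeroExt.inr_zero K] at h3
  exact hlam ((map_eq_zero _).1 (TrivSqZeroExt.inr_injective h3))

omit hQA hres [Algebra.FiniteType A B₀] in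
/-- Coordinates in the completed fibre coming from `Q`. -/
theorem exists_coordinates (f : MvPowerSeries (Fin N) K) (hf : f ∈ PSLib.vars N K ^ 2)
    (η : B₀ →ₐ[A] MvPowerSeries (Fin N) K ⧸ Ideal.span {f})
    (hQη : Q.map η.toRingHom = (PSLib.vars N K).map (Ideal.Quotient.mk (Ideal.span {f}))) :
    ∃ (y : Fin N → B₀) (v : Fin N → MvPowerSeries (Fin N) K), (∀ i, y i ∈ Q) ∧ (∀ i, v i ∈ PSLib.vars N K) ∧
      (∀ i, η (y i) = Ideal.Quotient.mk _ (v i)) ∧
      IsUnit (Matrix.of fun i j => MvPowerSeries.coeff (single j 1) (v i)).det := by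
  classical
  set M : Ideal (MvPowerSeries (Fin N) K ⧸ Ideal.span {f}) :=
    (PSLib.vars N K).map (Ideal.Quotient.mk (Ideal.span {f}))
  have hfv : Ideal.span {f} ≤ PSLib.vars N K :=
    (Ideal.span_singleton_le_iff_mem _).2 (Ideal.pow_le_self two_ne_zero hf)
  let S : Set (MvPowerSeries (Fin N) K) := {p | p ∈ PSLib.vars N K ∧ ∃ b ∈ Q, η b = Ideal.Quotient.mk _ p}
  have hS : PSLib.vars N K ≤ Ideal.span S ⊔ Ideal.span {f} := by
    intro p hp
    have h1 : Ideal.Quotient.mk (Ideal.span {f}) p ∈ (Ideal.span S).map (Ideal.Quotient.mk (Ideal.span {f})) := by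
      refine (?_ : M ≤ _) (Ideal.mem_map_of_mem _ hp)
      rw [← hQη, Ideal.map_le_iff_le_comap]
      intro b hb
      obtain ⟨q, hq, hqb⟩ := (Ideal.mem_map_iff_of_surjective _ Ideal.Quotient.mk_surjective).1
        (hQη ▸ Ideal.mem_map_of_mem η.toRingHom hb)
      exact Ideal.mem_comap.2 (hqb ▸ Ideal.mem_map_of_mem _ (Ideal.subset_span ⟨hq, b, hb, hqb.symm⟩))
    rwa [← Ideal.mem_comap, Ideal.comap_map_of_surjective' _ Ideal.Quotient.mk_surjective, Ideal.mk_ker] at h1
  let Lin : MvPowerSeries (Fin N) K →ₗ[K] (Fin N → K) :=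
    LinearMap.pi fun j => MvPowerSeries.coeff (single j 1)
  have hLin2 : ∀ p ∈ PSLib.vars N K ^ 2, Lin p = 0 := fun p hp => funext fun j =>
    PSLib.coeff_eq_zero_of_mem_pow 2 p hp _ (by simp [degree_single])
  have hLmul : ∀ c, ∀ p ∈ PSLib.vars N K, Lin (c * p) = MvPowerSeries.constantCoeff c • Lin p := fun c p hp => by
    have h1 := hLin2 ((c - MvPowerSeries.C (MvPowerSeries.constantCoeff c)) * p) (by
      rw [sq]; exact Ideal.mul_mem_mul (by rw [PSLib.mem_vars_iff]; simp) hp)
    rw [sub_mul, map_sub, sub_eq_zero] at h1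
    rw [h1, ← MvPowerSeries.smul_eq_C_mul, map_smul]
  have hspanS : ∀ p ∈ Ideal.span S, p ∈ PSLib.vars N K ∧ Lin p ∈ Submodule.span K (Lin '' S) := by
    intro p hp
    induction hp using Submodule.span_induction with
    | mem q hq => exact ⟨hq.1, Submodule.subset_span ⟨q, hq, rfl⟩⟩
    | zero => exact ⟨zero_mem _, by simp⟩
    | add a b _ _ ha hb => exact ⟨add_mem ha.1 hb.1, by rw [map_add]; exact add_mem ha.2 hb.2⟩
    | smul c a _ ha =>
      exact ⟨Ideal.mul_mem_left _ _ ha.1, by rw [smul_eq_mul, hLmul c a ha.1]; exact Submodule.smul_mem _ _ ha.2⟩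
  have htop : ⊤ ≤ Submodule.span K (Lin '' S) := by
    intro w _
    rw [← Finset.univ_sum_single w]
    refine Submodule.sum_mem _ fun j _ => ?_
    rw [show Pi.single j (w j) = w j • Lin (MvPowerSeries.X j) by
      funext i
      simp [Lin, MvPowerSeries.coeff_X, Finsupp.single_left_inj one_ne_zero, Pi.single_apply]]
    refine Submodule.smul_mem _ _ ?_
    obtain ⟨a, ha, b, hb, hab⟩ := Submodule.mem_sup.1 (hS (Ideal.subset_span ⟨j, rfl⟩))
    rw [← hab, map_add, hLin2 b ((Ideal.span_singleton_le_iff_mem _).2 hf hb), add_zero]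
    exact (hspanS a ha).2
  let bs := Module.Basis.ofSpan htop
  haveI := Module.Finite.finite_basis bs
  haveI := Fintype.ofFinite ((linearIndepOn_empty K id).extend (Set.empty_subset (Lin '' S)))
  let e := Fintype.equivFinOfCardEq ((Module.finrank_eq_card_basis bs).symm.trans (Module.finrank_fin_fun K))
  have hmem : ∀ i, ((e.symm i : _) : Fin N → K) ∈ Lin '' S := fun i =>
    (linearIndepOn_empty K id).extend_subset (Set.empty_subset _) (e.symm i).2
  choose v hvS hv using hmem
  choose y hy hyv using fun i => (hvS i).2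
  refine ⟨y, v, hy, fun i => (hvS i).1, hyv, ?_⟩
  rw [← Matrix.isUnit_iff_isUnit_det, ← Matrix.linearIndependent_rows_iff_isUnit]
  have h1 := bs.linearIndependent.comp e.symm e.symm.injective
  have h2 : (bs ∘ e.symm) = fun i => Lin (v i) := funext fun i => by
    rw [Function.comp_apply, hv, Module.Basis.ofSpan_apply_self]
  rw [h2] at h1
  exact h1

set_option maxHeartbeats 2000000 in
/-- **Extraction of the equation.** -/
theorem exists_equation [Algebra.FinitePresentation A B₀] [Module.Flat A Bloc]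
    (f : MvPowerSeries (Fin N) K) (hf : f ∈ PSLib.vars N K ^ 2) (hf0 : f ≠ 0)
    (η : B₀ →ₐ[A] MvPowerSeries (Fin N) K ⧸ Ideal.span {f})
    (hQη : Q.map η.toRingHom = (PSLib.vars N K).map (Ideal.Quotient.mk (Ideal.span {f})))
    (huniv : ∀ (Z : Type u) [CommRing Z] [IsLocalRing Z] [Algebra A Z] [Algebra K Z] [IsScalarTower A K Z]
      [IsAdicComplete (maximalIdeal Z) Z] (χ : B₀ →ₐ[A] Z), (∀ b ∈ Q, χ b ∈ maximalIdeal Z) →
      ∃ ξ : MvPowerSeries (Fin N) K →ₐ[K] Z, (∀ i, ξ (MvPowerSeries.X i) ∈ maximalIdeal Z) ∧ ξ f = 0 ∧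
        ∀ b p, η b = Ideal.Quotient.mk _ p → χ b = ξ p)
    (Bh : Type u) [CommRing Bh] [IsLocalRing Bh] [Algebra Bloc Bh] [IsLocalHom (algebraMap Bloc Bh)]
    [Hensel.IsHenselization Bloc Bh] [Algebra A Bh] [IsScalarTower A Bloc Bh] :
    ∃ (g : Pn A N) (c : K) (L : Matrix (Fin N) (Fin N) K), NoLowTerms (E A K N g) ∧ IsUnit L.det ∧
      (∀ w, quadEval (quadPart f) w = c * quadEval (quadPart (E A K N g)) (L *ᵥ w)) ∧
      Nonempty ((Pn A N ⧸ Ideal.span {g}) ≃ₐ[A] Bh) := by
  classical
  haveI hH : Hensel.IsHenselization Bloc Bh := inferInstance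
  haveI : HenselianLocalRing Bh := hH.henselian
  have hfv : f ∈ PSLib.vars N K := Ideal.pow_le_self two_ne_zero hf
  obtain ⟨y, v, hy, hv, hηv, hdet⟩ := exists_coordinates Q f hf η hQη
  have hspan : Ideal.span (Set.range v) = PSLib.vars N K :=
    PSQuad.span_eq_vars v (fun i => by
      rw [MvPowerSeries.coeff_zero_eq_constantCoeff_apply]; exact PSLib.mem_vars_iff.1 (hv i)) hdet
  have hgen := maximalIdeal_le_of_univ Q hQA hres f hfv η hQη huniv y hy v hηv hspan
  obtain ⟨Φ, hΦs, hΦx, hΦker⟩ := exists_surjective Q hQA hres y hy hgen Bh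
  haveI := isLocalHom_algebraMap_henz Q hQA Bh
  set J := RingHom.ker Φ with hJdef
  have hJfg : J.FG := hΦker inferInstance
  -- coordinates
  obtain ⟨ψ, hψ⟩ := PSLib.exists_algHom (R := K) (PSLib.vars N K) v hv
  have hψb : Function.Bijective ψ := PSLib.bijective_of_first_order ψ (fun i => (hψ i).symm ▸ hv i) fun j => by
    rw [show (fun i => ψ (MvPowerSeries.X i)) = v from funext hψ, hspan]
    exact Ideal.mem_sup_left (Ideal.subset_span ⟨j, rfl⟩)
  let ψe := AlgEquiv.ofBijective ψ hψb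
  obtain ⟨f', hψf'⟩ := hψb.2 f
  -- `E (J) ⊆ (f')`
  haveI : IsLocalRing (MvPowerSeries (Fin N) K ⧸ Ideal.span {f}) := isLocalRing_quot fun h => by
    have h1 := (Ideal.span_singleton_le_iff_mem _).2 hfv (h ▸ Submodule.mem_top : (1 : MvPowerSeries (Fin N) K) ∈ _)
    rw [PSLib.mem_vars_iff, map_one] at h1
    exact one_ne_zero h1
  haveI := isAdicComplete_ps_quot (Ideal.span {f})
  haveI : HenselianRing _ (maximalIdeal (MvPowerSeries (Fin N) K ⧸ Ideal.span {f})) :=
    IsAdicComplete.henselianRing _ _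
  haveI := Hensel.henselianLocalRing_of_henselianRing (MvPowerSeries (Fin N) K ⧸ Ideal.span {f})
  haveI hmkloc : IsLocalHom (Ideal.Quotient.mk (Ideal.span {f})) := Ideal.Quotient.mk_surjective.isLocalHom _
  haveI : IsLocalHom (algebraMap A (MvPowerSeries (Fin N) K ⧸ Ideal.span {f})) :=
    RingHom.isLocalHom_comp (Ideal.Quotient.mk (Ideal.span {f})) (algebraMap A (MvPowerSeries (Fin N) K))
  have hηm : ∀ b ∈ Q, η b ∈ maximalIdeal (MvPowerSeries (Fin N) K ⧸ Ideal.span {f}) := fun b hb => by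
    refine (?_ : (PSLib.vars N K).map (Ideal.Quotient.mk _) ≤ _) (hQη ▸ Ideal.mem_map_of_mem η.toRingHom hb)
    rw [← PSLib.maximalIdeal_eq_vars]
    exact Ideal.map_le_iff_le_comap.2 fun a ha => map_nonunit _ a ha
  let ηL : Bloc →+* MvPowerSeries (Fin N) K ⧸ Ideal.span {f} := IsLocalization.lift
    (g := η.toRingHom) fun s : Q.primeCompl => isUnit_of_residue Q hQA hres η hηm s.2
  haveI : IsLocalHom ηL := ((local_hom_TFAE ηL).out 2 0).1 (by
    rw [← Localization.AtPrime.map_eq_maximalIdeal, Ideal.map_map, IsLocalization.lift_comp,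
      Ideal.map_le_iff_le_comap]
    exact hηm)
  obtain ⟨hB, hhB, -⟩ := hH.universal _ ηL inferInstance
  have hhB' : ∀ b, hB (algebraMap Bloc Bh (algebraMap B₀ Bloc b)) = η b := fun b =>
    (RingHom.congr_fun hhB _).trans (IsLocalization.lift_eq _ b)
  let hBₐ : Bh →ₐ[A] MvPowerSeries (Fin N) K ⧸ Ideal.span {f} :=
    { hB with
      commutes' := fun a => by
        show hB (algebraMap A Bh a) = _
        rw [IsScalarTower.algebraMap_apply A Bloc Bh, IsScalarTower.algebraMap_apply A B₀ Bloc, hhB',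
          AlgHom.commutes] }
  let Γ : Pn A N →ₐ[A] MvPowerSeries (Fin N) K := (ψ.restrictScalars A).comp (E A K N)
  have hΓ : hBₐ.comp Φ = (Ideal.Quotient.mkₐ A (Ideal.span {f})).comp Γ := by
    refine algHom_ext (fun i => ?_) fun i => ?_
    · show hB (Φ (x i)) = Ideal.Quotient.mk _ (ψ (E A K N (x i)))
      rw [hΦx, hhB', E_x, hψ, hηv]
    · show hB (Φ (x i)) ∈ _
      rw [hΦx, hhB']
      exact hηm _ (hy i)
  have hfwd : ∀ j ∈ J, E A K N j ∈ Ideal.span {f'} := fun j hj => by
    have h1 := congr($hΓ j)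
    rw [AlgHom.comp_apply, AlgHom.comp_apply, show Φ j = 0 from hj, map_zero] at h1
    obtain ⟨u, hu⟩ := Ideal.mem_span_singleton'.1 (Ideal.Quotient.eq_zero_iff_mem.1 h1.symm)
    refine Ideal.mem_span_singleton'.2 ⟨ψe.symm u, hψb.1 ?_⟩
    show ψ (ψe.symm u * f') = ψ (E A K N j)
    rw [map_mul, hψf', show ψ (ψe.symm u) = u from ψe.apply_symm_apply u]
    exact hu
  -- `f' ∈ E (J)`
  set I : Ideal (MvPowerSeries (Fin N) K) := J.map (E A K N).toRingHom with hI
  have hIv : I ≤ PSLib.vars N K := by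
    rw [← PSLib.maximalIdeal_eq_vars]
    refine Ideal.map_le_iff_le_comap.2 fun j hj => ?_
    haveI := isLocalHom_of_algHom (φ := E A K N) E_x_mem
    refine map_nonunit (E A K N).toRingHom j ?_
    rw [mem_maximalIdeal, mem_nonunits_iff]
    exact fun hu => not_isUnit_zero ((show Φ j = 0 from hj) ▸ hu.map Φ)
  have hItop : I ≠ ⊤ := fun h => by
    have h1 := hIv (h ▸ Submodule.mem_top : (1 : MvPowerSeries (Fin N) K) ∈ I)
    rw [PSLib.mem_vars_iff, map_one] at h1
    exact one_ne_zero h1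
  have hbwd : f' ∈ I := by
    haveI := isLocalRing_quot hItop
    haveI := isAdicComplete_ps_quot I
    haveI : HenselianLocalRing (MvPowerSeries (Fin N) K ⧸ I) := henselianLocalRing_quot hItop
    haveI : IsLocalHom (algebraMap A (MvPowerSeries (Fin N) K ⧸ I)) := isLocalHom_algebraMap_quot hItop
    haveI hmkI : IsLocalHom (Ideal.Quotient.mk I) := Ideal.Quotient.mk_surjective.isLocalHom _
    let EI : Pn A N →ₐ[A] MvPowerSeries (Fin N) K ⧸ I := (Ideal.Quotient.mkₐ A I).comp (E A K N)
    let L₁ : (Pn A N ⧸ RingHom.ker Φ) →ₐ[A] MvPowerSeries (Fin N) K ⧸ I :=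
      Ideal.Quotient.liftₐ (RingHom.ker Φ) EI fun j hj =>
        Ideal.Quotient.eq_zero_iff_mem.2 (Ideal.mem_map_of_mem _ hj)
    let χh : Bh →ₐ[A] MvPowerSeries (Fin N) K ⧸ I :=
      L₁.comp (Ideal.quotientKerAlgEquivOfSurjective hΦs).symm.toAlgHom
    have hχh : ∀ w, χh (Φ w) = EI w := fun w => by
      show L₁ ((Ideal.quotientKerAlgEquivOfSurjective hΦs).symm (Φ w)) = _
      rw [show (Ideal.quotientKerAlgEquivOfSurjective hΦs).symm (Φ w) = Ideal.Quotient.mk J w by
        rw [AlgEquiv.symm_apply_eq]; rfl]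
      rfl
    let χ : B₀ →ₐ[A] MvPowerSeries (Fin N) K ⧸ I :=
      χh.comp ((IsScalarTower.toAlgHom A Bloc Bh).comp (IsScalarTower.toAlgHom A B₀ Bloc))
    haveI hE : IsLocalHom EI.toRingHom := isLocalHom_of_algHom fun i => map_nonunit (Ideal.Quotient.mk I) _ (E_x_mem i)
    obtain ⟨ξ, hξm, hξf, hξ⟩ := huniv _ χ fun b hb => by
      obtain ⟨w, hw⟩ := hΦs (algebraMap Bloc Bh (algebraMap B₀ Bloc b))
      show χh (algebraMap Bloc Bh (algebraMap B₀ Bloc b)) ∈ _
      rw [← hw, hχh]
      refine map_nonunit EI.toRingHom w ?_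
      rw [mem_maximalIdeal, mem_nonunits_iff]
      intro hu
      have h1 : IsUnit (algebraMap Bloc Bh (algebraMap B₀ Bloc b)) := hw ▸ hu.map Φ
      exact (mem_maximalIdeal _).1 (map_nonunit (algebraMap Bloc Bh) _
        (Localization.AtPrime.map_eq_maximalIdeal.le (Ideal.mem_map_of_mem _ hb))) h1
    have hξψ : ξ.comp ψ = Ideal.Quotient.mkₐ K I := by
      refine PSLib.algHom_ext (I := maximalIdeal (MvPowerSeries (Fin N) K ⧸ I)) _ _ (fun i => ?_) fun i => ?_
      · rw [AlgHom.comp_apply, hψ, ← hξ _ _ (hηv i)]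
        show χh (algebraMap Bloc Bh (algebraMap B₀ Bloc (y i))) ∈ _
        rw [← hΦx, hχh]
        exact map_nonunit EI.toRingHom _ (x_mem i)
      · rw [AlgHom.comp_apply, hψ, ← hξ _ _ (hηv i)]
        show χh (algebraMap Bloc Bh (algebraMap B₀ Bloc (y i))) = _
        rw [← hΦx, hχh]
        exact congrArg (Ideal.Quotient.mk I) (E_x i)
    rw [← Ideal.Quotient.eq_zero_iff_mem]
    show Ideal.Quotient.mkₐ K I f' = 0
    rw [← hξψ, AlgHom.comp_apply, hψf', hξf]
  -- one element of `J` expands to the equation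
  have hf'0 : f' ≠ 0 := fun h => hf0 (by rw [← hψf', h, map_zero])
  obtain ⟨g, hgJ, hg⟩ : ∃ g ∈ J, E A K N g ∉ Ideal.span {f'} * PSLib.vars N K := by
    by_contra h
    push Not at h
    have h1 : f' ∈ Ideal.span {f'} * PSLib.vars N K := (Ideal.map_le_iff_le_comap.2 h) hbwd
    obtain ⟨m, hm, hmf⟩ := Ideal.mem_span_singleton_mul.1 h1
    refine hf'0 ?_
    have hu : IsUnit (m - 1) := by
      rw [MvPowerSeries.isUnit_iff_constantCoeff, map_sub, map_one, PSLib.mem_vars_iff.1 hm, zero_sub]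
      exact isUnit_one.neg
    exact hu.mul_left_eq_zero.1 (by rw [mul_sub, mul_one, hmf, sub_self])
  obtain ⟨c', hc'⟩ := Ideal.mem_span_singleton'.1 (hfwd g hgJ)
  have hc'u : IsUnit c' := by
    rw [MvPowerSeries.isUnit_iff_constantCoeff, isUnit_iff_ne_zero]
    intro h0
    have h1 : f' * c' ∈ Ideal.span {f'} * PSLib.vars N K :=
      Ideal.mul_mem_mul (Ideal.mem_span_singleton_self f') (PSLib.mem_vars_iff.2 h0)
    rw [mul_comm f' c', hc'] at h1
    exact hg h1
  obtain ⟨d', hd'⟩ := hc'u.exists_left_inv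
  have hdiv : ∀ j ∈ J, ∃ u, E A K N j = E A K N g * u := fun j hj => by
    obtain ⟨u, hu⟩ := Ideal.mem_span_singleton'.1 (hfwd j hj)
    exact ⟨d' * u, by rw [← hu, ← hc']; linear_combination (-(u * f')) * hd'⟩
  have hlow : NoLowTerms (E A K N g) := by
    rw [noLowTerms_iff, ← hc']
    refine Ideal.mul_mem_left _ _ ?_
    have hf' : f' = ψe.symm.toAlgHom f := hψb.1 (hψf'.trans (ψe.apply_symm_apply f).symm)
    have h1 := PSLib.map_pow_le (I := PSLib.vars N K) ψe.symm.toAlgHom (fun i => ?_) 2 (Ideal.mem_map_of_mem _ hf)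
    · rw [hf']; exact h1
    · show ψe.symm (MvPowerSeries.X i) ∈ _
      rw [← PSLib.maximalIdeal_eq_vars, mem_maximalIdeal, mem_nonunits_iff]
      intro hu
      have h2 : IsUnit (MvPowerSeries.X i : MvPowerSeries (Fin N) K) := by simpa using hu.map ψe.toAlgHom
      exact (mem_maximalIdeal _).1 (X_mem_maximalIdeal i) h2
  refine ⟨g, MvPowerSeries.constantCoeff (ψ d'), Matrix.of fun i j => MvPowerSeries.coeff (single j 1) (v i),
    hlow, hdet, fun w => ?_, ?_⟩
  · rw [← quadEval_quadPart_map hlow ψ (ψ d') (fun i => (hψ i).symm ▸ hv i) _ (fun i j => by rw [hψ]; rfl),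
      ← map_mul, show d' * E A K N g = f' by rw [← hc', ← mul_assoc, hd', one_mul], hψf']
  suffices hJ : J = Ideal.span {g} by
    exact ⟨(Ideal.quotientEquivAlgOfEq A hJ.symm).trans (Ideal.quotientKerAlgEquivOfSurjective hΦs)⟩
  refine le_antisymm ?_ ((Ideal.span_singleton_le_iff_mem _).2 hgJ)
  refine Submodule.le_of_le_smul_of_le_jacobson_bot hJfg
    (IsLocalRing.jacobson_eq_maximalIdeal (⊥ : Ideal (Pn A N)) bot_ne_top).ge ?_
  -- modulo `𝔪_A`
  have hmod : J ≤ Ideal.span {g} ⊔ (maximalIdeal A).map (algebraMap A (Pn A N)) := by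
    intro j hj
    refine mem_of_forall_mem_sup_pow le_sup_right fun i => ?_
    obtain ⟨u, hu⟩ := hdiv j hj
    letI : Algebra (ResidueField A) K := (IsLocalRing.ResidueField.lift (algebraMap A K)).toAlgebra
    haveI : IsLocalHom (algebraMap A (ResidueField A)) := residue_surjective.isLocalHom _
    have hbc : ∀ z, MvPowerSeries.map (algebraMap (ResidueField A) K) (E A (ResidueField A) N z) = E A K N z := by
      intro z
      let β : MvPowerSeries (Fin N) (ResidueField A) →ₐ[A] MvPowerSeries (Fin N) K :=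
        { MvPowerSeries.map (algebraMap (ResidueField A) K) with
          commutes' := fun a => by
            show MvPowerSeries.map _ (algebraMap A (MvPowerSeries (Fin N) (ResidueField A)) a) = _
            rw [MvPowerSeries.algebraMap_apply, MvPowerSeries.map_C, MvPowerSeries.algebraMap_apply]
            rfl }
      exact congr($(algHom_ext (φ := β.comp (E A (ResidueField A) N)) (ψ := E A K N)
        (fun i => by
          rw [AlgHom.comp_apply, E_x, E_x]
          exact MvPowerSeries.map_X _ i)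
        fun i => by
          rw [AlgHom.comp_apply, E_x]
          exact (MvPowerSeries.map_X (algebraMap (ResidueField A) K) i).symm ▸ X_mem_maximalIdeal i) z)
    obtain ⟨u', hu'⟩ := exists_mul_eq_of_map (K := K) (h := E A (ResidueField A) N j)
      (g := E A (ResidueField A) N g) (u := u) (by rw [hbc, hbc]; exact hu)
    obtain ⟨p₀, hp₀⟩ := PSLib.exists_polynomial_sub_mem u' i
    obtain ⟨p, hp⟩ := MvPolynomial.map_surjective (σ := Fin N) (algebraMap A (ResidueField A))
      residue_surjective p₀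
    have h1 : E A (ResidueField A) N (j - g * ι p) ∈ PSLib.vars N (ResidueField A) ^ i := by
      rw [map_sub, map_mul, E_ι, hp, hu', ← mul_sub]
      exact Ideal.mul_mem_left _ _ hp₀
    obtain ⟨a, ha, b, hb, hab⟩ := Submodule.mem_sup.1 (mem_sup_of_E_mem h1)
    rw [show j = (g * ι p + a) + b by rw [add_assoc, hab]; ring]
    exact add_mem (Ideal.mem_sup_left (add_mem
      (Ideal.mem_sup_left (Ideal.mul_mem_right _ _ (Ideal.mem_span_singleton_self g)))
      (Ideal.mem_sup_right ha))) (Ideal.mem_sup_right hb)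
  -- flatness
  haveI : Module.Flat Bloc Bh :=
    haveI := Hensel.faithfullyFlat_of_isHenselization Bloc Bh
    inferInstance
  haveI : Module.Flat A Bh := Module.Flat.trans A Bloc Bh
  intro j hj
  obtain ⟨s, hs, t, ht, hst⟩ := Submodule.mem_sup.1 (hmod hj)
  refine Submodule.mem_sup.2 ⟨s, hs, t, ?_, hst⟩
  have htJ : Φ t = 0 := by
    obtain ⟨r, rfl⟩ := Ideal.mem_span_singleton'.1 hs
    rw [show t = j - r * g by rw [← hst]; ring, map_sub, map_mul, show Φ j = 0 from hj, show Φ g = 0 from hgJ,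
      mul_zero, sub_zero]
  obtain ⟨n, p, a, hsum⟩ := Submodule.mem_span_set'.1 ht
  choose a₀ ha₀ ha₀' using fun i => (a i).2
  have h0 : ∑ i, a₀ i • Φ (p i) = 0 := by
    rw [← htJ, ← hsum, map_sum]
    refine Finset.sum_congr rfl fun i _ => ?_
    rw [smul_eq_mul, map_mul, ← ha₀', AlgHom.commutes, Algebra.smul_def, mul_comm]
  obtain ⟨k, b, w, hw, hb⟩ := Module.Flat.isTrivialRelation_of_sum_smul_eq_zero (R := A) (M := Bh) (f := a₀) (x := fun i => Φ (p i)) h0
  choose w' hw' using fun l => hΦs (w l)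
  have he : ∀ i, p i - ∑ l, b i l • w' l ∈ J := fun i => by
    show Φ _ = 0
    rw [map_sub, map_sum, show Φ (p i) = ∑ l, b i l • w l from hw i, sub_eq_zero]
    exact Finset.sum_congr rfl fun l _ => by rw [map_smul, hw']
  have ht' : t = ∑ i, algebraMap A (Pn A N) (a₀ i) * (p i - ∑ l, b i l • w' l) := by
    have h1 : ∑ i, algebraMap A (Pn A N) (a₀ i) * ∑ l, b i l • w' l = 0 := by
      simp only [Finset.mul_sum, ← Algebra.smul_def, smul_smul]
      rw [Finset.sum_comm]
      simp only [← Finset.sum_smul]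
      exact Finset.sum_eq_zero fun l _ => by rw [hb l, zero_smul]
    simp only [mul_sub, Finset.sum_sub_distrib, h1, sub_zero, ← hsum]
    exact Finset.sum_congr rfl fun i _ => by rw [smul_eq_mul, ← ha₀', mul_comm]
  rw [ht', smul_eq_mul]
  exact Submodule.sum_mem _ fun i _ =>
    Ideal.mul_mem_mul (map_nonunit (algebraMap A (Pn A N)) _ (ha₀ i)) (he i)

end Groth.Agent.Morse46
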