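import Groth.Agent.Morse46.Quad
import Groth.Agent.Morse46.Expand
import Groth.Agent.Morse46.Extract
import Groth.Agent.PSLib.Regular
import Groth.Agent.PSQuad.Vars
import Groth.Agent.Adic7.Lift
import Groth.Agent.NodeLib.Completion
import Groth.Agent.ArtFunLib.Essential
import Mathlib.RingTheory.DualNumber
import Mathlib.RingTheory.EssentialFiniteness
import Mathlib.RingTheory.Nilpotent.Lemmas
import Mathlib.Algebra.CharP.Lemmas

/-!
# Completed geometric fibres

For a local algebra over a field whose geometric local rings complete to a power series ring modulo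
one equation: the coordinates-free data used to extract an equation, and triviality of a purely
inseparable residue field at a non-degenerate quadratic point.
-/

set_option linter.style.haveILetI false
set_option linter.unusedSectionVars false

noncomputable section

namespace Groth.Agent.Morse46

open IsLocalRing VanCyc Finsupp Matrix

open scoped TensorProduct DualNumber

universe u

variable {k K : Type u} [Field k] [Field K] [Algebra k K]
  (O : Type u) [CommRing O] [IsLocalRing O] [Algebra k O] [Algebra.EssFiniteType k O]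

local notation "PS" N => MvPowerSeries (Fin N) K

theorem map_maximalIdeal_completion (T : Type u) [CommRing T] [IsLocalRing T] [IsNoetherianRing T]
    {C : Type u} [CommRing C] [IsLocalRing C] (e : AdicCompletion (maximalIdeal T) T ≃+* C) :
    (maximalIdeal T).map (e.toRingHom.comp (algebraMap T (AdicCompletion (maximalIdeal T) T))) =
      maximalIdeal C := by
  rw [← Ideal.map_map, ← AdicCompletion.maximalIdeal_eq_map]
  exact map_maximalIdeal_of_surjective e.toRingHom e.surjective

/-- **The data of a completed geometric fibre** with trivial residue field. -/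
theorem exists_fibre_data (hres : ∀ o : O, ∃ c : k, o - algebraMap k O c ∈ maximalIdeal O) {N : ℕ}
    (P : (PS N) → Prop) (hP : ∀ f, P f → f ∈ PSLib.vars N K)
    (h : ∀ (M : Ideal (K ⊗[k] O)) [M.IsMaximal], ∃ f, P f ∧
      Nonempty (AdicCompletion (maximalIdeal (Localization.AtPrime M)) (Localization.AtPrime M) ≃ₐ[K]
        ((PS N) ⧸ Ideal.span {f}))) :
    ∃ f, P f ∧ ∃ η : O →+* (PS N) ⧸ Ideal.span {f},
      (∀ c, η (algebraMap k O c) = algebraMap K _ (algebraMap k K c)) ∧
      (maximalIdeal O).map η = (PSLib.vars N K).map (Ideal.Quotient.mk (Ideal.span {f})) ∧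
      ∀ (Z : Type u) [CommRing Z] [IsLocalRing Z] [Algebra K Z] [IsAdicComplete (maximalIdeal Z) Z]
        (χ : O →+* Z), (∀ c, χ (algebraMap k O c) = algebraMap K Z (algebraMap k K c)) →
        (∀ o ∈ maximalIdeal O, χ o ∈ maximalIdeal Z) →
        ∃ ξ : (PS N) →ₐ[K] Z, (∀ i, ξ (MvPowerSeries.X i) ∈ maximalIdeal Z) ∧ ξ f = 0 ∧
          ∀ o p, η o = Ideal.Quotient.mk _ p → χ o = ξ p := by
  classical
  let inc : O →ₐ[k] K ⊗[k] O := Algebra.TensorProduct.includeRight
  -- the residue map
  choose c hc using hres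
  have huniq : ∀ {o : O} {d d' : k}, o - algebraMap k O d ∈ maximalIdeal O →
      o - algebraMap k O d' ∈ maximalIdeal O → d = d' := fun {o d d'} h h' => by
    by_contra hne
    have h1 := sub_mem h h'
    rw [sub_sub_sub_cancel_left, ← map_sub] at h1
    exact (mem_maximalIdeal _).1 h1 ((isUnit_iff_ne_zero.2 (sub_ne_zero.2 (Ne.symm hne))).map _)
  let resO : O →ₐ[k] k :=
    { toFun := c
      map_one' := huniq (hc 1) (by simp)
      map_mul' := fun a b => huniq (hc (a * b)) (by
        rw [show a * b - algebraMap k O (c a * c b) =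
          (a - algebraMap k O (c a)) * b + algebraMap k O (c a) * (b - algebraMap k O (c b)) by
            rw [map_mul]; ring]
        exact add_mem (Ideal.mul_mem_right _ _ (hc a)) (Ideal.mul_mem_left _ _ (hc b)))
      map_zero' := huniq (hc 0) (by simp)
      map_add' := fun a b => huniq (hc (a + b)) (by
        rw [map_add, add_sub_add_comm]; exact add_mem (hc a) (hc b))
      commutes' := fun r => huniq (hc _) (by simp) }
  let ε₀ : K ⊗[k] O →ₐ[K] K :=
    Algebra.TensorProduct.lift (AlgHom.id K K) ((Algebra.ofId k K).comp resO) fun _ _ => .all _ _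
  let M : Ideal (K ⊗[k] O) := (maximalIdeal O).map inc.toRingHom
  have hε : ∀ z, z - algebraMap K (K ⊗[k] O) (ε₀ z) ∈ M := fun z => by
    induction z with
    | zero => simp
    | add a b ha hb => rw [map_add, map_add, add_sub_add_comm]; exact add_mem ha hb
    | tmul a o =>
      have h1 : (a ⊗ₜ[k] o : K ⊗[k] O) - algebraMap K _ (ε₀ (a ⊗ₜ o)) =
          (a ⊗ₜ[k] (1 : O)) * inc (o - algebraMap k O (c o)) := by
        show (a ⊗ₜ[k] o : K ⊗[k] O) - algebraMap K (K ⊗[k] O) (a * algebraMap k K (c o)) =
          (a ⊗ₜ[k] (1 : O)) * ((1 : K) ⊗ₜ[k] (o - algebraMap k O (c o)))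
        rw [Algebra.TensorProduct.tmul_mul_tmul, mul_one, one_mul, TensorProduct.tmul_sub,
          Algebra.TensorProduct.algebraMap_apply, Algebra.algebraMap_self, RingHom.id_apply,
          mul_comm, ← Algebra.smul_def, TensorProduct.smul_tmul, ← Algebra.algebraMap_eq_smul_one]
      rw [h1]
      exact Ideal.mul_mem_left _ _ (Ideal.mem_map_of_mem _ (hc _))
  have hMε : RingHom.ker ε₀.toRingHom = M := by
    refine le_antisymm (fun z hz => ?_) (Ideal.map_le_iff_le_comap.2 fun o ho => ?_)
    · have h1 := hε z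
      rwa [show ε₀ z = 0 from hz, map_zero, sub_zero] at h1
    · show ε₀ (1 ⊗ₜ o) = 0
      rw [Algebra.TensorProduct.lift_tmul, map_one, one_mul]
      show algebraMap k K (c o) = 0
      rw [huniq (hc o) (d' := 0) (by simpa using ho), map_zero]
  haveI hMmax : M.IsMaximal := hMε ▸ RingHom.ker_isMaximal_of_surjective _ (fun z => ⟨algebraMap K _ z, ε₀.commutes z⟩)
  obtain ⟨f, hPf, ⟨θ⟩⟩ := h M
  haveI : Algebra.EssFiniteType K (K ⊗[k] O) := inferInstance
  haveI : IsNoetherianRing (K ⊗[k] O) := Algebra.EssFiniteType.isNoetherianRing K _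
  haveI : IsNoetherianRing (Localization.AtPrime M) := IsLocalization.isNoetherianRing M.primeCompl _ inferInstance
  set T := Localization.AtPrime M
  set Cp := AdicCompletion (maximalIdeal T) T
  haveI : Nontrivial ((PS N) ⧸ Ideal.span {f}) := θ.toRingEquiv.symm.toRingHom.domain_nontrivial
  haveI : IsLocalRing ((PS N) ⧸ Ideal.span {f}) :=
    IsLocalRing.of_surjective' (Ideal.Quotient.mk _) Ideal.Quotient.mk_surjective
  let jT : (K ⊗[k] O) →ₐ[K] T := IsScalarTower.toAlgHom K _ T
  let η : O →+* (PS N) ⧸ Ideal.span {f} :=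
    (θ.toRingEquiv.toRingHom.comp (algebraMap T Cp)).comp (jT.toRingHom.comp inc.toRingHom)
  refine ⟨f, hPf, η, fun d => ?_, ?_, ?_⟩
  · show θ (algebraMap T Cp (jT (inc (algebraMap k O d)))) = _
    rw [inc.commutes, IsScalarTower.algebraMap_apply k K (K ⊗[k] O), jT.commutes,
      ← IsScalarTower.algebraMap_apply, θ.commutes]
  · rw [show η = (θ.toRingEquiv.toRingHom.comp (algebraMap T Cp)).comp (jT.toRingHom.comp inc.toRingHom) from rfl,
      ← Ideal.map_map,
      show (maximalIdeal O).map (jT.toRingHom.comp inc.toRingHom) = maximalIdeal T by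
        rw [← Ideal.map_map, ← Localization.AtPrime.map_eq_maximalIdeal]
        rfl,
      map_maximalIdeal_completion T θ.toRingEquiv, ← PSLib.maximalIdeal_eq_vars]
    exact (map_maximalIdeal_of_surjective _ Ideal.Quotient.mk_surjective).symm
  · intro Z _ _ _ _ χ hχk hχm
    letI : Algebra k Z := Algebra.compHom Z (algebraMap k K)
    haveI : IsScalarTower k K Z := .of_algebraMap_eq fun _ => rfl
    let χₐ : O →ₐ[k] Z := { χ with commutes' := hχk }
    let Λ : K ⊗[k] O →ₐ[K] Z :=
      Algebra.TensorProduct.lift (Algebra.ofId K Z) χₐ fun _ _ => .all _ _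
    have hΛi : ∀ o, Λ (inc o) = χ o := fun o => by
      show Λ (1 ⊗ₜ o) = χ o
      rw [Algebra.TensorProduct.lift_tmul, map_one, one_mul]
      rfl
    have hΛM : M.map Λ.toRingHom ≤ maximalIdeal Z := by
      rw [Ideal.map_map, Ideal.map_le_iff_le_comap]
      intro o ho
      show Λ (inc o) ∈ maximalIdeal Z
      rw [hΛi]
      exact hχm o ho
    have hu : ∀ s : M.primeCompl, IsUnit (Λ s) := fun s => by
      have hne : ε₀ (s : K ⊗[k] O) ≠ 0 := fun h0 => s.2 (hMε.le h0)
      rw [← IsLocalRing.notMem_maximalIdeal]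
      intro hm
      have h1 := sub_mem hm (hΛM (Ideal.mem_map_of_mem _ (hε (s : K ⊗[k] O))))
      have h2 : Λ (algebraMap K _ (ε₀ (s : K ⊗[k] O))) ∈ maximalIdeal Z := by
        convert h1 using 1
        show _ = Λ (s : K ⊗[k] O) - Λ _
        rw [map_sub]; ring
      rw [AlgHom.commutes] at h2
      exact (mem_maximalIdeal _).1 h2 ((isUnit_iff_ne_zero.2 hne).map _)
    let ΛT : T →ₐ[K] Z := IsLocalization.liftAlgHom (A := K) (S := T) (M := M.primeCompl) (f := Λ) hu
    have hΛT : ∀ z, ΛT (jT z) = Λ z := fun z => IsLocalization.lift_eq _ z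
    have hΛTm : (maximalIdeal T).map ΛT.toRingHom ≤ maximalIdeal Z := by
      rw [← Localization.AtPrime.map_eq_maximalIdeal, Ideal.map_map,
        show ΛT.toRingHom.comp (algebraMap (K ⊗[k] O) T) = Λ.toRingHom from RingHom.ext hΛT]
      exact hΛM
    obtain ⟨F, hF⟩ := Adic7.exists_lift_completion (R := K) (maximalIdeal T) (maximalIdeal Z) ΛT hΛTm
    let ξ : (PS N) →ₐ[K] Z := (F.comp θ.symm.toAlgHom).comp (Ideal.Quotient.mkₐ K (Ideal.span {f}))
    refine ⟨ξ, fun i => ?_, ?_, fun o p hop => ?_⟩
    · have h1 : θ.symm (Ideal.Quotient.mk (Ideal.span {f}) (MvPowerSeries.X i)) ∈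
          (maximalIdeal T).map (algebraMap T Cp) := by
        rw [← AdicCompletion.maximalIdeal_eq_map,
          ← map_maximalIdeal_of_surjective θ.symm.toRingEquiv.toRingHom θ.symm.surjective,
          ← map_maximalIdeal_of_surjective _ Ideal.Quotient.mk_surjective]
        exact Ideal.mem_map_of_mem _ (Ideal.mem_map_of_mem _ (X_mem_maximalIdeal i))
      have h2 := Ideal.mem_map_of_mem F.toRingHom h1
      rw [Ideal.map_map] at h2
      exact hΛTm ((show (maximalIdeal T).map (F.toRingHom.comp (algebraMap T Cp)) =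
        (maximalIdeal T).map ΛT.toRingHom by
          rw [show F.toRingHom.comp (algebraMap T Cp) = ΛT.toRingHom from RingHom.ext hF]).le h2)
    · show F (θ.symm (Ideal.Quotient.mk _ f)) = 0
      rw [Ideal.Quotient.eq_zero_iff_mem.2 (Ideal.mem_span_singleton_self f), map_zero, map_zero]
    · show χ o = F (θ.symm (Ideal.Quotient.mk _ p))
      rw [← hop]
      show χ o = F (θ.symm (θ (algebraMap T Cp (jT (inc o)))))
      rw [θ.symm_apply_apply, hF, hΛT, hΛi]

/-- Powers of the maximal ideal of the dual numbers over a local ring. -/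
theorem fst_snd_mem_pow {R : Type u} [CommRing R] (I : Ideal R) :
    ∀ (i : ℕ), ∀ z ∈ (I.comap (TrivSqZeroExt.fstHom R R R).toRingHom) ^ (i + 1),
      z.fst ∈ I ^ (i + 1) ∧ z.snd ∈ I ^ i := by
  intro i
  induction i with
  | zero =>
    intro z hz
    rw [zero_add, Submodule.pow_one] at hz
    rw [zero_add, pow_one]
    exact ⟨hz, by simp⟩
  | succ i ih =>
    intro z hz
    rw [Submodule.pow_succ] at hz
    refine Submodule.mul_induction_on hz (fun b hb a ha => ?_) fun a b ha hb => ?_
    · obtain ⟨h1, h2⟩ := ih b hb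
      rw [mul_comm b a]
      have ha' : a.fst ∈ I := ha
      refine ⟨?_, ?_⟩
      · rw [TrivSqZeroExt.fst_mul, pow_succ']; exact Ideal.mul_mem_mul ha' h1
      · rw [TrivSqZeroExt.snd_mul]
        refine add_mem ?_ ?_
        · rw [smul_eq_mul, pow_succ']; exact Ideal.mul_mem_mul ha' h2
        · rw [MulOpposite.smul_eq_mul_unop, MulOpposite.unop_op]
          exact Ideal.mul_mem_left _ _ h1
    · exact ⟨by rw [TrivSqZeroExt.fst_add]; exact add_mem ha.1 hb.1,
        by rw [TrivSqZeroExt.snd_add]; exact add_mem ha.2 hb.2⟩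

set_option maxHeartbeats 4000000 in
/-- **A purely inseparable residue field at a non-degenerate quadratic point is trivial.** -/
theorem residue_trivial_of_nondeg [IsAlgClosed K] (q : ℕ) [ExpChar k q]
    (hPi : ∀ o : O, ∃ (e : ℕ) (c : k), o ^ q ^ e - algebraMap k O c ∈ maximalIdeal O) {N : ℕ}
    (h : ∀ (M : Ideal (K ⊗[k] O)) [M.IsMaximal], ∃ f : PS N, NondegQuadSeries f ∧
      Nonempty (AdicCompletion (maximalIdeal (Localization.AtPrime M)) (Localization.AtPrime M) ≃ₐ[K]
        ((PS N) ⧸ Ideal.span {f})))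
    (o : O) : ∃ c : k, o - algebraMap k O c ∈ maximalIdeal O := by
  classical
  let R' := K ⊗[k] ResidueField O
  let π : K ⊗[k] O →ₐ[K] R' :=
    Algebra.TensorProduct.map (AlgHom.id K K) (IsScalarTower.toAlgHom k O (ResidueField O))
  have hπ : Function.Surjective π := fun z => by
    induction z using TensorProduct.induction_on with
    | zero => exact ⟨0, map_zero _⟩
    | add a b ha hb =>
      obtain ⟨a', rfl⟩ := ha
      obtain ⟨b', rfl⟩ := hb
      exact ⟨a' + b', map_add _ _ _⟩
    | tmul a y =>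
      obtain ⟨o, rfl⟩ := residue_surjective y
      exact ⟨a ⊗ₜ o, rfl⟩
  haveI : Nontrivial R' :=
    (Algebra.TensorProduct.includeLeft_injective (R := k) (S := K) (A := K) (B := ResidueField O)
      (algebraMap k (ResidueField O)).injective).nontrivial
  haveI : ExpChar R' q := expChar_of_injective_algebraMap (algebraMap k R').injective q
  -- every element has a `q`-power in `K`
  have hpow : ∀ z : R', ∃ (e : ℕ) (a : K), z ^ q ^ e = algebraMap K R' a := fun z => by
    induction z using TensorProduct.induction_on with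
    | zero => exact ⟨0, 0, by simp⟩
    | add a b ha hb =>
      obtain ⟨e, a', ha⟩ := ha
      obtain ⟨e', b', hb⟩ := hb
      refine ⟨e + e', a' ^ q ^ e' + b' ^ q ^ e, ?_⟩
      rw [add_pow_expChar_pow, map_add, map_pow, map_pow, ← ha, ← hb, ← pow_mul, ← pow_mul, ← pow_add,
        ← pow_add, add_comm e' e]
    | tmul a y =>
      obtain ⟨o, rfl⟩ := residue_surjective y
      obtain ⟨e, d, hd⟩ := hPi o
      refine ⟨e, a ^ q ^ e * algebraMap k K d, ?_⟩
      rw [Algebra.TensorProduct.tmul_pow, ← map_pow]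
      rw [← residue_eq_zero_iff, map_sub, sub_eq_zero] at hd
      rw [hd, ← IsLocalRing.ResidueField.algebraMap_eq, ← IsScalarTower.algebraMap_apply,
        Algebra.TensorProduct.algebraMap_apply, Algebra.algebraMap_self, RingHom.id_apply,
        Algebra.algebraMap_eq_smul_one (A := ResidueField O), ← TensorProduct.smul_tmul,
        Algebra.smul_def, mul_comm]
  have hq0 : ∀ e, q ^ e ≠ 0 := fun e => pow_ne_zero e (expChar_pos k q).ne'
  haveI : IsLocalRing R' := IsLocalRing.of_isUnit_or_isUnit_one_sub_self fun z => by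
    obtain ⟨e, a, ha⟩ := hpow z
    rcases eq_or_ne a 0 with rfl | hne
    · exact Or.inr (IsNilpotent.isUnit_one_sub ⟨q ^ e, by rw [ha, map_zero]⟩)
    · refine Or.inl ((isUnit_pow_iff (hq0 e)).1 ?_)
      rw [ha]
      exact (isUnit_iff_ne_zero.2 hne).map _
  have hnil : ∀ z ∈ maximalIdeal R', IsNilpotent z := fun z hz => by
    obtain ⟨e, a, ha⟩ := hpow z
    rcases eq_or_ne a 0 with rfl | hne
    · exact ⟨q ^ e, by rw [ha, map_zero]⟩
    · exact absurd ((isUnit_pow_iff (hq0 e)).1 (ha ▸ (isUnit_iff_ne_zero.2 hne).map _))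
        ((mem_maximalIdeal z).1 hz)
  -- the residue map `R' → K`
  have hKres : Function.Bijective (algebraMap K (ResidueField R')) := by
    refine ⟨RingHom.injective _, fun w => ?_⟩
    obtain ⟨z, rfl⟩ := residue_surjective w
    obtain ⟨e, a, ha⟩ := hpow z
    obtain ⟨b, hb⟩ := IsAlgClosed.exists_pow_nat_eq a (Nat.pos_of_ne_zero (hq0 e))
    refine ⟨b, ?_⟩
    rw [IsScalarTower.algebraMap_apply K R' (ResidueField R'), IsLocalRing.ResidueField.algebraMap_eq,
      ← sub_eq_zero, ← map_sub, residue_eq_zero_iff]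
    refine (Ideal.IsPrime.pow_mem_iff_mem inferInstance (q ^ e) (Nat.pos_of_ne_zero (hq0 e))).1 ?_
    rw [sub_pow_expChar_pow, ← map_pow, hb, ← ha, sub_self]
    exact zero_mem _
  let eK := AlgEquiv.ofBijective (Algebra.ofId K (ResidueField R')) hKres
  let red : R' →ₐ[K] K := eK.symm.toAlgHom.comp (IsScalarTower.toAlgHom K R' (ResidueField R'))
  have hred : ∀ z, red z = 0 ↔ z ∈ maximalIdeal R' := fun z => by
    rw [← residue_eq_zero_iff]
    show eK.symm (residue R' z) = 0 ↔ _
    simp
  -- the point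
  let M : Ideal (K ⊗[k] O) := (maximalIdeal R').comap π.toRingHom
  haveI : M.IsMaximal := Ideal.comap_isMaximal_of_surjective _ hπ
  obtain ⟨f, hf, ⟨θ⟩⟩ := h M
  haveI : Algebra.EssFiniteType K (K ⊗[k] O) := inferInstance
  haveI : IsNoetherianRing (K ⊗[k] O) := Algebra.EssFiniteType.isNoetherianRing K _
  haveI : IsNoetherianRing (Localization.AtPrime M) := IsLocalization.isNoetherianRing M.primeCompl _ inferInstance
  set T := Localization.AtPrime M
  set Cp := AdicCompletion (maximalIdeal T) T
  haveI : Nontrivial ((PS N) ⧸ Ideal.span {f}) := θ.toRingEquiv.symm.toRingHom.domain_nontrivial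
  haveI : IsLocalRing ((PS N) ⧸ Ideal.span {f}) :=
    IsLocalRing.of_surjective' (Ideal.Quotient.mk _) Ideal.Quotient.mk_surjective
  let jT : (K ⊗[k] O) →ₐ[K] T := IsScalarTower.toAlgHom K _ T
  have hπu : ∀ s : M.primeCompl, IsUnit (π s) := fun s => by
    rw [← IsLocalRing.notMem_maximalIdeal]; exact s.2
  let πT : T →ₐ[K] R' := IsLocalization.liftAlgHom (A := K) (S := T) (M := M.primeCompl) (f := π) hπu
  have hπT : ∀ z, πT (jT z) = π z := fun z => IsLocalization.lift_eq _ z
  have hπTs : Function.Surjective πT := fun z => by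
    obtain ⟨w, rfl⟩ := hπ z
    exact ⟨jT w, hπT w⟩
  -- the maximal ideal of `R'` is nilpotent
  have hmR : (maximalIdeal T).map πT.toRingHom = maximalIdeal R' := map_maximalIdeal_of_surjective _ hπTs
  have hfg : (maximalIdeal R').FG := hmR ▸ Ideal.FG.map (IsNoetherian.noetherian (maximalIdeal T)) _
  have hnilp : IsNilpotent (maximalIdeal R') :=
    (Ideal.FG.isNilpotent_iff_le_nilradical hfg).2 fun z hz => hnil z hz
  haveI : IsLocalRing R'[ε] := IsLocalRing.of_isUnit_or_isUnit_one_sub_self fun z => by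
    rw [TrivSqZeroExt.isUnit_iff_isUnit_fst, TrivSqZeroExt.isUnit_iff_isUnit_fst, TrivSqZeroExt.fst_sub,
      TrivSqZeroExt.fst_one]
    exact IsLocalRing.isUnit_or_isUnit_one_sub_self z.fst
  have hmax : maximalIdeal R'[ε] = (maximalIdeal R').comap (TrivSqZeroExt.fstHom R' R' R').toRingHom := by
    ext z
    rw [Ideal.mem_comap, mem_maximalIdeal, mem_maximalIdeal, mem_nonunits_iff, mem_nonunits_iff,
      TrivSqZeroExt.isUnit_iff_isUnit_fst]
    rfl
  haveI : IsAdicComplete (maximalIdeal R'[ε]) R'[ε] := ArtFunLib.isAdicComplete_of_isNilpotent (by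
    obtain ⟨L, hL⟩ := hnilp
    rw [Submodule.zero_eq_bot] at hL
    refine ⟨L + 1 + 1, ?_⟩
    rw [Submodule.zero_eq_bot, eq_bot_iff, hmax]
    intro z hz
    obtain ⟨h1, h2⟩ := fst_snd_mem_pow _ (L + 1) z hz
    rw [Submodule.mem_bot]
    ext
    · have h3 := Ideal.pow_le_pow_right (show L ≤ L + 1 + 1 by omega) h1
      rw [hL, Submodule.mem_bot] at h3
      exact h3
    · have h3 := Ideal.pow_le_pow_right (show L ≤ L + 1 by omega) h2
      rw [hL, Submodule.mem_bot] at h3
      exact h3)
  -- a `κ`-linear section of `R' → K`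
  let iR : ResidueField O →ₐ[k] R' := Algebra.TensorProduct.includeRight
  obtain ⟨s, hs0, hsadd, hs', hsmul⟩ : ∃ s : K → R', s 0 = 0 ∧ (∀ a b, s (a + b) = s a + s b) ∧
      (∀ b, red (s b) = b) ∧ ∀ (y : ResidueField O) (b : K), s (red (iR y) * b) = iR y * s b := by
    letI : Algebra (ResidueField O) K := (red.toRingHom.comp iR.toRingHom).toAlgebra
    let β := Module.Basis.ofVectorSpace (ResidueField O) K
    let F : _ → ResidueField O → R' := fun i c => iR c * algebraMap K R' (β i)
    have hF0 : ∀ i, F i 0 = 0 := fun i => by simp [F]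
    have hFadd : ∀ i a b, F i (a + b) = F i a + F i b := fun i a b => by simp [F, add_mul]
    refine ⟨fun b => (β.repr b).sum F, by simp,
      fun a b => by simp only [map_add]; exact Finsupp.sum_add_index' hF0 hFadd, fun b => ?_, fun y b => ?_⟩
    · conv_rhs => rw [← β.linearCombination_repr b, Finsupp.linearCombination_apply]
      rw [map_finsuppSum]
      refine Finsupp.sum_congr fun i _ => ?_
      show red (iR _ * algebraMap K R' (β i)) = _
      rw [map_mul, AlgHom.commutes, Algebra.smul_def]
      rfl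
    · show (β.repr (red (iR y) * b)).sum F = iR y * (β.repr b).sum F
      rw [show red (iR y) * b = y • b from (Algebra.smul_def y b).symm, map_smul,
        Finsupp.sum_smul_index hF0, Finsupp.mul_sum]
      refine Finsupp.sum_congr fun i _ => ?_
      simp [F, mul_assoc]
  -- residue maps of `T` to `K` are unique
  have hTK : ∀ (φ : T →ₐ[K] K) (z : T), φ z = red (πT z) := fun φ z => by
    have hker : ∀ ψ : T →ₐ[K] K, RingHom.ker ψ.toRingHom = maximalIdeal T := fun ψ =>
      IsLocalRing.eq_maximalIdeal (RingHom.ker_isMaximal_of_surjective _ fun b => ⟨algebraMap K T b, ψ.commutes b⟩)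
    have h1 : z - algebraMap K T (red (πT z)) ∈ RingHom.ker (red.comp πT).toRingHom := by
      show red (πT (z - algebraMap K T (red (πT z)))) = 0
      rw [map_sub, map_sub, AlgHom.commutes, AlgHom.commutes, Algebra.algebraMap_self, RingHom.id_apply, sub_self]
    rw [hker, ← hker φ] at h1
    have h2 : φ (z - algebraMap K T (red (πT z))) = 0 := h1
    rwa [map_sub, AlgHom.commutes, Algebra.algebraMap_self, RingHom.id_apply, sub_eq_zero] at h2
  -- the coordinates
  let x : Fin N → Cp := fun j => θ.symm (Ideal.Quotient.mk _ (MvPowerSeries.X j))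
  have hxm : ∀ j, x j ∈ (maximalIdeal T).map (algebraMap T Cp) := fun j => by
    rw [← AdicCompletion.maximalIdeal_eq_map,
      ← map_maximalIdeal_of_surjective θ.symm.toRingEquiv.toRingHom θ.symm.surjective,
      ← map_maximalIdeal_of_surjective _ Ideal.Quotient.mk_surjective]
    exact Ideal.mem_map_of_mem _ (Ideal.mem_map_of_mem _ (X_mem_maximalIdeal j))
  obtain ⟨hf0, hfnd⟩ := hf
  have hf2 : f ∈ PSLib.vars N K ^ 2 := noLowTerms_iff.1 hf0
  -- lifts of the coordinate derivations
  have hΨ : ∀ i : Fin N, ∃ Ψ : Cp →ₐ[K] R'[ε], (∀ t, (Ψ (algebraMap T Cp t)).fst = πT t) ∧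
      ∀ j, red (Ψ (x j)).snd = if j = i then 1 else 0 := by
    intro i
    obtain ⟨δ₀, hδ₀⟩ := PSLib.exists_algHom (R := K) (maximalIdeal K[ε])
      (fun j => if j = i then (ε : K[ε]) else 0) fun j => by
        rw [DualNumber.maximalIdeal_eq_span_singleton_eps]
        split
        · exact Ideal.subset_span rfl
        · exact zero_mem _
    have hδf : δ₀ f = 0 := by
      have h1 := PSLib.map_pow_le δ₀ (I := Ideal.span {(ε : K[ε])}) (fun j => by
        rw [hδ₀]; split
        · exact Ideal.subset_span rfl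
        · exact zero_mem _) 2 (Ideal.mem_map_of_mem _ hf2)
      rw [Ideal.span_singleton_pow, sq, DualNumber.eps_mul_eps, Ideal.span_singleton_eq_bot.2 rfl,
        Submodule.mem_bot] at h1
      exact h1
    let δC : Cp →ₐ[K] K[ε] := (Ideal.Quotient.liftₐ (Ideal.span {f}) δ₀ fun a ha => by
      obtain ⟨b, rfl⟩ := Ideal.mem_span_singleton'.1 ha
      rw [map_mul, hδf, mul_zero]).comp θ.toAlgHom
    let δT : T →ₐ[K] K[ε] := δC.comp (IsScalarTower.toAlgHom K T Cp)
    have hfst : ∀ t, (δT t).fst = red (πT t) := fun t =>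
      hTK ((TrivSqZeroExt.fstHom K K K).comp δT) t
    let δO : O → K := fun o => (δT (jT (1 ⊗ₜ o))).snd
    have hδmul : ∀ a b, δO (a * b) =
        red (iR (residue O a)) * δO b + red (iR (residue O b)) * δO a := fun a b => by
      have hab : ((1 : K) ⊗ₜ[k] (a * b) : K ⊗[k] O) = (1 ⊗ₜ a) * (1 ⊗ₜ b) := by
        rw [Algebra.TensorProduct.tmul_mul_tmul, one_mul]
      have hπi : ∀ o : O, πT (jT (1 ⊗ₜ o)) = iR (residue O o) := fun o => hπT _
      show (δT (jT (1 ⊗ₜ (a * b)))).snd = _
      rw [hab, map_mul, map_mul, TrivSqZeroExt.snd_mul, hfst, hfst, hπi, hπi, smul_eq_mul,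
        MulOpposite.smul_eq_mul_unop, MulOpposite.unop_op]
      ring
    have hδk : ∀ d : k, δO (algebraMap k O d) = 0 := fun d => by
      show (δT (jT (1 ⊗ₜ algebraMap k O d))).snd = 0
      rw [← Algebra.TensorProduct.includeRight_apply, AlgHom.commutes, IsScalarTower.algebraMap_apply k K,
        jT.commutes, δT.commutes, TrivSqZeroExt.algebraMap_eq_inl']
      exact TrivSqZeroExt.snd_inl _ _
    let DO : O →ₐ[k] R'[ε] :=
      { toFun := fun o => TrivSqZeroExt.inl (iR (residue O o)) + TrivSqZeroExt.inr (s (δO o))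
        map_one' := by
          have h1 : δO 1 = 0 := by rw [← map_one (algebraMap k O)]; exact hδk 1
          ext <;> simp [h1, hs0]
        map_mul' := fun a b => by
          ext
          · simp
          · simp only [TrivSqZeroExt.snd_add, TrivSqZeroExt.snd_inl, TrivSqZeroExt.snd_inr, zero_add,
              TrivSqZeroExt.snd_mul, TrivSqZeroExt.fst_add, TrivSqZeroExt.fst_inl, TrivSqZeroExt.fst_inr,
              add_zero, smul_eq_mul, MulOpposite.smul_eq_mul_unop, MulOpposite.unop_op, hδmul, hsadd, hsmul]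
            ring
        map_zero' := by
          have h1 : δO 0 = 0 := by simp [δO]
          ext <;> simp [h1, hs0]
        map_add' := fun a b => by
          have h1 : δO (a + b) = δO a + δO b := by simp [δO, TensorProduct.tmul_add]
          show TrivSqZeroExt.inl (iR (residue O (a + b))) + TrivSqZeroExt.inr (s (δO (a + b))) = _
          rw [h1, hsadd, map_add, map_add, TrivSqZeroExt.inl_add, TrivSqZeroExt.inr_add]
          abel
        commutes' := fun d => by
          ext
          · have h1 : iR (residue O (algebraMap k O d)) = algebraMap k R' d := iR.commutes d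
            simp [TrivSqZeroExt.algebraMap_eq_inl', h1]
          · simp [hδk, hs0, TrivSqZeroExt.algebraMap_eq_inl'] }
    let DR : K ⊗[k] O →ₐ[K] R'[ε] :=
      Algebra.TensorProduct.lift (Algebra.ofId K _) DO fun _ _ => .all _ _
    have hDRfst : ∀ z, (DR z).fst = π z := fun z => by
      have : (TrivSqZeroExt.fstHom R' R' R').toRingHom.comp DR.toRingHom = π.toRingHom := by
        refine RingHom.ext fun z => ?_
        induction z with
        | zero => simp
        | add a b ha hb => rw [map_add, map_add, ha, hb]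
        | tmul a o =>
          show (DR (a ⊗ₜ o)).fst = a ⊗ₜ residue O o
          rw [Algebra.TensorProduct.lift_tmul, TrivSqZeroExt.fst_mul]
          show ((algebraMap K R'[ε]) a).fst * (DO o).fst = _
          rw [show (DO o).fst = iR (residue O o) by simp [DO],
            show ((algebraMap K R'[ε]) a).fst = algebraMap K R' a from rfl,
            Algebra.TensorProduct.algebraMap_apply, Algebra.algebraMap_self, RingHom.id_apply,
            Algebra.TensorProduct.includeRight_apply, Algebra.TensorProduct.tmul_mul_tmul, mul_one, one_mul]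
      exact RingHom.congr_fun this z
    have hDu : ∀ u : M.primeCompl, IsUnit (DR u) := fun u => by
      rw [TrivSqZeroExt.isUnit_iff_isUnit_fst, hDRfst]; exact hπu u
    let DT : T →ₐ[K] R'[ε] := IsLocalization.liftAlgHom (A := K) (S := T) (M := M.primeCompl) (f := DR) hDu
    have hDT : ∀ z, DT (jT z) = DR z := fun z => IsLocalization.lift_eq _ z
    have hDTfst : ∀ t, (DT t).fst = πT t := by
      have : (TrivSqZeroExt.fstHom R' R' R').toRingHom.comp DT.toRingHom = πT.toRingHom :=
        IsLocalization.ringHom_ext M.primeCompl (RingHom.ext fun z => by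
          show (DT (jT z)).fst = πT (jT z)
          rw [hDT, hπT, hDRfst])
      exact fun t => RingHom.congr_fun this t
    have hDTm : (maximalIdeal T).map DT.toRingHom ≤ maximalIdeal R'[ε] := by
      rw [hmax, Ideal.map_le_iff_le_comap]
      intro t ht
      show (DT t).fst ∈ maximalIdeal R'
      rw [hDTfst]
      exact hmR.le (Ideal.mem_map_of_mem _ ht)
    obtain ⟨Ψ, hΨ⟩ := Adic7.exists_lift_completion (R := K) (maximalIdeal T) (maximalIdeal R'[ε]) DT hDTm
    refine ⟨Ψ, fun t => by rw [hΨ, hDTfst], fun j => ?_⟩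
    -- reduction to `K[ε]`
    let redε : R'[ε] →ₐ[K] K[ε] :=
      { toFun := fun w => TrivSqZeroExt.inl (red w.fst) + TrivSqZeroExt.inr (red w.snd)
        map_one' := by ext <;> simp
        map_mul' := fun a b => by
          ext
          · simp
          · simp only [TrivSqZeroExt.snd_add, TrivSqZeroExt.snd_inl, TrivSqZeroExt.snd_inr, zero_add,
              TrivSqZeroExt.snd_mul, TrivSqZeroExt.fst_add, TrivSqZeroExt.fst_inl, TrivSqZeroExt.fst_inr,
              add_zero, smul_eq_mul, MulOpposite.smul_eq_mul_unop, MulOpposite.unop_op, map_add, map_mul]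
        map_zero' := by ext <;> simp
        map_add' := fun a b => by ext <;> simp
        commutes' := fun a => by
          ext <;> simp [TrivSqZeroExt.algebraMap_eq_inl'] }
    have hredT : redε.comp DT = δT := IsLocalization.algHom_ext M.primeCompl (AlgHom.ext fun z => by
      show redε (DT (jT z)) = δT (jT z)
      rw [hDT]
      induction z with
      | zero => simp
      | add a b ha hb => rw [map_add, map_add, ha, hb, map_add jT, map_add δT]
      | tmul a o =>
        rw [show (a ⊗ₜ[k] o : K ⊗[k] O) = algebraMap K _ a * (1 ⊗ₜ o) by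
          rw [Algebra.TensorProduct.algebraMap_apply, Algebra.algebraMap_self, RingHom.id_apply,
            Algebra.TensorProduct.tmul_mul_tmul, mul_one, one_mul],
          map_mul, map_mul, map_mul, map_mul, AlgHom.commutes, AlgHom.commutes, AlgHom.commutes,
          AlgHom.commutes, Algebra.TensorProduct.lift_tmul, map_one, one_mul]
        congr 1
        ext
        · show (TrivSqZeroExt.inl (red (DO o).fst) + TrivSqZeroExt.inr (red (DO o).snd) : K[ε]).fst = _
          rw [hfst, hπT]
          simp [DO, π, iR]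
          rfl
        · show (TrivSqZeroExt.inl (red (DO o).fst) + TrivSqZeroExt.inr (red (DO o).snd) : K[ε]).snd = _
          simp [DO, hs', δO])
    have hredC : ∀ c ∈ (maximalIdeal T).map (algebraMap T Cp), redε (Ψ c) = δC c := by
      intro c hc
      induction hc using Submodule.span_induction with
      | zero => simp
      | add a b _ _ ha hb => rw [map_add, map_add, ha, hb, map_add]
      | mem w hw =>
        obtain ⟨t, -, rfl⟩ := hw
        rw [hΨ]
        exact congr($hredT t)
      | smul r w hw ih =>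
        rw [smul_eq_mul, map_mul, map_mul, map_mul, ih]
        have hmem : δC w ∈ Ideal.span {(ε : K[ε])} := by
          rw [← DualNumber.maximalIdeal_eq_span_singleton_eps, mem_maximalIdeal, mem_nonunits_iff,
            TrivSqZeroExt.isUnit_iff_isUnit_fst]
          intro hu
          have hw' : w ∈ maximalIdeal Cp := AdicCompletion.maximalIdeal_eq_map (R := T) ▸ hw
          have hk := IsLocalRing.eq_maximalIdeal (RingHom.ker_isMaximal_of_surjective
            ((TrivSqZeroExt.fstHom K K K).comp δC).toRingHom fun b => ⟨algebraMap K Cp b, AlgHom.commutes _ b⟩)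
          have h0 : (δC w).fst = 0 := hk.ge hw'
          exact hu.ne_zero h0
        obtain ⟨b, hb⟩ := Ideal.mem_span_singleton'.1 hmem
        -- only the residue of `r` matters
        have hfst' : ∀ r : Cp, (redε (Ψ r)).fst = (δC r).fst := fun r => by
          let φ₁ : Cp →ₐ[K] K := (TrivSqZeroExt.fstHom K K K).comp (redε.comp Ψ)
          let φ₂ : Cp →ₐ[K] K := (TrivSqZeroExt.fstHom K K K).comp δC
          have hk : ∀ φ : Cp →ₐ[K] K, RingHom.ker φ.toRingHom = maximalIdeal Cp := fun φ =>
            IsLocalRing.eq_maximalIdeal (RingHom.ker_isMaximal_of_surjective _ fun b => ⟨algebraMap K Cp b, φ.commutes b⟩)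
          have h1 : r - algebraMap K Cp (φ₂ r) ∈ RingHom.ker φ₂.toRingHom := by
            show φ₂ (r - algebraMap K Cp (φ₂ r)) = 0
            rw [map_sub, AlgHom.commutes, Algebra.algebraMap_self, RingHom.id_apply, sub_self]
          rw [hk, ← hk φ₁] at h1
          have h2 : φ₁ (r - algebraMap K Cp (φ₂ r)) = 0 := h1
          rw [map_sub, AlgHom.commutes, Algebra.algebraMap_self, RingHom.id_apply, sub_eq_zero] at h2
          exact h2
        ext
        · rw [TrivSqZeroExt.fst_mul, TrivSqZeroExt.fst_mul, hfst']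
        · rw [← hb, TrivSqZeroExt.snd_mul, TrivSqZeroExt.snd_mul, hfst']
          simp [TrivSqZeroExt.snd_mul, TrivSqZeroExt.fst_mul]
    have h1 := congrArg TrivSqZeroExt.snd (hredC (x j) (hxm j))
    simp only [redε, AlgHom.coe_mk, RingHom.coe_mk, MonoidHom.coe_mk, OneHom.coe_mk, TrivSqZeroExt.snd_add,
      TrivSqZeroExt.snd_inl, TrivSqZeroExt.snd_inr, zero_add] at h1
    rw [h1]
    show (δC (θ.symm (Ideal.Quotient.mk _ (MvPowerSeries.X j)))).snd = _
    simp only [δC, AlgHom.comp_apply, AlgEquiv.toAlgHom_eq_coe, AlgEquiv.coe_algHom, θ.apply_symm_apply]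
    show (δ₀ (MvPowerSeries.X j)).snd = _
    rw [hδ₀]
    split <;> simp
  choose Ψ hΨfst hΨsnd using hΨ
  -- the coordinates in `R'`
  set 𝔫 := maximalIdeal R'
  have hΨm : ∀ i j, (Ψ i (x j)).fst ∈ 𝔫 := fun i j => by
    have : (maximalIdeal T).map (algebraMap T Cp) ≤
        𝔫.comap ((TrivSqZeroExt.fstHom R' R' R').toRingHom.comp (Ψ i).toRingHom) :=
      Ideal.map_le_iff_le_comap.2 fun t ht => by
        show (Ψ i (algebraMap T Cp t)).fst ∈ 𝔫
        rw [hΨfst]
        exact hmR.le (Ideal.mem_map_of_mem _ ht)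
    exact this (hxm j)
  have hΨX : ∀ i j, (Ψ i).comp θ.symm.toAlgHom (Ideal.Quotient.mkₐ K _ (MvPowerSeries.X j)) = Ψ i (x j) :=
    fun i j => rfl
  have hsame : ∀ i l, ∀ c ∈ (maximalIdeal T).map (algebraMap T Cp), (Ψ i c).fst - (Ψ l c).fst ∈ 𝔫 ^ 2 := by
    intro i l c hc
    induction hc using Submodule.span_induction with
    | zero => simp
    | add a b _ _ ha hb =>
      rw [map_add, map_add, TrivSqZeroExt.fst_add, TrivSqZeroExt.fst_add, add_sub_add_comm]
      exact add_mem ha hb
    | mem w hw =>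
      obtain ⟨t, -, rfl⟩ := hw
      rw [hΨfst, hΨfst, sub_self]
      exact zero_mem _
    | smul r w hw ih =>
      rw [smul_eq_mul, map_mul, map_mul, TrivSqZeroExt.fst_mul, TrivSqZeroExt.fst_mul,
        show (Ψ i r).fst * (Ψ i w).fst - (Ψ l r).fst * (Ψ l w).fst =
          (Ψ i r).fst * ((Ψ i w).fst - (Ψ l w).fst) + ((Ψ i r).fst - (Ψ l r).fst) * (Ψ l w).fst by ring]
      refine add_mem (Ideal.mul_mem_left _ _ ih) ?_
      rw [sq]
      refine Ideal.mul_mem_mul ?_ ?_
      · -- both reduce to the residue of `r`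
        rw [← hred, map_sub]
        let φ₁ : Cp →ₐ[K] K := red.comp (((TrivSqZeroExt.fstHom R' R' R').restrictScalars K).comp (Ψ i))
        let φ₂ : Cp →ₐ[K] K := red.comp (((TrivSqZeroExt.fstHom R' R' R').restrictScalars K).comp (Ψ l))
        show φ₁ r - φ₂ r = 0
        have hk : ∀ φ : Cp →ₐ[K] K, RingHom.ker φ.toRingHom = maximalIdeal Cp := fun φ =>
          IsLocalRing.eq_maximalIdeal (RingHom.ker_isMaximal_of_surjective _ fun b => ⟨algebraMap K Cp b, φ.commutes b⟩)
        have h1 : r - algebraMap K Cp (φ₂ r) ∈ RingHom.ker φ₂.toRingHom := by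
          show φ₂ (r - algebraMap K Cp (φ₂ r)) = 0
          rw [map_sub, AlgHom.commutes, Algebra.algebraMap_self, RingHom.id_apply, sub_self]
        rw [hk, ← hk φ₁] at h1
        have h2 : φ₁ (r - algebraMap K Cp (φ₂ r)) = 0 := h1
        rwa [map_sub, AlgHom.commutes, Algebra.algebraMap_self, RingHom.id_apply] at h2
      · have : (maximalIdeal T).map (algebraMap T Cp) ≤
            𝔫.comap ((TrivSqZeroExt.fstHom R' R' R').toRingHom.comp (Ψ l).toRingHom) :=
          Ideal.map_le_iff_le_comap.2 fun t ht => by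
            show (Ψ l (algebraMap T Cp t)).fst ∈ 𝔫
            rw [hΨfst]
            exact hmR.le (Ideal.mem_map_of_mem _ ht)
        exact this hw
  -- the equation gives `x̄ ∈ 𝔫²`
  set qf := quadPart f
  have hpol : ∀ i, ∑ b, algebraMap K R' (polarMatrix qf i b) * (Ψ i (x b)).fst ∈ 𝔫 ^ 2 := by
    intro i
    let Φf : (PS N) →ₐ[K] R'[ε] := ((Ψ i).comp θ.symm.toAlgHom).comp (Ideal.Quotient.mkₐ K (Ideal.span {f}))
    have hΦX : ∀ j, Φf (MvPowerSeries.X j) = Ψ i (x j) := fun j => rfl
    have h0 : Φf f = 0 := by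
      show Ψ i (θ.symm (Ideal.Quotient.mk _ f)) = 0
      rw [Ideal.Quotient.eq_zero_iff_mem.2 (Ideal.mem_span_singleton_self f), map_zero, map_zero]
    have h3 := PSLib.map_pow_le Φf (I := 𝔫.comap (TrivSqZeroExt.fstHom R' R' R').toRingHom)
      (fun j => by rw [hΦX]; exact hΨm i j) 3 (Ideal.mem_map_of_mem _ (sub_quadPoly_quadPart_mem hf0))
    obtain ⟨-, h4⟩ := fst_snd_mem_pow 𝔫 2 _ h3
    rw [AlgHom.toRingHom_eq_coe, RingHom.coe_coe, map_sub, h0, zero_sub, TrivSqZeroExt.snd_neg, neg_mem_iff] at h4
    have hq : (Φf (quadPoly qf : MvPolynomial (Fin N) K)).snd = ∑ a, ∑ b, algebraMap K R' (tri qf a b) *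
        ((Ψ i (x a)).fst * (Ψ i (x b)).snd + (Ψ i (x a)).snd * (Ψ i (x b)).fst) := by
      simp only [quadPoly_eq_sum, ← MvPolynomial.coeToMvPowerSeries.ringHom_apply, map_sum, map_mul]
      simp only [MvPolynomial.coeToMvPowerSeries.ringHom_apply, MvPolynomial.coe_C, MvPolynomial.coe_X,
        TrivSqZeroExt.snd_sum]
      refine Finset.sum_congr rfl fun a _ => Finset.sum_congr rfl fun b _ => ?_
      rw [show Φf (MvPowerSeries.C (tri qf a b)) = algebraMap K R'[ε] (tri qf a b) from Φf.commutes _, hΦX, hΦX,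
        TrivSqZeroExt.algebraMap_eq_inl']
      simp [TrivSqZeroExt.snd_mul, TrivSqZeroExt.fst_mul]
      ring
    rw [hq] at h4
    set u : Fin N → R' := fun a => if a = i then 1 else 0
    have hsnd : ∀ a, (Ψ i (x a)).snd - u a ∈ 𝔫 := fun a => by
      rw [← hred, map_sub, hΨsnd, sub_eq_zero]
      simp only [u]
      split <;> simp
    have h5 : ∑ a, ∑ b, algebraMap K R' (tri qf a b) *
        ((Ψ i (x a)).fst * u b + u a * (Ψ i (x b)).fst) ∈ 𝔫 ^ 2 := by
      rw [show ∑ a, ∑ b, algebraMap K R' (tri qf a b) * ((Ψ i (x a)).fst * u b + u a * (Ψ i (x b)).fst) =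
        ∑ a, ∑ b, algebraMap K R' (tri qf a b) *
          ((Ψ i (x a)).fst * (Ψ i (x b)).snd + (Ψ i (x a)).snd * (Ψ i (x b)).fst) -
        ∑ a, ∑ b, algebraMap K R' (tri qf a b) *
          ((Ψ i (x a)).fst * ((Ψ i (x b)).snd - u b) + ((Ψ i (x a)).snd - u a) * (Ψ i (x b)).fst) by
        rw [← Finset.sum_sub_distrib]
        refine Finset.sum_congr rfl fun a _ => ?_
        rw [← Finset.sum_sub_distrib]
        exact Finset.sum_congr rfl fun b _ => by ring]
      refine sub_mem h4 (Submodule.sum_mem _ fun a _ => Submodule.sum_mem _ fun b _ =>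
        Ideal.mul_mem_left _ _ ?_)
      rw [sq]
      exact add_mem (Ideal.mul_mem_mul (hΨm i a) (hsnd b)) (Ideal.mul_mem_mul (hsnd a) (hΨm i b))
    convert h5 using 1
    simp only [u, mul_add, mul_ite, mul_one, mul_zero, ite_mul, one_mul, zero_mul, Finset.sum_add_distrib,
      Finset.sum_ite_eq', Finset.mem_univ, if_true]
    rw [Finset.sum_comm (f := fun a b => if a = i then algebraMap K R' (tri qf a b) * (Ψ i (x b)).fst else 0)]
    simp only [Finset.sum_ite_eq', Finset.mem_univ, if_true]
    rw [← Finset.sum_add_distrib]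
    refine Finset.sum_congr rfl fun b _ => ?_
    rw [polarMatrix_eq, Matrix.add_apply, Matrix.transpose_apply, map_add]
    ring
  have hx2 : ∀ i b, (Ψ i (x b)).fst ∈ 𝔫 ^ 2 := by
    intro i₀ b₀
    let H := polarMatrix qf
    have hH : IsUnit H.det := hfnd
    have h1 : ∀ a, ∑ b, algebraMap K R' (H a b) * (Ψ i₀ (x b)).fst ∈ 𝔫 ^ 2 := fun a => by
      rw [show ∑ b, algebraMap K R' (H a b) * (Ψ i₀ (x b)).fst =
        ∑ b, algebraMap K R' (H a b) * (Ψ a (x b)).fst +
          ∑ b, algebraMap K R' (H a b) * ((Ψ i₀ (x b)).fst - (Ψ a (x b)).fst) by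
          rw [← Finset.sum_add_distrib]; exact Finset.sum_congr rfl fun b _ => by ring]
      exact add_mem (hpol a) (Submodule.sum_mem _ fun b _ => Ideal.mul_mem_left _ _ (hsame _ _ _ (hxm b)))
    have h2 : (Ψ i₀ (x b₀)).fst =
        ∑ a, algebraMap K R' (H⁻¹ b₀ a) * ∑ b, algebraMap K R' (H a b) * (Ψ i₀ (x b)).fst := by
      let v : Fin N → R' := fun b => (Ψ i₀ (x b)).fst
      have h3 : v = H⁻¹.map (algebraMap K R') *ᵥ (H.map (algebraMap K R') *ᵥ v) := by
        rw [Matrix.mulVec_mulVec, ← Matrix.map_mul, Matrix.nonsing_inv_mul H hH,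
          Matrix.map_one _ (map_zero _) (map_one _), Matrix.one_mulVec]
      exact congrFun h3 b₀
    rw [h2]
    exact Submodule.sum_mem _ fun a _ => Ideal.mul_mem_left _ _ (h1 a)
  -- hence `R' = K`
  have hbot : 𝔫 = ⊥ := by
    have hle : 𝔫 ≤ 𝔫 ^ 2 := by
      rcases Nat.eq_zero_or_pos N with hN | hN
      · subst hN
        have hv : PSLib.vars 0 K = ⊥ := by rw [PSLib.vars, Set.range_eq_empty, Ideal.span_empty]
        have hT0 : (maximalIdeal T).map (algebraMap T Cp) = ⊥ := by
          rw [← AdicCompletion.maximalIdeal_eq_map,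
            ← map_maximalIdeal_of_surjective θ.symm.toRingEquiv.toRingHom θ.symm.surjective,
            ← map_maximalIdeal_of_surjective _ Ideal.Quotient.mk_surjective, PSLib.maximalIdeal_eq_vars, hv,
            Ideal.map_bot, Ideal.map_bot]
        have hT1 : maximalIdeal T = ⊥ := by
          refine eq_bot_iff.2 fun t ht => ?_
          have h1 : algebraMap T Cp t = 0 := by
            have := Ideal.mem_map_of_mem (algebraMap T Cp) ht
            rwa [hT0, Submodule.mem_bot] at this
          rw [Submodule.mem_bot]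
          refine AdicCompletion.of_injective (maximalIdeal T) T ?_
          rw [map_zero]
          exact h1
        refine hmR.ge.trans ?_
        rw [hT1, Ideal.map_bot]
        exact bot_le
      · let i₀ : Fin N := ⟨0, hN⟩
        have h1 : (maximalIdeal T).map (algebraMap T Cp) ≤
            (𝔫 ^ 2).comap ((TrivSqZeroExt.fstHom R' R' R').toRingHom.comp (Ψ i₀).toRingHom) := by
          rw [← AdicCompletion.maximalIdeal_eq_map,
            ← map_maximalIdeal_of_surjective θ.symm.toRingEquiv.toRingHom θ.symm.surjective,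
            ← map_maximalIdeal_of_surjective _ Ideal.Quotient.mk_surjective, PSLib.maximalIdeal_eq_vars,
            PSLib.vars, Ideal.map_map, Ideal.map_span, Ideal.span_le]
          rintro _ ⟨_, ⟨b, rfl⟩, rfl⟩
          exact hx2 i₀ b
        refine hmR.ge.trans (Ideal.map_le_iff_le_comap.2 fun t ht => ?_)
        have h2 := h1 (Ideal.mem_map_of_mem _ ht)
        show πT t ∈ 𝔫 ^ 2
        rw [← hΨfst i₀]
        exact h2
    exact Submodule.eq_bot_of_le_smul_of_le_jacobson_bot 𝔫 𝔫 hfg (by rwa [smul_eq_mul, ← sq])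
      (IsLocalRing.jacobson_eq_maximalIdeal (⊥ : Ideal R') bot_ne_top).ge
  -- descend
  have hy : (1 : K) ⊗ₜ[k] residue O o = (red ((1 : K) ⊗ₜ residue O o)) ⊗ₜ[k] (1 : ResidueField O) := by
    show _ = algebraMap K R' (red ((1 : K) ⊗ₜ residue O o))
    rw [← sub_eq_zero, ← Submodule.mem_bot R', ← hbot, ← hred, map_sub, AlgHom.commutes,
      Algebra.algebraMap_self, RingHom.id_apply, sub_self]
  set a := red ((1 : K) ⊗ₜ residue O o)
  obtain ⟨ρ, hρ⟩ := (Algebra.linearMap k K).exists_leftInverse_of_injective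
    (LinearMap.ker_eq_bot.2 (algebraMap k K).injective)
  have hρ1 : ρ 1 = 1 := by simpa using LinearMap.congr_fun hρ 1
  refine ⟨ρ a, ?_⟩
  have h1 := congrArg (fun w => TensorProduct.lid k (ResidueField O) (LinearMap.rTensor (ResidueField O) ρ w)) hy
  simp only [LinearMap.rTensor_tmul, TensorProduct.lid_tmul, hρ1, one_smul] at h1
  rw [← residue_eq_zero_iff, map_sub, h1, Algebra.smul_def, mul_one,
    IsScalarTower.algebraMap_apply k O (ResidueField O), IsLocalRing.ResidueField.algebraMap_eq, sub_self]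

end Groth.Agent.Morse46
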