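import Groth.Agent.Morse46.Critical

/-!
# The normal form `Q - b` of a non-degenerate equation
-/

set_option linter.style.haveILetI false
set_option linter.unusedSectionVars false

noncomputable section

namespace Groth.Agent.Morse46

open IsLocalRing MvPolynomial VanCyc Matrix Finsupp

universe u

variable {A : Type u} [CommRing A] [HenselianLocalRing A] {N : ℕ}
  {K : Type u} [Field K] [Algebra A K] [IsLocalHom (algebraMap A K)]

theorem mem_of_algebraMap_eq_zero {a : A} (h : algebraMap A K a = 0) : a ∈ maximalIdeal A := by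
  rw [mem_maximalIdeal, mem_nonunits_iff]
  exact fun hu => (hu.map (algebraMap A K)).ne_zero h

theorem isUnit_of_algebraMap_ne_zero {a : A} (h : algebraMap A K a ≠ 0) : IsUnit a :=
  isUnit_of_map_unit (algebraMap A K) a (isUnit_iff_ne_zero.2 h)

/-- The expansion of an element with known second order part. -/
theorem E_expansion {z : Pn A N} (c : A) (l : Fin N → A) (a : Matrix (Fin N) (Fin N) A)
    (h : z - (algebraMap A (Pn A N) c + ∑ i, algebraMap A (Pn A N) (l i) * x i +
      x ⬝ᵥ (a.map (algebraMap A (Pn A N)) *ᵥ x)) ∈ (Ideal.span (Set.range x) : Ideal (Pn A N)) ^ 3) :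
    MvPowerSeries.constantCoeff (E A K N z) = algebraMap A K c ∧
      (∀ i, MvPowerSeries.coeff (single i 1) (E A K N z) = algebraMap A K (l i)) ∧
      ∀ i j, i ≤ j → quadPart (E A K N z) i j = algebraMap A K (upper a i j) := by
  classical
  let α := algebraMap A K
  let p : MvPolynomial (Fin N) K := C (α c) + ∑ i, C (α (l i)) * X i
  let q : Fin N → Fin N → K := upper (a.map α)
  have hE : E A K N z - ((quadPoly q + p : MvPolynomial (Fin N) K) : MvPowerSeries (Fin N) K) ∈
      PSLib.vars N K ^ 3 := by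
    have h1 := E_map_pow_le (A := A) (K := K) 3 (Ideal.mem_map_of_mem _ h)
    convert h1 using 1
    rw [show (E A K N).toRingHom = (E A K N : Pn A N →+* MvPowerSeries (Fin N) K) from rfl, RingHom.coe_coe,
      map_sub]
    congr 1
    simp only [p, q, quadPoly_upper, dotProduct, Matrix.mulVec, Matrix.map_apply, map_add, map_sum, map_mul,
      AlgHom.commutes, E_x, Finset.mul_sum, ← MvPolynomial.coeToMvPowerSeries.ringHom_apply]
    simp only [MvPolynomial.coeToMvPowerSeries.ringHom_apply, MvPolynomial.coe_C, MvPolynomial.coe_X,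
      MvPowerSeries.algebraMap_apply, α]
    rw [add_comm]
    congr 1
    exact Finset.sum_congr rfl fun i _ => Finset.sum_congr rfl fun j _ => by ring
  refine ⟨?_, fun i => ?_, fun i j hij => ?_⟩
  · have h1 := PSLib.coeff_eq_zero_of_mem_pow 3 _ hE 0 (by simp)
    rw [map_sub, sub_eq_zero, MvPolynomial.coeff_coe, MvPowerSeries.coeff_zero_eq_constantCoeff_apply,
      MvPolynomial.coeff_add, PSQuad.coeff_quadPoly_eq_zero _ (by simp)] at h1
    rw [h1]
    simp [p, α, MvPolynomial.coeff_sum]
  · have h1 := PSLib.coeff_eq_zero_of_mem_pow 3 _ hE (single i 1) (by simp [degree_single])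
    rw [map_sub, sub_eq_zero, MvPolynomial.coeff_coe, MvPolynomial.coeff_add,
      PSQuad.coeff_quadPoly_eq_zero _ (by simp [degree_single])] at h1
    rw [h1]
    simp [p, α, MvPolynomial.coeff_sum, MvPolynomial.coeff_C, MvPolynomial.coeff_C_mul,
      MvPolynomial.coeff_X, Finsupp.single_left_inj one_ne_zero,
      (Finsupp.single_ne_zero.2 one_ne_zero).symm, eq_comm]
  · rw [quadPart_of_sub_mem (p := p) ?_ hE hij, ← upper_map]
    refine (totalDegree_add _ _).trans (max_le (by simp) ((totalDegree_finset_sum _ _).trans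
      (Finset.sup_le fun i _ => (totalDegree_mul _ _).trans (by simp))))

/-- The expansion of a constant plus a quadratic expression. -/
theorem E_expansion' {z : Pn A N} {c : A} {w : Matrix (Fin N) (Fin N) (Pn A N)}
    (hz : z = algebraMap A (Pn A N) c + x ⬝ᵥ (w *ᵥ x)) :
    MvPowerSeries.constantCoeff (E A K N z) = algebraMap A K c ∧
      (∀ i, MvPowerSeries.coeff (single i 1) (E A K N z) = 0) ∧
      ∀ i j, i ≤ j → quadPart (E A K N z) i j = algebraMap A K (upper (w.map (eval0 A N)) i j) := by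
  have h : z - (algebraMap A (Pn A N) c + ∑ i, algebraMap A (Pn A N) ((fun _ : Fin N => (0 : A)) i) * x i +
      x ⬝ᵥ ((w.map (eval0 A N)).map (algebraMap A (Pn A N)) *ᵥ x)) ∈
        (Ideal.span (Set.range x) : Ideal (Pn A N)) ^ 3 := by
    rw [hz]
    simp only [map_zero, zero_mul, Finset.sum_const_zero, add_zero, dotProduct, Matrix.mulVec,
      Matrix.map_apply, Finset.mul_sum, add_sub_add_left_eq_sub, ← Finset.sum_sub_distrib]
    refine Submodule.sum_mem _ fun i _ => Submodule.sum_mem _ fun j _ => ?_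
    rw [← mul_sub, ← sub_mul, pow_succ', sq]
    exact Ideal.mul_mem_mul (Ideal.subset_span ⟨i, rfl⟩)
      (Ideal.mul_mem_mul (sub_eval0_mem _) (Ideal.subset_span ⟨j, rfl⟩))
  obtain ⟨h1, h2, h3⟩ := E_expansion (K := K) c (fun _ => 0) (w.map (eval0 A N)) h
  exact ⟨h1, fun i => (h2 i).trans (map_zero _), h3⟩

/-- The expansion of a constant plus linear terms plus a quadratic expression. -/
theorem E_expansion'' {z : Pn A N} {c : A} {l : Fin N → A} {w : Matrix (Fin N) (Fin N) (Pn A N)}
    (hz : z = algebraMap A (Pn A N) c + ∑ i, algebraMap A (Pn A N) (l i) * x i + x ⬝ᵥ (w *ᵥ x)) :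
    MvPowerSeries.constantCoeff (E A K N z) = algebraMap A K c ∧
      (∀ i, MvPowerSeries.coeff (single i 1) (E A K N z) = algebraMap A K (l i)) ∧
      ∀ i j, i ≤ j → quadPart (E A K N z) i j = algebraMap A K (upper (w.map (eval0 A N)) i j) := by
  refine E_expansion (K := K) c l (w.map (eval0 A N)) ?_
  rw [hz]
  simp only [dotProduct, Matrix.mulVec, Matrix.map_apply, Finset.mul_sum, add_sub_add_left_eq_sub,
    ← Finset.sum_sub_distrib]
  refine Submodule.sum_mem _ fun i _ => Submodule.sum_mem _ fun j _ => ?_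
  rw [← mul_sub, ← sub_mul, pow_succ', sq]
  exact Ideal.mul_mem_mul (Ideal.subset_span ⟨i, rfl⟩)
    (Ideal.mul_mem_mul (sub_eval0_mem _) (Ideal.subset_span ⟨j, rfl⟩))

/-- Changes of coordinates congruent to the identity modulo `𝔪_A` preserve the expansion. -/
theorem E_comp_eq {tr : Pn A N →ₐ[A] Pn A N}
    (htr : ∀ i, ∃ t ∈ maximalIdeal A, tr (x i) = x i + algebraMap A (Pn A N) t) (z : Pn A N) :
    E A K N (tr z) = E A K N z := by
  have h : ∀ i, E A K N (tr (x i)) = MvPowerSeries.X i := fun i => by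
    obtain ⟨t, ht, htx⟩ := htr i
    rw [htx, map_add, E_x, AlgHom.commutes, IsScalarTower.algebraMap_apply A K (MvPowerSeries (Fin N) K),
      algebraMap_eq_zero_of_mem ht, map_zero, add_zero]
  exact congr($(algHom_ext (φ := (E A K N).comp tr) (ψ := E A K N)
    (fun i => (h i).trans (E_x i).symm) fun i => by
      rw [AlgHom.comp_apply, h]; exact X_mem_maximalIdeal i) z)

theorem ι_quot_le {F : MvPolynomial (Fin N) A} (hF : F ∈ originIdeal A) :
    Ideal.span {F} ≤ originIdeal A := (Ideal.span_singleton_le_iff_mem _).2 hF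

theorem exists_quotEquiv {F : MvPolynomial (Fin N) A} {z : Pn A N} (ψ : Pn A N →ₐ[A] Pn A N)
    (hψ : Function.Bijective ψ) (hF : ψ (ι F) = z) :
    Nonempty ((Pn A N ⧸ Ideal.span {z}) ≃ₐ[A] PQ (Ideal.span {F})) := by
  refine ⟨(Ideal.quotientEquivAlg ((Ideal.span {F}).map ι) (Ideal.span {z}) (AlgEquiv.ofBijective ψ hψ) ?_).symm⟩
  rw [Ideal.map_span, Ideal.map_span, Set.image_singleton, Set.image_singleton]
  exact (congrArg (fun w => Ideal.span {w}) hF).symm

/-- The normal form of a non-degenerate equation. -/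
theorem exists_normalForm_nondeg (z : Pn A N) (hlow : NoLowTerms (E A K N z))
    (hnd : QuadNondeg (quadPart (E A K N z))) :
    ∃ (a : Fin N → Fin N → A) (b : A), QuadNondeg a ∧ b ∈ maximalIdeal A ∧
      Nonempty ((Pn A N ⧸ Ideal.span {z}) ≃ₐ[A] PQ (Ideal.span {quadPoly a - C b})) := by
  obtain ⟨l, a, hz⟩ := exists_decomp z
  obtain ⟨-, hl, ha⟩ := E_expansion (K := K) _ l a hz
  have hl' : ∀ i, l i ∈ maximalIdeal A := fun i =>
    mem_of_algebraMap_eq_zero ((hl i).symm.trans (hlow.2 i))
  have ha' : IsUnit (a + aᵀ).det := by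
    refine isUnit_of_algebraMap_ne_zero (K := K) ?_
    unfold QuadNondeg at hnd
    rw [PSQuad.polarMatrix_congr (q' := fun i j => algebraMap A K (upper a i j)) ha, polarMatrix_map,
      polarMatrix_upper] at hnd
    rw [RingHom.map_det]
    exact hnd.ne_zero
  obtain ⟨tr, htr, htrx, c, w, hw⟩ := exists_translation z l hl' a ha' hz
  obtain ⟨hc, -, hw'⟩ := E_expansion' (K := K) hw
  rw [E_comp_eq htrx] at hc hw'
  have hcm : c ∈ maximalIdeal A := mem_of_algebraMap_eq_zero (hc.symm.trans hlow.1)
  have hq : QuadNondeg (upper (w.map (eval0 A N))) := by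
    refine isUnit_of_algebraMap_ne_zero (K := K) ?_
    unfold QuadNondeg at hnd
    rw [PSQuad.polarMatrix_congr (q' := fun i j => algebraMap A K (upper (w.map (eval0 A N)) i j)) hw',
      polarMatrix_map] at hnd
    rw [RingHom.map_det]
    exact hnd.ne_zero
  obtain ⟨φ, hφ, hφz⟩ := exists_table_normal c w (upper (w.map (eval0 A N))) (fun i j _ => by
    rw [show upper (w.map (eval0 A N)) i j = eval0 A N (upper w i j) from
      upper_map (eval0 A N).toRingHom w i j]
    exact span_x_le (sub_eval0_mem _)) hq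
  refine ⟨_, -c, hq, neg_mem hcm, exists_quotEquiv ((AlgEquiv.ofBijective tr htr).symm.toAlgHom.comp φ)
    ((AlgEquiv.ofBijective tr htr).symm.bijective.comp hφ) ?_⟩
  rw [map_neg, sub_neg_eq_add]
  show (AlgEquiv.ofBijective tr htr).symm (φ _) = z
  rw [hφz, ← hw, AlgEquiv.symm_apply_eq]
  rfl

end Groth.Agent.Morse46
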