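import Groth.Agent.Morse46.Geometric
import Groth.Agent.Morse46.Normal

/-!
# From the fibre of a localization to the input of the extraction
-/

set_option linter.style.haveILetI false
set_option linter.unusedSectionVars false

noncomputable section

namespace Groth.Agent.Morse46

open IsLocalRing MvPolynomial VanCyc

open scoped TensorProduct

universe u

/-- The completed local rings of `K ⊗ O` are power series rings modulo an equation satisfying `P`. -/
def GeomCond (k : Type u) [Field k] {K : Type u} [Field K] [Algebra k K] (O : Type u) [CommRing O] [Algebra k O]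
    {N : ℕ} (P : MvPowerSeries (Fin N) K → Prop) : Prop :=
  ∀ (M : Ideal (K ⊗[k] O)) [M.IsMaximal], ∃ f, P f ∧
    Nonempty (AdicCompletion (maximalIdeal (Localization.AtPrime M)) (Localization.AtPrime M) ≃ₐ[K]
      (MvPowerSeries (Fin N) K ⧸ Ideal.span {f}))

variable {A : Type u} [CommRing A] [HenselianLocalRing A] {B₀ : Type u} [CommRing B₀] [Algebra A B₀]
  [Algebra.FiniteType A B₀] (Q : Ideal B₀) [Q.IsPrime]
  (hQA : (maximalIdeal A).map (algebraMap A B₀) ≤ Q)


/-- The algebra structure of the closed fibre over the residue field. -/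
instance algebraFib : Algebra (ResidueField A) (fibQuot A (Localization.AtPrime Q)) := (fibHom A (Localization.AtPrime Q)).toAlgebra

instance isScalarTower_fib : IsScalarTower A (ResidueField A) (fibQuot A (Localization.AtPrime Q)) := .of_algebraMap_eq fun _ => rfl

instance essFiniteType_fib : Algebra.EssFiniteType (ResidueField A) (fibQuot A (Localization.AtPrime Q)) :=
  haveI : Algebra.EssFiniteType A (Localization.AtPrime Q) :=
    haveI : Algebra.EssFiniteType B₀ (Localization.AtPrime Q) :=
      Algebra.EssFiniteType.of_isLocalization _ Q.primeCompl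
    Algebra.EssFiniteType.comp A B₀ (Localization.AtPrime Q)
  haveI : Algebra.EssFiniteType A (fibQuot A (Localization.AtPrime Q)) := Algebra.EssFiniteType.comp A (Localization.AtPrime Q) (fibQuot A (Localization.AtPrime Q))
  Algebra.EssFiniteType.of_comp A (ResidueField A) (fibQuot A (Localization.AtPrime Q))

include hQA

theorem map_le_maximalIdeal_loc :
    (maximalIdeal A).map (algebraMap A (Localization.AtPrime Q)) ≤ maximalIdeal (Localization.AtPrime Q) := by
  rw [IsScalarTower.algebraMap_eq A B₀ (Localization.AtPrime Q), ← Ideal.map_map]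
  exact (Ideal.map_mono hQA).trans Localization.AtPrime.map_eq_maximalIdeal.le

theorem isLocalRing_fib : IsLocalRing (fibQuot A (Localization.AtPrime Q)) :=
  isLocalRing_quot fun h =>
    (maximalIdeal.isMaximal (Localization.AtPrime Q)).ne_top (top_le_iff.1 (h ▸ map_le_maximalIdeal_loc Q hQA))

omit hQA in
theorem mk_mem_maximalIdeal_iff [IsLocalRing (fibQuot A (Localization.AtPrime Q))] (b : B₀) :
    Ideal.Quotient.mk _ (algebraMap B₀ (Localization.AtPrime Q) b) ∈ maximalIdeal (fibQuot A (Localization.AtPrime Q)) ↔ b ∈ Q := by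
  haveI : IsLocalHom (Ideal.Quotient.mk ((maximalIdeal A).map (algebraMap A (Localization.AtPrime Q)))) :=
    Ideal.Quotient.mk_surjective.isLocalHom _
  rw [mem_maximalIdeal, mem_nonunits_iff, isUnit_map_iff, ← mem_nonunits_iff, ← mem_maximalIdeal,
    IsLocalization.AtPrime.to_map_mem_maximal_iff (Localization.AtPrime Q) Q]

omit hQA in
/-- Residues of fractions. -/
theorem exists_pow_sub_mem [IsLocalRing (fibQuot A (Localization.AtPrime Q))] (q : ℕ) [ExpChar (ResidueField A) q]
    (hPi : ∀ b : B₀, ∃ (e : ℕ) (c : A), b ^ q ^ e - algebraMap A B₀ c ∈ Q) (o : (fibQuot A (Localization.AtPrime Q))) :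
    ∃ (e : ℕ) (c : (ResidueField A)), o ^ q ^ e - algebraMap (ResidueField A) (fibQuot A (Localization.AtPrime Q)) c ∈ maximalIdeal (fibQuot A (Localization.AtPrime Q)) := by
  obtain ⟨l, rfl⟩ := Ideal.Quotient.mk_surjective o
  obtain ⟨⟨b, s⟩, hbs⟩ := IsLocalization.surj Q.primeCompl l
  set π : B₀ →+* ResidueField (fibQuot A (Localization.AtPrime Q)) := (residue (fibQuot A (Localization.AtPrime Q))).comp ((Ideal.Quotient.mk _).comp (algebraMap B₀ (Localization.AtPrime Q)))
  set j : (ResidueField A) →+* ResidueField (fibQuot A (Localization.AtPrime Q)) := (residue (fibQuot A (Localization.AtPrime Q))).comp (algebraMap (ResidueField A) (fibQuot A (Localization.AtPrime Q)))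
  have key : ∀ b : B₀, ∃ (e : ℕ) (c : (ResidueField A)), π b ^ q ^ e = j c := fun b => by
    obtain ⟨e, c, hc⟩ := hPi b
    refine ⟨e, residue A c, ?_⟩
    rw [← mk_mem_maximalIdeal_iff (A := A), ← residue_eq_zero_iff, map_sub, map_sub, map_sub, sub_eq_zero,
      map_pow, map_pow, map_pow] at hc
    exact hc.trans (congrArg _ (by rw [← IsScalarTower.algebraMap_apply]; rfl))
  obtain ⟨e₁, c₁, h₁⟩ := key b
  obtain ⟨e₂, c₂, h₂⟩ := key s
  have hs0 : π s ≠ 0 := by
    show residue (fibQuot A (Localization.AtPrime Q)) _ ≠ 0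
    rw [ne_eq, residue_eq_zero_iff]
    exact fun h => s.2 ((mk_mem_maximalIdeal_iff (A := A) Q _).1 h)
  refine ⟨e₁ + e₂, c₁ ^ q ^ e₂ / c₂ ^ q ^ e₁, ?_⟩
  rw [← residue_eq_zero_iff, map_sub, sub_eq_zero, map_pow]
  show _ = j _
  rw [map_div₀, map_pow, map_pow, ← h₁, ← h₂, ← pow_mul, ← pow_mul, ← pow_add, ← pow_add, add_comm e₂ e₁,
    ← div_pow]
  congr 1
  rw [eq_div_iff hs0]
  show residue (fibQuot A (Localization.AtPrime Q)) _ * residue (fibQuot A (Localization.AtPrime Q)) _ = residue (fibQuot A (Localization.AtPrime Q)) _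
  rw [← map_mul, RingHom.comp_apply, RingHom.comp_apply, ← map_mul, hbs]

omit hQA in
theorem exists_sub_mem_fib [IsLocalRing (fibQuot A (Localization.AtPrime Q))] (hres : ∀ b : B₀, ∃ c : A, b - algebraMap A B₀ c ∈ Q) (o : (fibQuot A (Localization.AtPrime Q))) :
    ∃ c : (ResidueField A), o - algebraMap (ResidueField A) (fibQuot A (Localization.AtPrime Q)) c ∈ maximalIdeal (fibQuot A (Localization.AtPrime Q)) := by
  obtain ⟨l, rfl⟩ := Ideal.Quotient.mk_surjective o
  obtain ⟨⟨b, s⟩, hbs⟩ := IsLocalization.surj Q.primeCompl l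
  set π : B₀ →+* ResidueField (fibQuot A (Localization.AtPrime Q)) := (residue (fibQuot A (Localization.AtPrime Q))).comp ((Ideal.Quotient.mk _).comp (algebraMap B₀ (Localization.AtPrime Q)))
  set j : (ResidueField A) →+* ResidueField (fibQuot A (Localization.AtPrime Q)) := (residue (fibQuot A (Localization.AtPrime Q))).comp (algebraMap (ResidueField A) (fibQuot A (Localization.AtPrime Q)))
  have key : ∀ b : B₀, ∃ c : (ResidueField A), π b = j c := fun b => by
    obtain ⟨c, hc⟩ := hres b
    refine ⟨residue A c, ?_⟩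
    rw [← mk_mem_maximalIdeal_iff (A := A), ← residue_eq_zero_iff, map_sub, map_sub, map_sub, sub_eq_zero] at hc
    exact hc.trans (congrArg _ (by rw [← IsScalarTower.algebraMap_apply]; rfl))
  obtain ⟨c₁, h₁⟩ := key b
  obtain ⟨c₂, h₂⟩ := key s
  have hs0 : π s ≠ 0 := by
    show residue (fibQuot A (Localization.AtPrime Q)) _ ≠ 0
    rw [ne_eq, residue_eq_zero_iff]
    exact fun h => s.2 ((mk_mem_maximalIdeal_iff (A := A) Q _).1 h)
  refine ⟨c₁ / c₂, ?_⟩
  rw [← residue_eq_zero_iff, map_sub, sub_eq_zero]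
  show _ = j _
  rw [map_div₀, ← h₁, ← h₂, eq_div_iff hs0]
  show residue (fibQuot A (Localization.AtPrime Q)) _ * residue (fibQuot A (Localization.AtPrime Q)) _ = residue (fibQuot A (Localization.AtPrime Q)) _
  rw [← map_mul, RingHom.comp_apply, RingHom.comp_apply, ← map_mul, hbs]

variable {K : Type u} [Field K] [Algebra (ResidueField A) K] [Algebra A K] [IsScalarTower A (ResidueField A) K]

omit hQA in
theorem isLocalHom_algebraMap_residue_ext : IsLocalHom (algebraMap A K) := by
  rw [IsScalarTower.algebraMap_eq A (ResidueField A) K]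
  haveI : IsLocalHom (algebraMap A (ResidueField A)) := residue_surjective.isLocalHom _
  exact RingHom.isLocalHom_comp _ _

/-- The data of the completed geometric fibre, on `B₀`. -/
theorem exists_input (hres : ∀ b : B₀, ∃ c : A, b - algebraMap A B₀ c ∈ Q) {N : ℕ}
    (P : MvPowerSeries (Fin N) K → Prop) (hP : ∀ f, P f → f ∈ PSLib.vars N K)
    (h : GeomCond (ResidueField A) (fibQuot A (Localization.AtPrime Q)) P) :
    ∃ f, P f ∧ ∃ η : B₀ →ₐ[A] MvPowerSeries (Fin N) K ⧸ Ideal.span {f},
      Q.map η.toRingHom = (PSLib.vars N K).map (Ideal.Quotient.mk (Ideal.span {f})) ∧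
      ∀ (Z : Type u) [CommRing Z] [IsLocalRing Z] [Algebra A Z] [Algebra K Z] [IsScalarTower A K Z]
        [IsAdicComplete (maximalIdeal Z) Z] (χ : B₀ →ₐ[A] Z), (∀ b ∈ Q, χ b ∈ maximalIdeal Z) →
        ∃ ξ : MvPowerSeries (Fin N) K →ₐ[K] Z, (∀ i, ξ (MvPowerSeries.X i) ∈ maximalIdeal Z) ∧ ξ f = 0 ∧
          ∀ b p, η b = Ideal.Quotient.mk _ p → χ b = ξ p := by
  haveI := isLocalRing_fib Q hQA
  haveI := isLocalHom_algebraMap_residue_ext (A := A) (K := K)
  obtain ⟨f, hPf, η, hηk, hηm, huniv⟩ :=
    exists_fibre_data (k := ResidueField A) (K := K) (fibQuot A (Localization.AtPrime Q)) (exists_sub_mem_fib Q hres) P hP h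
  let j : B₀ →+* (fibQuot A (Localization.AtPrime Q)) := (Ideal.Quotient.mk _).comp (algebraMap B₀ (Localization.AtPrime Q))
  have hjA : ∀ a, j (algebraMap A B₀ a) = algebraMap (ResidueField A) (fibQuot A (Localization.AtPrime Q)) (residue A a) := fun a => by
    show Ideal.Quotient.mk _ _ = _
    rw [← IsScalarTower.algebraMap_apply]
    rfl
  let η₀ : B₀ →ₐ[A] MvPowerSeries (Fin N) K ⧸ Ideal.span {f} :=
    { η.comp j with
      commutes' := fun a => by
        show η (j (algebraMap A B₀ a)) = _
        rw [hjA, hηk, ← IsLocalRing.ResidueField.algebraMap_eq, ← IsScalarTower.algebraMap_apply,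
          ← IsScalarTower.algebraMap_apply] }
  refine ⟨f, hPf, η₀, ?_, ?_⟩
  · show Q.map (η.comp j) = _
    rw [← Ideal.map_map, ← hηm]
    congr 1
    show Q.map ((Ideal.Quotient.mk _).comp (algebraMap B₀ (Localization.AtPrime Q))) = _
    rw [← Ideal.map_map, Localization.AtPrime.map_eq_maximalIdeal]
    exact map_maximalIdeal_of_surjective _ Ideal.Quotient.mk_surjective
  · intro Z _ _ _ _ _ _ χ hχ
    let χL : Localization.AtPrime Q →+* Z := IsLocalization.lift (g := χ.toRingHom)
      fun s : Q.primeCompl => isUnit_of_residue Q hQA hres χ hχ s.2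
    have hχL : ∀ b, χL (algebraMap B₀ _ b) = χ b := fun b => IsLocalization.lift_eq _ b
    have hker : (maximalIdeal A).map (algebraMap A (Localization.AtPrime Q)) ≤ RingHom.ker χL :=
      Ideal.map_le_iff_le_comap.2 fun a ha => by
        show χL (algebraMap A _ a) = 0
        rw [IsScalarTower.algebraMap_apply A B₀ (Localization.AtPrime Q), hχL, χ.commutes,
          IsScalarTower.algebraMap_apply A K Z, algebraMap_eq_zero_of_mem ha, map_zero]
    let χO : (fibQuot A (Localization.AtPrime Q)) →+* Z := Ideal.Quotient.lift _ χL fun z hz => hker hz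
    have hχj : ∀ b, χO (j b) = χ b := hχL
    have hχk : ∀ c, χO (algebraMap (ResidueField A) (fibQuot A (Localization.AtPrime Q)) c) = algebraMap K Z (algebraMap (ResidueField A) K c) := fun c => by
      obtain ⟨a, rfl⟩ := residue_surjective c
      rw [← hjA, hχj, χ.commutes, IsScalarTower.algebraMap_apply A K Z, IsScalarTower.algebraMap_apply A (ResidueField A) K]
      rfl
    have hχm : (maximalIdeal (fibQuot A (Localization.AtPrime Q))).map χO ≤ maximalIdeal Z := by
      rw [← map_maximalIdeal_of_surjective (Ideal.Quotient.mk ((maximalIdeal A).map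
          (algebraMap A (Localization.AtPrime Q)))) Ideal.Quotient.mk_surjective, Ideal.map_map,
        ← Localization.AtPrime.map_eq_maximalIdeal, Ideal.map_map, Ideal.map_le_iff_le_comap]
      intro b hb
      show χO (j b) ∈ maximalIdeal Z
      rw [hχj]
      exact hχ b hb
    obtain ⟨ξ, hξm, hξf, hξ⟩ := huniv Z χO hχk fun o ho => hχm (Ideal.mem_map_of_mem _ ho)
    exact ⟨ξ, hξm, hξf, fun b p hbp => (hχj b).symm.trans (hξ (j b) p hbp)⟩

omit hQA in
theorem quadPoly_mem_originIdeal {N : ℕ} (a : Fin N → Fin N → A) :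
    quadPoly a ∈ (originIdeal A : Ideal (MvPolynomial (Fin N) A)) := by
  refine Submodule.sum_mem _ fun i _ => Submodule.sum_mem _ fun j _ => ?_
  split
  · exact Ideal.mul_mem_left _ _ (Ideal.mem_sup_right (Ideal.subset_span ⟨j, rfl⟩))
  · exact zero_mem _

end Groth.Agent.Morse46
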