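import Groth.Agent.Morse46.Quad
import Mathlib.GroupTheory.Perm.Cycle.Type

/-!
# Polar forms in characteristic two and odd size are degenerate
-/

noncomputable section

namespace Groth.Agent.Morse46

open Matrix VanCyc

theorem det_polarMatrix_eq_zero {K : Type*} [Field K] (h2 : (2 : K) = 0) {N : ℕ} (hN : Odd N)
    (q : Fin N → Fin N → K) : (polarMatrix q).det = 0 := by
  classical
  set H := polarMatrix q
  have hsym : ∀ i j, H i j = H j i := fun i j => by
    simp only [H, polarMatrix]
    split_ifs <;> first | rfl | (subst_vars; rfl) | omega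
  have hdiag : ∀ i, H i i = 0 := fun i => by simp [H, polarMatrix, h2]
  rw [Matrix.det_apply]
  refine Finset.sum_involution (fun σ _ => σ⁻¹) (fun σ _ => ?_) (fun σ _ hne hσ => ?_)
    (fun σ _ => Finset.mem_univ _) (fun σ _ => inv_inv σ)
  · have hp : ∏ i, H (σ⁻¹ i) i = ∏ i, H (σ i) i := by
      rw [← Equiv.prod_comp σ (fun i => H (σ⁻¹ i) i)]
      refine Finset.prod_congr rfl fun i _ => ?_
      rw [hsym]
      simp
    rw [Equiv.Perm.sign_inv, hp, ← two_mul, h2, zero_mul]
  · refine hne ?_
    haveI : Fact (Nat.Prime 2) := ⟨Nat.prime_two⟩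
    have h1 : σ ^ 2 ^ 1 = 1 := by
      rw [pow_one, sq]
      conv_lhs => arg 1; rw [← hσ]
      exact inv_mul_cancel σ
    obtain ⟨i, hi⟩ := Equiv.Perm.exists_fixed_point_of_prime (p := 2) (n := 1)
      (by rw [Fintype.card_fin]; exact hN.not_two_dvd_nat) h1
    rw [Finset.prod_eq_zero (Finset.mem_univ i) (by rw [hi, hdiag]), smul_zero]

end Groth.Agent.Morse46
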