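import Groth.Agent.Morse46.Geometric

/-!
# Coordinates from a completion

A presentation of the completion of a local algebra as a power series ring modulo one equation,
as data usable for the extraction of an equation.
-/

set_option linter.style.haveILetI false
set_option linter.unusedSectionVars false

noncomputable section

namespace Groth.Agent.Morse46

open IsLocalRing VanCyc

universe u

variable {k : Type u} [Field k] (O : Type u) [CommRing O] [IsLocalRing O] [IsNoetherianRing O] [Algebra k O]

theorem exists_data_of_completion {N : ℕ} (f : MvPowerSeries (Fin N) k)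
    (θ : AdicCompletion (maximalIdeal O) O ≃ₐ[k] (MvPowerSeries (Fin N) k ⧸ Ideal.span {f})) :
    ∃ η : O →ₐ[k] MvPowerSeries (Fin N) k ⧸ Ideal.span {f},
      (maximalIdeal O).map η.toRingHom = (PSLib.vars N k).map (Ideal.Quotient.mk (Ideal.span {f})) ∧
      ∀ (Z : Type u) [CommRing Z] [IsLocalRing Z] [Algebra k Z] [IsAdicComplete (maximalIdeal Z) Z]
        (χ : O →ₐ[k] Z), (∀ o ∈ maximalIdeal O, χ o ∈ maximalIdeal Z) →
        ∃ ξ : MvPowerSeries (Fin N) k →ₐ[k] Z, (∀ i, ξ (MvPowerSeries.X i) ∈ maximalIdeal Z) ∧ ξ f = 0 ∧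
          ∀ o p, η o = Ideal.Quotient.mk _ p → χ o = ξ p := by
  set Cp := AdicCompletion (maximalIdeal O) O
  haveI : Nontrivial (MvPowerSeries (Fin N) k ⧸ Ideal.span {f}) := θ.toRingEquiv.symm.toRingHom.domain_nontrivial
  haveI : IsLocalRing (MvPowerSeries (Fin N) k ⧸ Ideal.span {f}) :=
    IsLocalRing.of_surjective' (Ideal.Quotient.mk _) Ideal.Quotient.mk_surjective
  let η : O →ₐ[k] MvPowerSeries (Fin N) k ⧸ Ideal.span {f} := θ.toAlgHom.comp (IsScalarTower.toAlgHom k O Cp)
  refine ⟨η, ?_, ?_⟩
  · rw [show η.toRingHom = θ.toRingEquiv.toRingHom.comp (algebraMap O Cp) from rfl,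
      map_maximalIdeal_completion O θ.toRingEquiv, ← PSLib.maximalIdeal_eq_vars]
    exact (map_maximalIdeal_of_surjective _ Ideal.Quotient.mk_surjective).symm
  · intro Z _ _ _ _ χ hχ
    have hχm : (maximalIdeal O).map χ.toRingHom ≤ maximalIdeal Z := Ideal.map_le_iff_le_comap.2 hχ
    obtain ⟨F, hF⟩ := Adic7.exists_lift_completion (R := k) (maximalIdeal O) (maximalIdeal Z) χ hχm
    let ξ : MvPowerSeries (Fin N) k →ₐ[k] Z := (F.comp θ.symm.toAlgHom).comp (Ideal.Quotient.mkₐ k (Ideal.span {f}))
    refine ⟨ξ, fun i => ?_, ?_, fun o p hop => ?_⟩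
    · have h1 : θ.symm (Ideal.Quotient.mk (Ideal.span {f}) (MvPowerSeries.X i)) ∈
          (maximalIdeal O).map (algebraMap O Cp) := by
        rw [← AdicCompletion.maximalIdeal_eq_map,
          ← map_maximalIdeal_of_surjective θ.symm.toRingEquiv.toRingHom θ.symm.surjective,
          ← map_maximalIdeal_of_surjective _ Ideal.Quotient.mk_surjective]
        exact Ideal.mem_map_of_mem _ (Ideal.mem_map_of_mem _ (X_mem_maximalIdeal i))
      have h2 := Ideal.mem_map_of_mem F.toRingHom h1
      rw [Ideal.map_map] at h2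
      exact hχm ((show (maximalIdeal O).map (F.toRingHom.comp (algebraMap O Cp)) =
        (maximalIdeal O).map χ.toRingHom by
          rw [show F.toRingHom.comp (algebraMap O Cp) = χ.toRingHom from RingHom.ext hF]).le h2)
    · show F (θ.symm (Ideal.Quotient.mk _ f)) = 0
      rw [Ideal.Quotient.eq_zero_iff_mem.2 (Ideal.mem_span_singleton_self f), map_zero, map_zero]
    · show χ o = F (θ.symm (Ideal.Quotient.mk _ p))
      rw [← hop]
      show χ o = F (θ.symm (θ (algebraMap O Cp o)))
      rw [θ.symm_apply_apply, hF]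

end Groth.Agent.Morse46
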