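import Groth.Agent.Hensel.Henselization
import Groth.Agent.Hensel.HenselizationProps
import Groth.Agent.Hensel.HenselizationDescent
import Groth.Prelude.Def_QuadSing
import Mathlib.RingTheory.MvPolynomial.Ideal

/-!
# The henselization of affine space at the origin

`Pn A N` is the henselization of `A[X₁, …, X_N]` at `(𝔪_A, X₁, …, X_N)`, for a local ring `A`.
-/

set_option linter.style.haveILetI false
set_option linter.unusedSectionVars false

noncomputable section

namespace Groth.Agent.Morse46

open IsLocalRing MvPolynomial VanCyc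

universe u

variable (A : Type u) [CommRing A] [IsLocalRing A] (N : ℕ)

/-- The residue at the origin. -/
def originRes : MvPolynomial (Fin N) A →+* ResidueField A :=
  eval₂Hom (residue A) 0

theorem originRes_surjective : Function.Surjective (originRes A N) := fun x => by
  obtain ⟨a, rfl⟩ := residue_surjective x
  exact ⟨C a, eval₂Hom_C _ _ a⟩

theorem ker_originRes : RingHom.ker (originRes A N) = originIdeal A := by
  refine le_antisymm (fun p hp => ?_) (sup_le (Ideal.map_le_iff_le_comap.2 fun a ha => ?_) ?_)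
  · have hp' : constantCoeff p ∈ maximalIdeal A := by
      rw [← IsLocalRing.residue_eq_zero_iff]
      rw [RingHom.mem_ker, originRes, coe_eval₂Hom, eval₂_eq'] at hp
      rw [constantCoeff_eq]
      by_cases h0 : (0 : Fin N →₀ ℕ) ∈ p.support
      · rw [Finset.sum_eq_single 0 (fun d _ hd => ?_) (fun h => absurd h0 h)] at hp
        · simpa using hp
        · obtain ⟨i, hi⟩ : ∃ i, d i ≠ 0 := by
            by_contra h; push Not at h; exact hd (Finsupp.ext h)
          exact mul_eq_zero_of_right _ (Finset.prod_eq_zero (Finset.mem_univ i) (zero_pow hi))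
      · rw [MvPolynomial.notMem_support_iff.1 h0, map_zero]
    rw [show p = C (constantCoeff p) + (p - C (constantCoeff p)) by ring]
    refine Submodule.add_mem_sup (Ideal.mem_map_of_mem _ hp') ?_
    rw [← idealOfVars, ← pow_one (idealOfVars _ _), mem_pow_idealOfVars_iff']
    intro x hx
    rw [Nat.lt_one_iff] at hx
    rw [(Finsupp.degree_eq_zero_iff x).1 hx, coeff_sub, coeff_C, if_pos rfl, ← constantCoeff_eq,
      sub_self]
  · show originRes A N (C a) = 0
    rw [originRes, eval₂Hom_C, IsLocalRing.residue_eq_zero_iff]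
    exact ha
  · rw [Ideal.span_le]
    rintro _ ⟨i, rfl⟩
    show originRes A N (X i) = 0
    rw [originRes, eval₂Hom_X']
    rfl

instance originIdeal_isMaximal : (originIdeal A : Ideal (MvPolynomial (Fin N) A)).IsMaximal := by
  rw [← ker_originRes]
  exact RingHom.ker_isMaximal_of_surjective _ (originRes_surjective A N)

/-- The local ring of affine space at the origin. -/
abbrev Loc : Type u := Localization.AtPrime (originIdeal A : Ideal (MvPolynomial (Fin N) A))

/-- The henselization of affine space at the origin. -/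
abbrev Pn : Type u := Hensel.LocalHenz (Loc A N)

variable {A N}

theorem mem_origin {p : MvPolynomial (Fin N) A} :
    p ∈ (originIdeal A : Ideal (MvPolynomial (Fin N) A)) ↔ originRes A N p = 0 := by
  simp only [← ker_originRes, RingHom.mem_ker]

theorem exists_sub_C_mem (p : MvPolynomial (Fin N) A) :
    ∃ c : A, p - C c ∈ (originIdeal A : Ideal (MvPolynomial (Fin N) A)) := by
  obtain ⟨c, hc⟩ := residue_surjective (originRes A N p)
  refine ⟨c, mem_origin.2 ?_⟩
  rw [map_sub, sub_eq_zero, ← hc]
  exact (eval₂Hom_C _ _ _).symm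

theorem origin_le_iff {S : Type*} [CommRing S] (e : MvPolynomial (Fin N) A →+* S) (J : Ideal S) :
    (originIdeal A).map e ≤ J ↔ (∀ a ∈ maximalIdeal A, e (C a) ∈ J) ∧ ∀ i, e (X i) ∈ J := by
  rw [originIdeal, Ideal.map_sup, sup_le_iff, Ideal.map_map, Ideal.map_le_iff_le_comap, Ideal.map_span,
    Ideal.span_le, ← Set.range_comp, Set.range_subset_iff]
  rfl

/-- The structure map from polynomials. -/
def ι : MvPolynomial (Fin N) A →+* Pn A N :=
  (algebraMap (Loc A N) (Pn A N)).comp (algebraMap (MvPolynomial (Fin N) A) (Loc A N))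

instance algebraPn : Algebra A (Pn A N) := ((ι (A := A) (N := N)).comp C).toAlgebra

/-- The coordinates. -/
def x (i : Fin N) : Pn A N := ι (X i)

theorem algebraMap_eq (a : A) : algebraMap A (Pn A N) a = ι (C a) := rfl

/-- `ι` as an algebra map. -/
def ιₐ : MvPolynomial (Fin N) A →ₐ[A] Pn A N :=
  { ι with commutes' := fun _ => rfl }

theorem ιₐ_eq_aeval : (ιₐ : MvPolynomial (Fin N) A →ₐ[A] Pn A N) = aeval x :=
  MvPolynomial.algHom_ext fun i => by rw [aeval_X]; rfl

theorem ι_eq_aeval (p : MvPolynomial (Fin N) A) : ι p = aeval (x (A := A)) p :=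
  AlgHom.congr_fun ιₐ_eq_aeval p

theorem maximalIdeal_eq : maximalIdeal (Pn A N) =
    (maximalIdeal A).map (algebraMap A (Pn A N)) ⊔ Ideal.span (Set.range x) := by
  rw [← Hensel.map_maximalIdeal_of_isHenselization (Loc A N) (Pn A N),
    ← Localization.AtPrime.map_eq_maximalIdeal, Ideal.map_map]
  show (originIdeal A).map ι = _
  unfold VanCyc.originIdeal
  rw [Ideal.map_sup, Ideal.map_map, Ideal.map_span, ← Set.range_comp]
  rfl

theorem map_le_maximalIdeal : (maximalIdeal A).map (algebraMap A (Pn A N)) ≤ maximalIdeal (Pn A N) := by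
  rw [maximalIdeal_eq]; exact le_sup_left

instance isLocalHom_algebraMap : IsLocalHom (algebraMap A (Pn A N)) :=
  ((local_hom_TFAE (algebraMap A (Pn A N))).out 2 0).1 map_le_maximalIdeal

theorem x_mem (i : Fin N) : (x i : Pn A N) ∈ maximalIdeal (Pn A N) := by
  rw [maximalIdeal_eq]; exact Ideal.mem_sup_right (Ideal.subset_span ⟨i, rfl⟩)

theorem exists_sub_mem (g : Pn A N) : ∃ a : A, g - algebraMap A (Pn A N) a ∈ maximalIdeal (Pn A N) := by
  obtain ⟨l, hl⟩ := Hensel.exists_sub_mem_of_isHenselization (Loc A N) (Pn A N) g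
  rw [Hensel.map_maximalIdeal_of_isHenselization] at hl
  obtain ⟨⟨p, s⟩, hps⟩ := IsLocalization.surj (originIdeal A : Ideal (MvPolynomial (Fin N) A)).primeCompl l
  -- residues of `p` and `s`
  obtain ⟨cp, hcp⟩ := exists_sub_C_mem (A := A) p
  obtain ⟨cs, hcs⟩ := exists_sub_C_mem (A := A) (s : MvPolynomial (Fin N) A)
  have hcsu : IsUnit cs := by
    rw [← IsLocalRing.notMem_maximalIdeal]
    intro h
    refine s.2 ?_
    rw [show ((s : MvPolynomial (Fin N) A)) = ((s : MvPolynomial (Fin N) A) - C cs) + C cs by ring]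
    exact add_mem hcs (Ideal.mem_sup_left (Ideal.mem_map_of_mem _ h))
  obtain ⟨w, hw⟩ := hcsu.exists_right_inv
  refine ⟨cp * w, ?_⟩
  have hm : ∀ q ∈ (originIdeal A : Ideal (MvPolynomial (Fin N) A)), (ι q : Pn A N) ∈ maximalIdeal (Pn A N) :=
    fun q hq => by
      have h1 : algebraMap _ (Loc A N) q ∈ maximalIdeal (Loc A N) := by
        rw [← Localization.AtPrime.map_eq_maximalIdeal]
        exact Ideal.mem_map_of_mem _ hq
      exact map_nonunit (algebraMap (Loc A N) (Pn A N)) _ h1
  have hp' : algebraMap (Loc A N) (Pn A N) l * (ι (s : MvPolynomial (Fin N) A) : Pn A N) = ι p :=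
    ((map_mul (algebraMap (Loc A N) (Pn A N)) _ _).symm.trans (congrArg _ hps))
  rw [show g - algebraMap A (Pn A N) (cp * w) = (g - algebraMap (Loc A N) (Pn A N) l) +
      (ι (p - C cp) * ι (C w) - algebraMap (Loc A N) (Pn A N) l *
        (ι ((s : MvPolynomial (Fin N) A) - C cs) * ι (C w))) by
    have hwι : ι (C cs) * ι (C w) = (1 : Pn A N) := by rw [← map_mul, ← map_mul, hw, map_one, map_one]
    rw [map_mul, algebraMap_eq, algebraMap_eq, map_sub, map_sub]
    linear_combination (-(algebraMap (Loc A N) (Pn A N) l)) * hwι + ι (C w) * hp']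
  exact add_mem hl (sub_mem (Ideal.mul_mem_right _ _ (hm _ hcp))
    (Ideal.mul_mem_left _ _ (Ideal.mul_mem_right _ _ (hm _ hcs))))

variable {T : Type u} [CommRing T] [HenselianLocalRing T] [Algebra A T] [IsLocalHom (algebraMap A T)]

/-- **Universal property**: existence. -/
theorem exists_algHom (t : Fin N → T) (ht : ∀ i, t i ∈ maximalIdeal T) :
    ∃ φ : Pn A N →ₐ[A] T, ∀ i, φ (x i) = t i := by
  let e : MvPolynomial (Fin N) A →+* T := (aeval t).toRingHom
  have hle' : (originIdeal A).map e ≤ maximalIdeal T := (origin_le_iff e _).2 ⟨fun a ha => by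
    rw [show e (C a) = algebraMap A T a from aeval_C t a]
    exact map_nonunit _ a ha, fun i => by
    rw [show e (X i) = t i from aeval_X t i]
    exact ht i⟩
  have heq : (maximalIdeal T).comap e = originIdeal A :=
    ((originIdeal_isMaximal A N).eq_of_le (Ideal.comap_ne_top e (maximalIdeal.isMaximal T).ne_top)
      (Ideal.map_le_iff_le_comap.1 hle')).symm
  have hu : ∀ s : (originIdeal A : Ideal (MvPolynomial (Fin N) A)).primeCompl, IsUnit (e s) := fun s => by
    rw [← IsLocalRing.notMem_maximalIdeal]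
    exact fun h => s.2 (heq.le h)
  let fL : Loc A N →+* T := IsLocalization.lift hu
  have : IsLocalHom fL := ((local_hom_TFAE fL).out 2 0).1 (by
    rw [← Localization.AtPrime.map_eq_maximalIdeal, Ideal.map_map, IsLocalization.lift_comp]
    exact hle')
  obtain ⟨g, hg, -⟩ := (Hensel.isHenselization_localHenz (Loc A N)).universal T fL this
  have hgι : ∀ p, g (ι p) = e p := fun p =>
    (congrArg (fun h => h (algebraMap _ (Loc A N) p)) (congrArg DFunLike.coe hg)).trans
      (IsLocalization.lift_eq hu p)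
  refine ⟨{ g with commutes' := fun a => (hgι (C a)).trans (aeval_C t a) }, fun i => ?_⟩
  exact (hgι (X i)).trans (aeval_X t i)

/-- **Universal property**: uniqueness; maps agreeing on the coordinates coincide. -/
theorem algHom_ext {φ ψ : Pn A N →ₐ[A] T} (h : ∀ i, φ (x i) = ψ (x i))
    (hm : ∀ i, φ (x i) ∈ maximalIdeal T) : φ = ψ := by
  have hι : ∀ p, φ (ι p) = ψ (ι p) := fun p => by
    rw [ι_eq_aeval, ← AlgHom.comp_apply, ← AlgHom.comp_apply, comp_aeval, comp_aeval]
    simp only [h]
  have hL : φ.toRingHom.comp (algebraMap (Loc A N) (Pn A N)) = ψ.toRingHom.comp (algebraMap (Loc A N) (Pn A N)) :=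
    IsLocalization.ringHom_ext (originIdeal A : Ideal (MvPolynomial (Fin N) A)).primeCompl (RingHom.ext hι)
  have hloc : IsLocalHom (φ.toRingHom.comp (algebraMap (Loc A N) (Pn A N))) :=
    ((local_hom_TFAE _).out 2 0).1 (by
      rw [← Localization.AtPrime.map_eq_maximalIdeal, Ideal.map_map, RingHom.comp_assoc]
      show (originIdeal A).map (φ.toRingHom.comp ι) ≤ _
      refine (origin_le_iff _ _).2 ⟨fun a ha => ?_, hm⟩
      show φ (ι (C a)) ∈ maximalIdeal T
      rw [← algebraMap_eq, φ.commutes]
      exact map_nonunit _ a ha)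
  obtain ⟨g, -, huniq⟩ := (Hensel.isHenselization_localHenz (Loc A N)).universal T _ hloc
  exact AlgHom.ext fun y => RingHom.congr_fun ((huniq φ.toRingHom rfl).trans (huniq ψ.toRingHom hL.symm).symm) y

theorem isLocalHom_of_algHom {φ : Pn A N →ₐ[A] T} (hm : ∀ i, φ (x i) ∈ maximalIdeal T) :
    IsLocalHom φ.toRingHom :=
  ((local_hom_TFAE φ.toRingHom).out 2 0).1 (by
    rw [maximalIdeal_eq, Ideal.map_sup, Ideal.map_map, Ideal.map_span, AlgHom.toRingHom_eq_coe,
      AlgHom.comp_algebraMap]
    refine sup_le (Ideal.map_le_iff_le_comap.2 fun a ha => map_nonunit _ a ha) (Ideal.span_le.2 ?_)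
    rintro _ ⟨_, ⟨i, rfl⟩, rfl⟩
    exact hm i)

end Groth.Agent.Morse46
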