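import Groth.Agent.Morse46.Pn
import Mathlib.RingTheory.Henselian

/-!
# Henselization of a quotient of affine space at the origin

For an ideal `J ⊆ (𝔪_A, X)` of `A[X]`, the henselization of `A[X]/J` at the origin is `Pn A N / J`.
-/

set_option linter.style.haveILetI false
set_option linter.unusedSectionVars false

noncomputable section

namespace Groth.Agent.Morse46

open IsLocalRing MvPolynomial VanCyc

universe u

variable {A : Type u} [CommRing A] [IsLocalRing A] {N : ℕ}

theorem ι_mem_maximalIdeal {p : MvPolynomial (Fin N) A}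
    (hp : p ∈ (originIdeal A : Ideal (MvPolynomial (Fin N) A))) : ι p ∈ maximalIdeal (Pn A N) := by
  have h1 : algebraMap _ (Loc A N) p ∈ maximalIdeal (Loc A N) := by
    rw [← Localization.AtPrime.map_eq_maximalIdeal]
    exact Ideal.mem_map_of_mem _ hp
  exact map_nonunit (algebraMap (Loc A N) (Pn A N)) _ h1

theorem isUnit_ι {p : MvPolynomial (Fin N) A}
    (hp : p ∉ (originIdeal A : Ideal (MvPolynomial (Fin N) A))) : IsUnit (ι p) :=
  (IsLocalization.map_units (Loc A N)
    (⟨p, hp⟩ : (originIdeal A : Ideal (MvPolynomial (Fin N) A)).primeCompl)).map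
      (algebraMap (Loc A N) (Pn A N))

variable (J : Ideal (MvPolynomial (Fin N) A))

/-- The henselization of `A[X]/J` at the origin, as a quotient of `Pn A N`. -/
abbrev PQ : Type u := Pn A N ⧸ J.map ι

variable {J}

theorem map_ι_le (hJ : J ≤ originIdeal A) : J.map ι ≤ maximalIdeal (Pn A N) :=
  Ideal.map_le_iff_le_comap.2 fun _ hp => ι_mem_maximalIdeal (hJ hp)

theorem map_ι_ne_top (hJ : J ≤ originIdeal A) : J.map ι ≠ ⊤ :=
  fun h => (maximalIdeal.isMaximal (Pn A N)).ne_top (top_le_iff.1 (h ▸ map_ι_le hJ))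

theorem isLocalRing_quot {R : Type*} [CommRing R] [IsLocalRing R] {I : Ideal R} (hI : I ≠ ⊤) :
    IsLocalRing (R ⧸ I) :=
  have := Ideal.Quotient.nontrivial_iff.2 hI
  IsLocalRing.of_surjective' (Ideal.Quotient.mk I) Ideal.Quotient.mk_surjective

theorem henselianLocalRing_of_surj {R B : Type*} [CommRing R] [CommRing B] [HenselianLocalRing R]
    [IsLocalRing B] (π : R →+* B) (hπ : Function.Surjective π) : HenselianLocalRing B := by
  haveI : IsLocalHom π := hπ.isLocalHom π
  refine { is_henselian := fun f hf b₀ h0 h1 => ?_ }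
  obtain ⟨F, hF, -, hFm⟩ := Polynomial.lifts_and_natDegree_eq_and_monic
    ((Polynomial.mem_lifts f).2 (Polynomial.map_surjective π hπ f)) hf
  obtain ⟨a₀, rfl⟩ := hπ b₀
  rw [← hF, Polynomial.eval_map, Polynomial.eval₂_at_apply] at h0
  rw [← hF, Polynomial.derivative_map, Polynomial.eval_map, Polynomial.eval₂_at_apply] at h1
  obtain ⟨a, ha, ha'⟩ := HenselianLocalRing.is_henselian F hFm a₀
    (by rw [mem_maximalIdeal, mem_nonunits_iff] at h0 ⊢; exact fun h => h0 (h.map π))
    ((isUnit_map_iff π _).1 h1)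
  refine ⟨π a, ?_, ?_⟩
  · rw [Polynomial.IsRoot.def, ← hF, Polynomial.eval_map, Polynomial.eval₂_at_apply, ha.eq_zero,
      map_zero]
  · rw [← map_sub, mem_maximalIdeal, mem_nonunits_iff, isUnit_map_iff]
    exact ha'

theorem henselianLocalRing_quot {R : Type*} [CommRing R] [HenselianLocalRing R] {I : Ideal R} (hI : I ≠ ⊤) :
    HenselianLocalRing (R ⧸ I) :=
  haveI := isLocalRing_quot hI
  henselianLocalRing_of_surj (Ideal.Quotient.mk I) Ideal.Quotient.mk_surjective

theorem isLocalHom_algebraMap_quot {R B : Type*} [CommRing R] [CommRing B] [Algebra R B]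
    [IsLocalHom (algebraMap R B)] [IsLocalRing B] {I : Ideal B} (hI : I ≠ ⊤) :
    IsLocalHom (algebraMap R (B ⧸ I)) :=
  haveI := Ideal.Quotient.nontrivial_iff.2 hI
  haveI : IsLocalHom (Ideal.Quotient.mk I) := Ideal.Quotient.mk_surjective.isLocalHom _
  RingHom.isLocalHom_comp (Ideal.Quotient.mk I) (algebraMap R B)

/-- The henselization of `A[X]/J` at the origin is `Pn A N / J`. -/
theorem exists_algEquiv_quot (hJ : J ≤ originIdeal A)
    (q : Ideal (MvPolynomial (Fin N) A ⧸ J)) [q.IsPrime]
    (hq : q = (originIdeal A : Ideal (MvPolynomial (Fin N) A)).map (Ideal.Quotient.mk J))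
    (C : Type u) [CommRing C] [IsLocalRing C] [Algebra (Localization.AtPrime q) C]
    [IsLocalHom (algebraMap (Localization.AtPrime q) C)]
    [Hensel.IsHenselization (Localization.AtPrime q) C] [Algebra A C]
    [IsScalarTower A (Localization.AtPrime q) C] : Nonempty (PQ J ≃ₐ[A] C) := by
  haveI hH : Hensel.IsHenselization (Localization.AtPrime q) C := inferInstance
  haveI : HenselianLocalRing C := hH.henselian
  haveI : HenselianLocalRing (PQ J) := henselianLocalRing_quot (map_ι_ne_top hJ)
  haveI : IsLocalHom (Ideal.Quotient.mk (J.map (ι (A := A) (N := N)))) :=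
    Ideal.Quotient.mk_surjective.isLocalHom _
  haveI : IsLocalHom (algebraMap A (PQ J)) := isLocalHom_algebraMap_quot (map_ι_ne_top hJ)
  set L := Localization.AtPrime q
  have hmk : ∀ {p : MvPolynomial (Fin N) A}, Ideal.Quotient.mk J p ∈ q ↔ p ∈ originIdeal A := fun {p} => by
    rw [hq, ← Ideal.mem_comap, Ideal.comap_map_of_surjective' _ Ideal.Quotient.mk_surjective,
      Ideal.mk_ker, sup_eq_left.2 hJ]
  let f : MvPolynomial (Fin N) A ⧸ J →+* PQ J := Ideal.quotientMap (J.map ι) ι Ideal.le_comap_map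
  have hf : ∀ p, f (Ideal.Quotient.mk J p) = Ideal.Quotient.mk (J.map ι) (ι p) := fun p =>
    Ideal.quotientMap_mk
  have hu : ∀ s : q.primeCompl, IsUnit (f s) := fun s => by
    obtain ⟨p, hp⟩ := Ideal.Quotient.mk_surjective (s : MvPolynomial (Fin N) A ⧸ J)
    rw [← hp, hf]
    exact (isUnit_ι fun h => s.2 (hp ▸ hmk.2 h)).map _
  let g : L →+* PQ J := IsLocalization.lift hu
  have hg : ∀ p, g (algebraMap (MvPolynomial (Fin N) A ⧸ J) L (Ideal.Quotient.mk J p)) =
      Ideal.Quotient.mk (J.map ι) (ι p) := fun p => (IsLocalization.lift_eq hu _).trans (hf p)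
  have : IsLocalHom g := ((local_hom_TFAE g).out 2 0).1 (by
    rw [← Localization.AtPrime.map_eq_maximalIdeal, Ideal.map_map, IsLocalization.lift_comp,
      Ideal.map_le_iff_le_comap]
    intro x hx
    obtain ⟨p, rfl⟩ := Ideal.Quotient.mk_surjective x
    rw [Ideal.mem_comap, hf]
    exact map_nonunit (Ideal.Quotient.mk (J.map ι)) _ (ι_mem_maximalIdeal (hmk.1 hx)))
  obtain ⟨h, hh, -⟩ := hH.universal (PQ J) g this
  have hh' : ∀ l, h (algebraMap L C l) = g l := fun l => RingHom.congr_fun hh l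
  have halg : ∀ a : A, algebraMap A C a =
      algebraMap L C (algebraMap (MvPolynomial (Fin N) A ⧸ J) L (Ideal.Quotient.mk J (MvPolynomial.C a))) :=
    fun a => (IsScalarTower.algebraMap_apply A L C a).trans
      (congrArg (algebraMap L C) (IsScalarTower.algebraMap_apply A (MvPolynomial (Fin N) A ⧸ J) L a))
  let hₐ : C →ₐ[A] PQ J := { h with
    commutes' := fun a => by
      show h (algebraMap A C a) = _
      rw [halg, hh', hg]
      rfl }
  haveI : IsLocalHom (algebraMap A C) := by
    refine ((local_hom_TFAE (algebraMap A C)).out 2 0).1 (Ideal.map_le_iff_le_comap.2 fun a ha => ?_)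
    rw [Ideal.mem_comap, halg]
    refine map_nonunit (algebraMap L C) _ ?_
    rw [← Localization.AtPrime.map_eq_maximalIdeal]
    exact Ideal.mem_map_of_mem _ (hmk.2 (Ideal.mem_sup_left (Ideal.mem_map_of_mem _ ha)))
  let φ₀ : MvPolynomial (Fin N) A →+* C :=
    (algebraMap L C).comp ((algebraMap _ L).comp (Ideal.Quotient.mk J))
  have hφm : ∀ i, φ₀ (X i) ∈ maximalIdeal C := fun i => by
    refine map_nonunit (algebraMap L C) _ ?_
    rw [← Localization.AtPrime.map_eq_maximalIdeal]
    exact Ideal.mem_map_of_mem _ (hmk.2 (Ideal.mem_sup_right (Ideal.subset_span ⟨i, rfl⟩)))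
  obtain ⟨φ, hφ⟩ := exists_algHom (A := A) (T := C) (fun i => φ₀ (X i)) hφm
  have hφι : ∀ p, φ (ι p) = φ₀ p := by
    have : φ.toRingHom.comp ι = φ₀ := MvPolynomial.ringHom_ext
      (fun a => (φ.commutes a).trans (halg a)) hφ
    exact fun p => RingHom.congr_fun this p
  have hker : J.map ι ≤ RingHom.ker φ.toRingHom := Ideal.map_le_iff_le_comap.2 fun p hp => by
    show φ (ι p) = 0
    rw [hφι]
    show algebraMap L C (algebraMap _ L (Ideal.Quotient.mk J p)) = 0
    rw [Ideal.Quotient.eq_zero_iff_mem.2 hp, map_zero, map_zero]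
  let φ' : PQ J →ₐ[A] C := Ideal.Quotient.liftₐ (J.map ι) φ fun y hy => hker hy
  refine ⟨AlgEquiv.ofAlgHom φ' hₐ ?_ ?_⟩
  · apply AlgHom.coe_ringHom_injective
    refine (hH.universal C (algebraMap L C) inferInstance).unique ?_ (RingHom.id_comp _)
    refine IsLocalization.ringHom_ext q.primeCompl (RingHom.ext fun x => ?_)
    obtain ⟨p, rfl⟩ := Ideal.Quotient.mk_surjective x
    show φ' (h (algebraMap L C (algebraMap _ L (Ideal.Quotient.mk J p)))) = _
    rw [hh', hg]
    show φ (ι p) = _
    rw [hφι]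
    rfl
  · apply Ideal.Quotient.algHom_ext
    refine algHom_ext (fun i => ?_) fun i => ?_
    · show h (φ (x i)) = Ideal.Quotient.mk (J.map ι) (x i)
      rw [hφ]
      show h (algebraMap L C (algebraMap _ L (Ideal.Quotient.mk J (X i)))) = _
      rw [hh', hg]
      rfl
    · show h (φ (x i)) ∈ maximalIdeal (PQ J)
      rw [hφ]
      show h (algebraMap L C (algebraMap _ L (Ideal.Quotient.mk J (X i)))) ∈ _
      rw [hh', hg]
      exact map_nonunit (Ideal.Quotient.mk (J.map ι)) _ (x_mem i)

end Groth.Agent.Morse46
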