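import Groth.Agent.Morse46.Normal
import Mathlib.RingTheory.AdjoinRoot

/-!
# Weierstrass preparation of order two

An element `c + l t + h t²` of the henselization of the affine line, with `c, l` in the maximal ideal
and `h` a unit, is a unit times `t² + b t + c'`.
-/

set_option linter.style.haveILetI false
set_option linter.unusedSectionVars false

noncomputable section

namespace Groth.Agent.Morse46

open IsLocalRing VanCyc Matrix

universe u

variable {A : Type u} [CommRing A] [HenselianLocalRing A]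

/-- `X² + b X + c`. -/
abbrev qpoly (b c : A) : Polynomial A :=
  Polynomial.X ^ 2 + Polynomial.C b * Polynomial.X + Polynomial.C c

theorem qpoly_monic (b c : A) : (qpoly b c).Monic := by
  rw [qpoly]
  monicity!

theorem adjoinRoot_props {b c : A} (hb : b ∈ maximalIdeal A) (hc : c ∈ maximalIdeal A) :
    ∃ _ : HenselianLocalRing (AdjoinRoot (qpoly b c)),
      IsLocalHom (algebraMap A (AdjoinRoot (qpoly b c))) ∧
      AdjoinRoot.root (qpoly b c) ∈ maximalIdeal (AdjoinRoot (qpoly b c)) ∧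
      ∀ z : AdjoinRoot (qpoly b c), ∃ r₀ r₁ : A,
        z = algebraMap A _ r₀ + algebraMap A _ r₁ * AdjoinRoot.root (qpoly b c) := by
  set F := qpoly b c with hF
  have hm : F.Monic := qpoly_monic b c
  have hdeg : F.natDegree = 2 := by
    rw [hF, qpoly]
    compute_degree!
  haveI : Module.Finite A (AdjoinRoot F) := hm.finite_adjoinRoot
  set r := AdjoinRoot.root F with hr
  have hrel : r ^ 2 + algebraMap A _ b * r + algebraMap A _ c = 0 := by
    have h := AdjoinRoot.eval₂_root F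
    simpa [hF, qpoly, Polynomial.eval₂_add, Polynomial.eval₂_pow, AdjoinRoot.algebraMap_eq, hr] using h
  have hrep : ∀ z : AdjoinRoot F, ∃ r₀ r₁ : A, z = algebraMap A _ r₀ + algebraMap A _ r₁ * r := by
    intro z
    refine ⟨(AdjoinRoot.modByMonicHom hm z).coeff 0, (AdjoinRoot.modByMonicHom hm z).coeff 1, ?_⟩
    conv_lhs => rw [← AdjoinRoot.mk_leftInverse hm z]
    have hlt : (AdjoinRoot.modByMonicHom hm z).natDegree < 2 := by
      induction z using AdjoinRoot.induction_on with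
      | ih p =>
        rw [AdjoinRoot.modByMonicHom_mk]
        exact hdeg ▸ Polynomial.natDegree_modByMonic_lt p hm (fun h => by simp [h] at hdeg)
    conv_lhs => rw [(AdjoinRoot.modByMonicHom hm z).as_sum_range' 2 hlt]
    simp [Finset.sum_range_succ, AdjoinRoot.algebraMap_eq, ← Polynomial.C_mul_X_pow_eq_monomial, hr]
  -- the unique maximal ideal
  let f : AdjoinRoot F →+* ResidueField A := AdjoinRoot.lift (residue A) 0 (by
    simp [hF, qpoly, Polynomial.eval₂_add, (residue_eq_zero_iff c).2 hc])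
  have hfs : Function.Surjective f := fun z => by
    obtain ⟨a, rfl⟩ := residue_surjective z
    exact ⟨algebraMap A _ a, by simp [f, AdjoinRoot.algebraMap_eq]⟩
  haveI hfm : (RingHom.ker f).IsMaximal := RingHom.ker_isMaximal_of_surjective f hfs
  have huniq : ∀ M : Ideal (AdjoinRoot F), M.IsMaximal → M = RingHom.ker f := fun M hM => by
    have hA : (maximalIdeal A).map (algebraMap A (AdjoinRoot F)) ≤ M :=
      (Hensel.map_maximalIdeal_le_jacobson A (AdjoinRoot F)).trans (sInf_le ⟨bot_le, hM⟩)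
    have hr2 : r ^ 2 ∈ M := by
      rw [show r ^ 2 = -(algebraMap A _ b * r) - algebraMap A _ c by linear_combination hrel]
      exact sub_mem (neg_mem (Ideal.mul_mem_right _ _ (hA (Ideal.mem_map_of_mem _ hb))))
        (hA (Ideal.mem_map_of_mem _ hc))
    have hrM : r ∈ M := hM.isPrime.mem_of_pow_mem 2 hr2
    refine (hfm.eq_of_le hM.ne_top fun z hz => ?_).symm
    obtain ⟨r₀, r₁, rfl⟩ := hrep z
    have h0 : r₀ ∈ maximalIdeal A := by
      rw [← residue_eq_zero_iff]
      rw [RingHom.mem_ker] at hz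
      simpa [f, AdjoinRoot.algebraMap_eq, hr] using hz
    exact add_mem (hA (Ideal.mem_map_of_mem _ h0)) (Ideal.mul_mem_left _ _ hrM)
  haveI : IsLocalRing (AdjoinRoot F) := IsLocalRing.of_unique_max_ideal ⟨RingHom.ker f, hfm, huniq⟩
  have hmax : maximalIdeal (AdjoinRoot F) = RingHom.ker f := huniq _ (maximalIdeal.isMaximal _)
  refine ⟨Hensel.henselianLocalRing_of_finite A (AdjoinRoot F), ?_, ?_, hrep⟩
  · refine ((local_hom_TFAE (algebraMap A (AdjoinRoot F))).out 2 0).1 (Ideal.map_le_iff_le_comap.2 fun a ha => ?_)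
    rw [Ideal.mem_comap, hmax, RingHom.mem_ker]
    simp [f, AdjoinRoot.algebraMap_eq, (residue_eq_zero_iff a).2 ha]
  · show r ∈ _
    rw [hmax, RingHom.mem_ker]
    simp [f, hr]

/-- The quadratic extension `A[X]/(X² + bX + c)` as an abstract henselian local algebra. -/
theorem exists_quadExt {b c : A} (hb : b ∈ maximalIdeal A) (hc : c ∈ maximalIdeal A) :
    ∃ (S : Type u) (_ : CommRing S) (_ : HenselianLocalRing S) (_ : Algebra A S) (r : S),
      IsLocalHom (algebraMap A S) ∧ r ∈ maximalIdeal S ∧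
      r ^ 2 + algebraMap A S b * r + algebraMap A S c = 0 ∧
      (∀ z : S, ∃ r₀ r₁ : A, z = algebraMap A S r₀ + algebraMap A S r₁ * r) ∧
      ∀ (T : Type u) [CommRing T] (f : A →+* T) (t : T), t ^ 2 + f b * t + f c = 0 →
        ∃ ζ : S →+* T, (∀ a, ζ (algebraMap A S a) = f a) ∧ ζ r = t := by
  obtain ⟨hS, hloc, hr, hrep⟩ := adjoinRoot_props hb hc
  refine ⟨AdjoinRoot (qpoly b c), inferInstance, hS, inferInstance, AdjoinRoot.root _, hloc, hr, ?_, hrep,
    fun T _ f t ht => ⟨AdjoinRoot.lift f t (by simpa [qpoly, Polynomial.eval₂_add, Polynomial.eval₂_pow] using ht),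
      fun a => by simp [AdjoinRoot.algebraMap_eq], by simp⟩⟩
  have h := AdjoinRoot.eval₂_root (qpoly b c)
  simpa [qpoly, Polynomial.eval₂_add, Polynomial.eval₂_pow, AdjoinRoot.algebraMap_eq] using h

/-- `X₀² + b X₀ + c`. -/
def qF (b c : A) : MvPolynomial (Fin 1) A :=
  MvPolynomial.X 0 ^ 2 + MvPolynomial.C b * MvPolynomial.X 0 + MvPolynomial.C c

theorem ι_qF (b c : A) : ι (qF b c) =
    x 0 ^ 2 + algebraMap A (Pn A 1) b * x 0 + algebraMap A (Pn A 1) c := by
  simp [qF, x, algebraMap_eq]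

/-- Elements killed by evaluation in `A[X]/(X² + bX + c)` are divisible by `X² + bX + c`. -/
theorem mem_span_of_eval_eq_zero {b c : A} (hc : c ∈ maximalIdeal A)
    {T : Type u} [CommRing T] [Algebra A T] (r : T)
    (hup : ∀ (T' : Type u) [CommRing T'] (f : A →+* T') (t : T'), t ^ 2 + f b * t + f c = 0 →
        ∃ ζ : T →+* T', (∀ a, ζ (algebraMap A T a) = f a) ∧ ζ r = t)
    (φ : Pn A 1 →ₐ[A] T) (hφ : φ (x 0) = r)
    {z : Pn A 1} (hz : φ z = 0) : z ∈ Ideal.span {ι (qF b c)} := by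
  have hI : Ideal.span {ι (qF b c)} ≠ ⊤ := fun h => by
    refine (maximalIdeal.isMaximal (Pn A 1)).ne_top (top_le_iff.1 (h ▸ ?_))
    rw [Ideal.span_singleton_le_iff_mem, ι_qF]
    exact add_mem (add_mem (Ideal.pow_mem_of_mem _ (x_mem 0) 2 two_pos) (Ideal.mul_mem_left _ _ (x_mem 0)))
      (map_nonunit _ _ hc)
  haveI : HenselianLocalRing (Pn A 1 ⧸ Ideal.span {ι (qF b c)}) := henselianLocalRing_quot hI
  haveI : IsLocalHom (algebraMap A (Pn A 1 ⧸ Ideal.span {ι (qF b c)})) := isLocalHom_algebraMap_quot hI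
  haveI : IsLocalHom (Ideal.Quotient.mk (Ideal.span {ι (qF b c)})) := Ideal.Quotient.mk_surjective.isLocalHom _
  have h1 : Ideal.Quotient.mk (Ideal.span {ι (qF b c)})
      (x 0 ^ 2 + algebraMap A (Pn A 1) b * x 0 + algebraMap A (Pn A 1) c) = 0 := by
    rw [← ι_qF]
    exact Ideal.Quotient.eq_zero_iff_mem.2 (Ideal.mem_span_singleton_self _)
  rw [map_add, map_add, map_pow, map_mul] at h1
  obtain ⟨L, hLA, hLr⟩ := hup _ (algebraMap A (Pn A 1 ⧸ Ideal.span {ι (qF b c)})) (Ideal.Quotient.mk _ (x 0)) h1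
  let Lₐ : T →ₐ[A] Pn A 1 ⧸ Ideal.span {ι (qF b c)} := { L with commutes' := hLA }
  have hx : ∀ i, Lₐ.comp φ (x i) = Ideal.Quotient.mk _ (x i) := fun i => by
    obtain rfl : i = 0 := Subsingleton.elim _ _
    show L (φ (x 0)) = _
    rw [hφ, hLr]
  have hcomp : Lₐ.comp φ = Ideal.Quotient.mkₐ A (Ideal.span {ι (qF b c)}) :=
    algHom_ext hx fun i => (hx i).symm ▸ map_nonunit (Ideal.Quotient.mk (Ideal.span {ι (qF b c)})) _ (x_mem i)
  rw [← Ideal.Quotient.eq_zero_iff_mem]
  have h2 := congr($hcomp z)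
  rw [AlgHom.comp_apply, hz, map_zero] at h2
  exact h2.symm

set_option maxHeartbeats 2000000 in
/-- **Weierstrass preparation** of order two. -/
theorem exists_weierstrass {c₀ l₀ : A} (hc₀ : c₀ ∈ maximalIdeal A) (hl₀ : l₀ ∈ maximalIdeal A)
    {h : Pn A 1} (hh : IsUnit h) :
    ∃ (b c : A) (w : Pn A 1), b ∈ maximalIdeal A ∧ c ∈ maximalIdeal A ∧ IsUnit w ∧
      algebraMap A (Pn A 1) c₀ + algebraMap A (Pn A 1) l₀ * x 0 + h * x 0 ^ 2 = ι (qF b c) * w := by
  set g := algebraMap A (Pn A 1) c₀ + algebraMap A (Pn A 1) l₀ * x 0 + h * x 0 ^ 2 with hg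
  -- the universal parameters
  have hb' : (x 0 : Pn A 2) ∈ maximalIdeal (Pn A 2) := x_mem 0
  have hc' : (x 1 : Pn A 2) ∈ maximalIdeal (Pn A 2) := x_mem 1
  obtain ⟨S, _, _, _, r, hSloc, hr, hrel, hrep, hup⟩ := exists_quadExt hb' hc'
  letI : Algebra A S := ((algebraMap (Pn A 2) S).comp (algebraMap A (Pn A 2))).toAlgebra
  haveI : IsScalarTower A (Pn A 2) S := .of_algebraMap_eq fun _ => rfl
  haveI : IsLocalHom (algebraMap A S) :=
    haveI := hSloc
    RingHom.isLocalHom_comp (algebraMap (Pn A 2) S) (algebraMap A (Pn A 2))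
  obtain ⟨χ, hχ⟩ := exists_algHom (A := A) (T := S) (fun _ : Fin 1 => r) fun _ => hr
  obtain ⟨h₀, h₁, hh'⟩ := hrep (χ h)
  set α := algebraMap A (Pn A 2)
  set β := algebraMap (Pn A 2) S
  set b' : Pn A 2 := x 0
  set c' : Pn A 2 := x 1
  let r₀ := α c₀ - h₀ * c' + h₁ * b' * c'
  let r₁ := α l₀ - h₀ * b' - h₁ * c' + h₁ * b' ^ 2
  have hχg : χ g = β r₀ + β r₁ * r := by
    rw [hg, map_add, map_add, map_mul, map_mul, map_pow, χ.commutes, χ.commutes, hχ, hh',
      IsScalarTower.algebraMap_apply A (Pn A 2) S, IsScalarTower.algebraMap_apply A (Pn A 2) S]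
    simp only [r₀, r₁, map_add, map_sub, map_mul, map_pow]
    linear_combination (β h₀ + β h₁ * r - β h₁ * β b') * hrel
  have hh₀ : IsUnit h₀ := by
    by_contra hcon
    haveI := hSloc
    have h1 : χ h ∈ maximalIdeal S := by
      rw [hh']
      exact add_mem (map_nonunit β h₀ ((mem_maximalIdeal _).2 hcon)) (Ideal.mul_mem_left _ _ hr)
    exact (mem_maximalIdeal _).1 h1 (hh.map χ)
  obtain ⟨u₀, hu₀⟩ := exists_sub_mem h₀
  obtain ⟨u₁, hu₁⟩ := exists_sub_mem h₁
  have hu₀u : IsUnit u₀ := by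
    refine isUnit_of_map_unit α u₀ ?_
    rw [← IsLocalRing.notMem_maximalIdeal]
    intro h
    refine (mem_maximalIdeal _).1 ?_ hh₀
    rw [show h₀ = (h₀ - α u₀) + α u₀ by ring]
    exact add_mem hu₀ h
  have hmm : ∀ {p q : Pn A 2}, p ∈ maximalIdeal (Pn A 2) → q ∈ maximalIdeal (Pn A 2) → p * q ∈ W A 2 :=
    fun hp hq => Ideal.mem_sup_right (sq (maximalIdeal (Pn A 2)) ▸ Ideal.mul_mem_mul hp hq)
  let J : Matrix (Fin 2) (Fin 2) A := !![-u₁, -u₀; 0, -u₀]
  let J' : Matrix (Fin 2) (Fin 2) A := !![0, -u₀; -u₀, -u₁]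
  have hJ : IsUnit J'.det := by
    rw [Matrix.det_fin_two_of]
    simpa using hu₀u.mul hu₀u
  have hlin : ∀ i, ![r₀, r₁] i - ∑ j, α (J' i j) * x j ∈ W A 2 := by
    intro i
    fin_cases i
    · show r₀ - _ ∈ _
      simp only [Fin.sum_univ_two, J', Fin.isValue, Matrix.of_apply, Matrix.cons_val', Matrix.cons_val_zero,
        Matrix.cons_val_one, Matrix.cons_val_fin_one, Fin.zero_eta, map_zero, zero_mul, zero_add, map_neg]
      rw [show r₀ - -α u₀ * c' = α c₀ + (-(h₀ - α u₀)) * c' + h₁ * b' * c' by simp only [r₀]; ring]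
      exact add_mem (add_mem (Ideal.mem_sup_left (Ideal.mem_map_of_mem _ hc₀)) (hmm (neg_mem hu₀) hc'))
        (hmm (Ideal.mul_mem_left _ _ hb') hc')
    · show r₁ - _ ∈ _
      simp only [Fin.sum_univ_two, J', Fin.isValue, Matrix.of_apply, Matrix.cons_val', Matrix.cons_val_zero,
        Matrix.cons_val_one, Matrix.cons_val_fin_one, Fin.mk_one, map_neg]
      rw [show r₁ - (-α u₀ * b' + -α u₁ * c') =
          α l₀ + (-(h₀ - α u₀)) * b' + (-(h₁ - α u₁)) * c' + h₁ * b' ^ 2 by simp only [r₁]; ring]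
      refine add_mem (add_mem (add_mem (Ideal.mem_sup_left (Ideal.mem_map_of_mem _ hl₀)) (hmm (neg_mem hu₀) hb'))
        (hmm (neg_mem hu₁) hc')) ?_
      rw [sq, ← mul_assoc]
      exact hmm (Ideal.mul_mem_left _ _ hb') hb'
  obtain ⟨σ, hσ⟩ := exists_algHom (A := A) ![r₀, r₁] (mem_maximalIdeal_of_linear _ J' hlin)
  let σe := AlgEquiv.ofBijective σ (bijective_of_linear σ J' hJ (by simpa [hσ] using hlin))
  let e : Pn A 2 →ₐ[A] A := (eval0 A 2).comp σe.symm.toAlgHom
  have her : ∀ i, e (![r₀, r₁] i) = 0 := fun i => by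
    show eval0 A 2 (σe.symm _) = 0
    rw [show σe.symm (![r₀, r₁] i) = x i by rw [AlgEquiv.symm_apply_eq]; exact (hσ i).symm, eval0_x]
  have hem : ∀ i, e (x i) ∈ maximalIdeal A := by
    intro i
    haveI : IsLocalHom (eval0 A 2).toRingHom := isLocalHom_of_algHom fun i => by simp
    refine map_nonunit (eval0 A 2).toRingHom _ ?_
    rw [mem_maximalIdeal, mem_nonunits_iff]
    intro hu
    exact (mem_maximalIdeal _).1 (x_mem i) (by simpa using hu.map σe.toAlgHom)
  obtain ⟨S', _, _, _, r', hS'loc, hr', hrel', -, hup'⟩ := exists_quadExt (hem 0) (hem 1)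
  set b := e (x 0)
  set c := e (x 1)
  obtain ⟨ζ, hζβ, hζr⟩ := hup S' ((algebraMap A S').comp e.toRingHom) r' hrel'
  let ζχ : Pn A 1 →ₐ[A] S' :=
    { ζ.comp χ.toRingHom with
      commutes' := fun a => by
        show ζ (χ (algebraMap A (Pn A 1) a)) = _
        rw [χ.commutes, IsScalarTower.algebraMap_apply A (Pn A 2) S, hζβ]
        exact congrArg (algebraMap A S') (e.commutes a) }
  have hx0 : ζχ (x 0) = r' := (congrArg ζ (hχ 0)).trans hζr
  have hg0 : ζχ g = 0 := by
    show ζ (χ g) = 0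
    rw [hχg, map_add, map_mul, hζβ, hζβ, hζr, RingHom.comp_apply, RingHom.comp_apply,
      show e.toRingHom r₀ = 0 from her 0, show e.toRingHom r₁ = 0 from her 1, map_zero, zero_mul, add_zero]
  obtain ⟨w, hw⟩ := Ideal.mem_span_singleton'.1 (mem_span_of_eval_eq_zero (hem 1) r' hup' ζχ hx0 hg0)
  refine ⟨b, c, w, hem 0, hem 1, ?_, by rw [← hw, mul_comm]⟩
  -- compare the coefficients of `x²` on the closed fibre
  haveI : IsLocalHom (algebraMap A (ResidueField A)) := residue_surjective.isLocalHom _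
  have hb0 : algebraMap A (ResidueField A) b = 0 := algebraMap_eq_zero_of_mem (hem 0)
  have hc00 : algebraMap A (ResidueField A) c = 0 := algebraMap_eq_zero_of_mem (hem 1)
  have hq := congrArg (fun z => MvPowerSeries.coeff (Finsupp.single (0 : Fin 1) 2) (E A (ResidueField A) 1 z)) hw
  simp only [hg, ι_qF, map_mul, map_add, map_pow, AlgHom.commutes, E_x,
    IsScalarTower.algebraMap_apply A (ResidueField A) (MvPowerSeries (Fin 1) (ResidueField A)),
    algebraMap_eq_zero_of_mem hc₀, algebraMap_eq_zero_of_mem hl₀, hb0, hc00,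
    algebraMap_eq_zero_of_mem (K := ResidueField A) (hem 0),
    algebraMap_eq_zero_of_mem (K := ResidueField A) (hem 1), map_zero, zero_mul, zero_add, add_zero,
    MvPowerSeries.X_pow_eq, MvPowerSeries.coeff_mul_monomial, le_refl, if_true, tsub_self, mul_one,
    MvPowerSeries.coeff_zero_eq_constantCoeff_apply] at hq
  haveI := isLocalHom_of_algHom (φ := E A (ResidueField A) 1) E_x_mem
  refine isUnit_of_map_unit (E A (ResidueField A) 1).toRingHom w (MvPowerSeries.isUnit_iff_constantCoeff.2 ?_)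
  rw [AlgHom.toRingHom_eq_coe, RingHom.coe_coe, hq]
  exact MvPowerSeries.isUnit_iff_constantCoeff.1 (hh.map (E A (ResidueField A) 1))

end Groth.Agent.Morse46
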